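import Cfsg.Agent.Mrg.Omega.NO3S.Pt.Path
import Cfsg.Agent.Mrg.Omega.NO3S.TwoOne.Irr
import Mathlib

section


/-!
# NO-3S, `|V| = 4`, `n = 2`, TYPE N is dead (helper60, bb #16001): the base

* `Fr.le_kq`, `le_kq_pt` : (O);
* `act` : `u ∈ U_a` acts on `W_r` (`a ~ r`) by `x ↦ x` or `x ↦ a x`;
* `Jn V r a b` : `a`, `b` are joined at `r`; `K2 V` : `κ ≥ 2`;
* `Jn.mem_of_fix` : (1.3);
* `Mid.comm_uu` : (5.1), `Mid.cent_uu` : (1.5);
* `zr V r = Z(U_r)`.
-/

set_option autoImplicit false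
set_option linter.unusedSectionVars false

namespace Cfsg.Agent.Omega.NO3S.TypeN

open Subgroup Cfsg Cfsg.Agent.ZN Cfsg.Agent.MinSimple.Geo Cfsg.Agent.Omega.CaseL Cfsg.Agent.Omega.NO3S.TwoOne
  Cfsg.Agent.Omega.NO3S.Pt Cfsg.Agent.Omega.NO3S.TwoMid
open Cfsg.Agent.ZN.Block (conj_mem_of_normalizer conj_mem_of_normalizer' le_normalizer_of_forall
  mem_normalizer_of)

universe u

variable {G : Type u} [Group G] {T V : Subgroup G} {z : G}

/-! ### (O) -/

/-- `C_G(z)` normal subgroups which are 2-groups modulo `K_z` are in `K_z`. -/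
theorem le_kq [Finite G] (h : Fr T V z) {R : Subgroup G} (hR : R ≤ centralizer ({z} : Set G))
    (hn : centralizer ({z} : Set G) ≤ normalizer (R : Set G)) (h2 : ∀ r ∈ R, ∃ n : ℕ, r ^ 2 ^ n ∈ kq V z) :
    R ≤ kq V z := by
  have hfact : Fact (Nat.Prime 2) := ⟨Nat.prime_two⟩
  have hz := h.ln.z_mem
  have hz1 := h.ln.z_ne
  -- `N(V) ∩ C(z)` covers `R`
  have hodd := not_dvd_relIndex_of_normal h.ln.T_le h.ln.two h.ln.T_syl hR hn
  have hT : T ⊓ R ≤ normalizer (V : Set G) ⊓ R := inf_le_inf_right _ h.ln.T_norm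
  have hodd' : ¬ 2 ∣ (normalizer (V : Set G) ⊓ R).relIndex R := fun hd =>
    hodd (by
      rw [← inf_relIndex_right T R]
      exact hd.trans (relIndex_dvd_of_le_left R hT))
  have hK : kq V z ⊓ R ≤ normalizer (V : Set G) ⊓ R := inf_le_inf_right _ (h.kq_le_normalizer hz hz1)
  have hnorm : ((kq V z).subgroupOf R).Normal :=
    normal_subgroupOf_of_le_normalizer (hR.trans (centralizer_le_normalizer_kq V z))
  have h3 : IsPGroup 2 (R ⧸ (kq V z).subgroupOf R) := by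
    intro x
    obtain ⟨r, rfl⟩ := QuotientGroup.mk_surjective x
    obtain ⟨n, hn'⟩ := h2 r r.2
    refine ⟨n, ?_⟩
    rw [← QuotientGroup.mk_pow, QuotientGroup.eq_one_iff]
    exact mem_subgroupOf.mpr hn'
  obtain ⟨m, hm⟩ := IsPGroup.iff_card.mp h3
  have h4 : (kq V z).relIndex R = 2 ^ m := hm
  have h5 : (normalizer (V : Set G) ⊓ R).relIndex R ∣ 2 ^ m := by
    rw [← h4, ← inf_relIndex_right (kq V z) R]
    exact relIndex_dvd_of_le_left R hK
  have h6 : R ≤ normalizer (V : Set G) := by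
    obtain ⟨k, -, hk⟩ := (Nat.dvd_prime_pow Nat.prime_two).mp h5
    have h7 : (normalizer (V : Set G) ⊓ R).relIndex R = 1 := by
      rcases Nat.eq_zero_or_pos k with e | e
      · rw [hk, e, pow_zero]
      · exact absurd (hk ▸ dvd_pow_self 2 (by omega)) hodd'
    exact (relIndex_eq_one.mp h7).trans inf_le_left
  have hc : ws V z ≤ centralizer ({z} : Set G) := (h.ln.ws_le_o2).trans (o2_le _)
  have h8 : ∀ r ∈ R, ∀ w ∈ ws V z, r * w * r⁻¹ * w⁻¹ ∈ zpowers z := by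
    intro r hr
    let A : Subgroup G :=
      { carrier := {w | ∀ r ∈ R, r * w * r⁻¹ * w⁻¹ ∈ zpowers z ∧ w * z = z * w}
        mul_mem' := by
          intro a b ha hb r hr
          have haz := (ha r hr).2
          have hbz := (hb r hr).2
          refine ⟨?_, mul_comm_of haz hbz⟩
          have e : r * (a * b) * r⁻¹ * (a * b)⁻¹ =
              (r * a * r⁻¹ * a⁻¹) * (a * (r * b * r⁻¹ * b⁻¹) * a⁻¹) := by group
          rw [e, conj_zpowers (mem_centralizer_singleton_iff.mpr haz) (hb r hr).1]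
          exact mul_mem (ha r hr).1 (hb r hr).1
        one_mem' := fun r hr => ⟨by simp, by simp⟩
        inv_mem' := by
          intro a ha r hr
          have haz := (ha r hr).2
          refine ⟨?_, inv_comm_of haz⟩
          have e : r * a⁻¹ * r⁻¹ * a⁻¹⁻¹ = a⁻¹ * (r * a * r⁻¹ * a⁻¹)⁻¹ * a⁻¹⁻¹ := by group
          rw [e, conj_zpowers (inv_mem (mem_centralizer_singleton_iff.mpr haz)) (inv_mem (ha r hr).1)]
          exact inv_mem (ha r hr).1 }
    have hA : ws V z ≤ A := by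
      refine ws_le fun L hL => ?_
      obtain ⟨c, hc', rfl⟩ := h.ln.exists_of_mem_lines hL
      intro x hx r hr
      have hx' := mem_of_cj hx
      have hr' := conj_mem_of_normalizer' hn hc' hr
      refine ⟨?_, mem_centralizer_singleton_iff.mp (hc (le_ws hL hx))⟩
      have h9 : c⁻¹ * r * c * (c⁻¹ * x * c) * (c⁻¹ * r * c)⁻¹ * (c⁻¹ * x * c)⁻¹ ∈ zpowers z := by
        rcases h.ln.conj_cases hz hx' hz1 (mem_centralizer_singleton_iff.mp (hR hr')) (h6 hr') with e | e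
        · rw [e, mul_inv_cancel]; exact one_mem _
        · rw [e, mul_inv_cancel_right]; exact mem_zpowers z
      have e : r * x * r⁻¹ * x⁻¹ =
          c * (c⁻¹ * r * c * (c⁻¹ * x * c) * (c⁻¹ * r * c)⁻¹ * (c⁻¹ * x * c)⁻¹) * c⁻¹ := by group
      rw [e, conj_zpowers hc' h9]
      exact h9
    exact fun w hw => (hA hw r hr).1
  intro r hr
  refine ⟨hR hr, h8 r hr, fun w hw => ?_⟩
  have := h8 r⁻¹ (inv_mem hr) w hw
  rwa [inv_inv] at this

/-- (O) at every point -/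
theorem le_kq_pt [Finite G] (h : Fr T V z) {r : G} (hr : Col V r r) {R : Subgroup G}
    (hR : R ≤ centralizer ({r} : Set G)) (hn : centralizer ({r} : Set G) ≤ normalizer (R : Set G))
    (h2 : ∀ x ∈ R, ∃ n : ℕ, x ^ 2 ^ n ∈ kq V r) : R ≤ kq V r := by
  obtain ⟨g, k, -, -, -, hf⟩ := h.exists_flag hr
  have := le_kq hf (R := R) hR hn fun x hx => by
    obtain ⟨n, hn⟩ := h2 x hx
    exact ⟨n, by rwa [kq_cj]⟩
  rwa [kq_cj] at this

/-! ### joined points -/

/-- `a`, `b` are joined at `r`: `a ~ r ~ b` and `U_a` moves `b` -/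
def Jn (V : Subgroup G) (r a b : G) : Prop := Col V a r ∧ Col V r b ∧ ∃ u ∈ uu V a, u * b * u⁻¹ = a * b

/-- `κ ≥ 2` -/
def K2 (V : Subgroup G) : Prop := ∃ p r, Col V p r ∧ ∃ u ∈ uu V p, ∃ u' ∈ uu V p, ∃ x ∈ ws V r, ∃ x' ∈ ws V r,
  u * x * u⁻¹ ≠ x ∧ u' * x * u'⁻¹ = x ∧ u' * x' * u'⁻¹ ≠ x'

/-- `Z_r = Z(U_r)` -/
def zr (V : Subgroup G) (r : G) : Subgroup G := uu V r ⊓ centralizer (uu V r : Set G)

theorem Jn.conj {r a b : G} (h : Jn V r a b) (g : G) : Jn V (g * r * g⁻¹) (g * a * g⁻¹) (g * b * g⁻¹) := by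
  obtain ⟨h1, h2, u, hu, e⟩ := h
  refine ⟨h1.conj g, h2.conj g, g * u * g⁻¹, ?_, ?_⟩
  · rw [← cj_uu]; exact conj_mem_cj hu
  · calc g * u * g⁻¹ * (g * b * g⁻¹) * (g * u * g⁻¹)⁻¹ = g * (u * b * u⁻¹) * g⁻¹ := by group
      _ = g * a * g⁻¹ * (g * b * g⁻¹) := by rw [e]; group

theorem Jn.of_conj {r a b : G} {g : G} (h : Jn V (g * r * g⁻¹) (g * a * g⁻¹) (g * b * g⁻¹)) : Jn V r a b := by
  have := h.conj g⁻¹
  have e : ∀ x : G, g⁻¹ * (g * x * g⁻¹) * g⁻¹⁻¹ = x := fun x => by group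
  rwa [e, e, e] at this

section

variable {a b c p r : G}

theorem ws_le_uu' (hra : Col V r a) : ws V a ≤ uu V r := ws_le_uu hra

/-- `u ∈ U_a` acts on `W_r`, `a ~ r`, by `x ↦ x` or `x ↦ a x`. -/
theorem act [Finite G] (h : TyN T V z) (har : Col V a r) {u x : G} (hu : u ∈ uu V a) (hx : x ∈ ws V r) :
    u * x * u⁻¹ = x ∨ u * x * u⁻¹ = a * x := by
  have h1 := h.uu_comm hu (ws_le_uu har hx)
  rcases (mem_zpowers_iff_of_mul_self (h.fr.pt_sq har.left)).mp h1 with e | e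
  · left
    calc u * x * u⁻¹ = (u * x * u⁻¹ * x⁻¹) * x := by group
      _ = x := by rw [e, one_mul]
  · right
    calc u * x * u⁻¹ = (u * x * u⁻¹ * x⁻¹) * x := by group
      _ = a * x := by rw [e]

/-- if some element of `U_a` moves `b`, then they are joined -/
theorem Jn.of_ne [Finite G] (h : TyN T V z) (har : Col V a r) (hrb : Col V r b) {u : G} (hu : u ∈ uu V a)
    (hne : u * b * u⁻¹ ≠ b) : Jn V r a b :=
  ⟨har, hrb, u, hu, (act h har hu (h.fr.mem_ws_of_col hrb)).resolve_left hne⟩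

theorem Jn.exists_ne (h : Jn V r a b) : ∃ u ∈ uu V a, u * b * u⁻¹ ≠ b := by
  obtain ⟨h1, h2, u, hu, e⟩ := h
  refine ⟨u, hu, fun e' => h1.ne_one ?_⟩
  rw [e] at e'
  simpa using e'

/-- not joined: `U_a` centralises `b` -/
theorem cent_of_not_jn [Finite G] (h : TyN T V z) (har : Col V a r) (hrb : Col V r b) (hn : ¬ Jn V r a b) {u : G}
    (hu : u ∈ uu V a) : u * b = b * u := by
  by_contra hne
  exact hn (Jn.of_ne h har hrb hu fun e => hne (comm_of_conj_eq e))

/-- if `U_a` moves `x`, then some `y ∈ W_c`, `c ~ a`, moves `x` -/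
theorem exists_ws (V : Subgroup G) {a x : G} (h : ∃ u ∈ uu V a, u * x * u⁻¹ ≠ x) :
    ∃ c, Col V a c ∧ ∃ w ∈ ws V c, w * x * w⁻¹ ≠ x := by
  by_contra hcon
  push Not at hcon
  obtain ⟨u, hu, hne⟩ := h
  have h1 : uu V a ≤ centralizer ({x} : Set G) := by
    refine uu_le fun c hc w hw => ?_
    rw [mem_centralizer_singleton_iff]
    exact comm_of_conj_eq (hcon c hc w hw)
  exact hne (conj_eq_of_comm (mem_centralizer_singleton_iff.mp (h1 hu)))

theorem Jn.ne_left [Finite G] (h : TyN T V z) (hj : Jn V r a b) : a ≠ r := by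
  rintro rfl
  obtain ⟨u, hu, hne⟩ := hj.exists_ne
  refine hne (conj_eq_of_comm ?_)
  have := h.toTwo.uu_le_cent a hu
  exact (mem_centralizer_iff.mp this b (h.fr.mem_ws_of_col hj.2.1)).symm

theorem Jn.ne_right [Finite G] (h : TyN T V z) (hj : Jn V r a b) : b ≠ r := by
  rintro rfl
  obtain ⟨u, hu, hne⟩ := hj.exists_ne
  refine hne (conj_eq_of_comm ?_)
  have := h.toTwo.uu_le_cent a hu
  exact (mem_centralizer_iff.mp this b (h.fr.mem_ws_of_col hj.1)).symm

theorem Jn.ne [Finite G] (h : TyN T V z) (hj : Jn V r a b) : a ≠ b := by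
  rintro rfl
  obtain ⟨u, hu, hne⟩ := hj.exists_ne
  refine hne (conj_eq_of_comm ?_)
  have := h.toTwo.uu_le_cent a hu
  exact (mem_centralizer_iff.mp this a (h.fr.mem_ws_self hj.1.left)).symm

/-- `u ∈ U_a` commutes with all elements of `W_a` -/
theorem uu_comm_ws (h : TyN T V z) {u x : G} (hu : u ∈ uu V a) (hx : x ∈ ws V a) : u * x = x * u :=
  (mem_centralizer_iff.mp (h.toTwo.uu_le_cent a hu) x hx).symm

/-- `b ∉ W_a` if `a`, `b` are joined -/
theorem Jn.not_mem [Finite G] (h : TyN T V z) (hj : Jn V r a b) : b ∉ ws V a := by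
  intro hb
  obtain ⟨u, hu, hne⟩ := hj.exists_ne
  exact hne (conj_eq_of_comm (uu_comm_ws h hu hb))

theorem sq_pt (h : TyN T V z) {x y : G} (hx : Col V x y) : x * x = 1 := h.fr.pt_sq hx.left

theorem inv_pt (h : TyN T V z) {x y : G} (hx : Col V x y) : x⁻¹ = x := inv_eq_self (sq_pt h hx)

theorem comm_ws (h : TyN T V z) {r x y : G} (hr : Col V r r) (hx : x ∈ ws V r) (hy : y ∈ ws V r) :
    x * y = y * x := h.fr.ws_comm hr x hx y hy

theorem sq_ws (h : TyN T V z) {r x : G} (hr : Col V r r) (hx : x ∈ ws V r) : x * x = 1 := h.fr.ws_sq hr x hx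

/-- (1.3): an element of `W_a` centralised by some `w ∈ C(r)` with `a^w = a b` lies in `W_b`. -/
theorem Jn.mem_of_fix [Finite G] (h : TyN T V z) (hj : Jn V r a b) {w x : G} (hw : w * a * w⁻¹ = a * b)
    (hx : x ∈ ws V a) (hwx : w * x = x * w) : x ∈ ws V b := by
  obtain ⟨h1, h2, v, hv, hvb⟩ := hj
  have h3 := conj_mem_ws w hx
  rw [hw, conj_eq_of_comm hwx, ← hvb] at h3
  have h4 := conj_mem_ws v⁻¹ h3
  have e : v⁻¹ * (v * b * v⁻¹) * v⁻¹⁻¹ = b := by group
  rw [e] at h4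
  have h5 := uu_comm_ws h (inv_mem hv) hx
  rwa [conj_eq_of_comm h5] at h4

/-- if `a`, `b` are joined at `r`, then `a b` is a point collinear with `r` -/
theorem Jn.col_mul [Finite G] (h : TyN T V z) (hj : Jn V r a b) : Col V r (a * b) := by
  obtain ⟨h1, h2, v, hv, hvb⟩ := hj
  have h3 := h2.conj v
  have h4 : v * r = r * v := uu_comm_ws h hv (h.fr.mem_ws_of_col h1)
  rwa [hvb, conj_eq_of_comm h4] at h3

/-! ### critical pairs -/

/-- `U_r` acts on `W_p`; for critical `(c, r)` with middle `p` it normalises `⟨c, r⟩` -/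
theorem act_crit [Finite G] (h : TyN T V z) (hrp : Col V r p) (hpc : Col V p c) {u : G} (hu : u ∈ uu V r) :
    u * c * u⁻¹ = c ∨ u * c * u⁻¹ = r * c := act h hrp hu (h.fr.mem_ws_of_col hpc)

theorem ws_norm_uu (h : TyN T V z) (hcp : Col V c p) (hpr : Col V p r) :
    ws V c ≤ normalizer ((uu V r : Subgroup G) : Set G) :=
  ((h.toTwo.ws_le_cent hcp).trans (h.toTwo.cent_ws_le hpr)).trans (centralizer_le_normalizer_uu V r)

theorem comm_mem_uu (h : TyN T V z) (hcp : Col V c p) (hpr : Col V p r) {u w : G} (hu : u ∈ uu V r)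
    (hw : w ∈ ws V c) : u * w * u⁻¹ * w⁻¹ ∈ uu V r := by
  have e : u * w * u⁻¹ * w⁻¹ = u * (w * u⁻¹ * w⁻¹) := by group
  rw [e]
  exact (uu V r).mul_mem hu (conj_mem_of_normalizer (ws_norm_uu h hcp hpr) hw ((uu V r).inv_mem hu))

theorem comm_mem_ws {V : Subgroup G} {c u w : G} (huc : u * c = c * u) (hw : w ∈ ws V c) :
    u * w * u⁻¹ * w⁻¹ ∈ ws V c :=
  mul_mem (conj_mem_of_normalizer (centralizer_le_normalizer_ws V c)
    (mem_centralizer_singleton_iff.mpr huc) hw) (inv_mem hw)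

/-- (5.1) an element of `W_c ∩ U_r` commutes with `C_{U_r}(c)`, `(c, r)` critical -/
theorem comm_uu [Finite G] (h : TyN T V z) (hm : Mid T V z c p r) {x u : G} (hx : x ∈ ws V c) (hx' : x ∈ uu V r)
    (hu : u ∈ uu V r) (huc : u * c = c * u) : u * x = x * u := by
  have h1 : u * x * u⁻¹ * x⁻¹ ∈ ws V c := comm_mem_ws huc hx
  have h2 := h.uu_comm hu hx'
  have h3 := hm.symm.eq_one_of_mem h2 h1
  calc u * x = (u * x * u⁻¹ * x⁻¹) * (x * u) := by group
    _ = x * u := by rw [h3, one_mul]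

/-- (1.5): `W_c` centralises `U_r / Z(U_r)` if `(c, r)` is critical and not joined -/
theorem cent_uu [Finite G] (h : TyN T V z) (hm : Mid T V z c p r) (hn : ¬ Jn V p r c) {u w : G}
    (hu : u ∈ uu V r) (hw : w ∈ ws V c) : u * w * u⁻¹ * w⁻¹ ∈ zr V r := by
  have hc : ∀ u ∈ uu V r, u * c = c * u := fun u hu => cent_of_not_jn h hm.rq.symm hm.pr.symm hn hu
  have h1 : u * w * u⁻¹ * w⁻¹ ∈ uu V r := comm_mem_uu h hm.pr hm.rq hu hw
  have h2 : u * w * u⁻¹ * w⁻¹ ∈ ws V c := comm_mem_ws (hc u hu) hw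
  refine mem_inf.mpr ⟨h1, ?_⟩
  rw [mem_centralizer_iff]
  intro u' hu'
  exact comm_uu h hm h2 h1 hu' (hc u' hu')

/-- `W_c`, `c ~ p ~ r`, moving an element of `W_r` : `(c, r)` is critical -/
theorem mid_of_move (h : TyN T V z) (hcp : Col V c p) (hpr : Col V p r) {w x : G} (hw : w ∈ ws V c)
    (hx : x ∈ ws V r) (hne : w * x * w⁻¹ ≠ x) : Mid T V z c p r :=
  { h.toTwo with pr := hcp, rq := hpr, ne := fun e => hne (conj_eq_of_comm (e w hw x hx)) }

/-- the middle of a critical pair is unique -/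
theorem middle [Finite G] (h : TyN T V z) {q : G} (hm : Mid T V z a p b) (hm' : Mid T V z a q b) : p = q := by
  by_contra hne
  apply hm.ne
  intro x hx y hy
  have h1 := h.n a p b hm.pr hm.rq x hx y hy
  have h2 := h.n a q b hm'.pr hm'.rq x hx y hy
  have h3 : x * y * x⁻¹ * y⁻¹ = 1 := by
    rcases (mem_zpowers_iff_of_mul_self (sq_pt h hm.rq)).mp h1 with e | e
    · exact e
    rcases (mem_zpowers_iff_of_mul_self (sq_pt h hm'.rq)).mp h2 with e' | e'
    · exact e'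
    · exact absurd (e.symm.trans e') hne
  calc x * y = (x * y * x⁻¹ * y⁻¹) * (y * x) := by group
    _ = y * x := by rw [h3, one_mul]

end

end Cfsg.Agent.Omega.NO3S.TypeN

end

section


/-!
# Elementary McLaughlin (helper60 #16001, (1.2), (3.1)-(3.4)), abstract form

`Om` : a set of involutions ("points `a ~ r`"), `Ps a` : the set of functionals (functions to `ZMod 2`) of the
transvections with centre `a`.

* `Sys.symm` : joined is symmetric;
* `Sys.trans` : if `|Ps a| > 2`, then joined is transitive.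
-/

set_option autoImplicit false

namespace Cfsg.Agent.Omega.NO3S.TypeN

universe u

variable {G : Type u} [Group G]

theorem zmod_two_cases (x : ZMod 2) : x = 0 ∨ x = 1 := by
  revert x; decide

theorem zmod_two_add (x : ZMod 2) : x + x = 0 := by
  revert x; decide

/-- a system of transvections with centres in `Om` and functionals in `Ps` -/
structure Sys (Om : Set G) (r : G) (Ps : G → Set (G → ZMod 2)) (K : ℕ) : Prop where
  /-- the centres are involutions -/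
  sq : ∀ a ∈ Om, a * a = 1
  zero : ∀ a ∈ Om, (0 : G → ZMod 2) ∈ Ps a
  addm : ∀ a ∈ Om, ∀ φ ∈ Ps a, ∀ ψ ∈ Ps a, φ + ψ ∈ Ps a
  fin : ∀ a ∈ Om, (Ps a).Finite
  card : ∀ a ∈ Om, (Ps a).ncard = K
  self : ∀ a ∈ Om, ∀ φ ∈ Ps a, φ a = 0
  add : ∀ a ∈ Om, ∀ φ ∈ Ps a, ∀ b ∈ Om, ∀ c ∈ Om, φ (b * c) = φ b + φ c
  mul_mem : ∀ a ∈ Om, ∀ b ∈ Om, ∀ φ ∈ Ps a, φ b = 1 → a * b ∈ Om
  one : ∀ a ∈ Om, ∀ b ∈ Om, ∀ φ ∈ Ps a, φ b = 1 → ∀ ψ ∈ Ps b, ψ a = 0 → φ + ψ ∈ Ps a
  two : ∀ a ∈ Om, ∀ b ∈ Om, ∀ φ ∈ Ps a, φ b = 0 → ∀ ψ ∈ Ps b, ψ a = 1 → φ ∈ Ps (a * b)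
  span : ∀ a ∈ Om, ∀ φ ∈ Ps a, φ ≠ 0 → ∃ d ∈ Om, φ d = 1
  /-- `(O)` -/
  o : ∀ a ∈ Om, ∀ c ∈ Om, a ≠ c → c ≠ a * r → Ps a = Ps c → ∃ x ∈ Om, ∃ ψ ∈ Ps x, ψ a ≠ ψ c

namespace Sys

variable {Om : Set G} {r : G} {Ps : G → Set (G → ZMod 2)} {K : ℕ}

/-- `a` moves `b` -/
def Joined (Ps : G → Set (G → ZMod 2)) (a b : G) : Prop := ∃ φ ∈ Ps a, φ b = 1

theorem eq_of_subset (h : Sys Om r Ps K) {a b : G} (ha : a ∈ Om) (hb : b ∈ Om) (hs : Ps a ⊆ Ps b) :
    Ps a = Ps b :=
  Set.eq_of_subset_of_ncard_le hs (by rw [h.card a ha, h.card b hb]) (h.fin b hb)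

/-- **(1.2)** -/
theorem symm (h : Sys Om r Ps K) {a b : G} (ha : a ∈ Om) (hb : b ∈ Om) (hab : Joined Ps a b) :
    Joined Ps b a := by
  by_contra hn
  obtain ⟨φ, hφ, hφb⟩ := hab
  have h1 : Ps b ⊆ Ps a := by
    intro ψ hψ
    have h2 : ψ a = 0 := by
      rcases zmod_two_cases (ψ a) with e | e
      · exact e
      · exact absurd ⟨ψ, hψ, e⟩ hn
    have h3 := h.addm a ha _ hφ _ (h.one a ha b hb φ hφ hφb ψ hψ h2)
    have h4 : φ + (φ + ψ) = ψ := by
      funext x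
      show φ x + (φ x + ψ x) = ψ x
      rw [← add_assoc, zmod_two_add, zero_add]
    rwa [h4] at h3
  have h2 := h.eq_of_subset hb ha h1
  rw [← h2] at hφ
  rw [h.self b hb φ hφ] at hφb
  exact absurd hφb (by decide)

theorem joined_mul (h : Sys Om r Ps K) {a b : G} (ha : a ∈ Om) (hb : b ∈ Om) (hab : Joined Ps a b) :
    a * b ∈ Om ∧ Joined Ps a (a * b) := by
  obtain ⟨φ, hφ, hφb⟩ := hab
  refine ⟨h.mul_mem a ha b hb φ hφ hφb, φ, hφ, ?_⟩
  rw [h.add a ha φ hφ a ha b hb, h.self a ha φ hφ, zero_add, hφb]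

/-- **(3.1)**: `Ps a ∩ b^⊥ = Ps a ∩ Ps b` -/
theorem mem_iff (h : Sys Om r Ps K) {a b : G} (ha : a ∈ Om) (hb : b ∈ Om) (hab : Joined Ps a b)
    {φ : G → ZMod 2} (hφ : φ ∈ Ps a) : φ b = 0 ↔ φ ∈ Ps b := by
  refine ⟨fun h0 => ?_, fun h1 => h.self b hb φ h1⟩
  obtain ⟨hm, hj⟩ := h.joined_mul ha hb hab
  obtain ⟨ψ, hψ, hψ1⟩ := h.symm ha hm hj
  have h2 : φ (a * b) = 0 := by
    rw [h.add a ha φ hφ a ha b hb, h.self a ha φ hφ, h0, zero_add]
  have h3 := h.two a ha (a * b) hm φ hφ h2 ψ hψ hψ1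
  rwa [← mul_assoc, h.sq a ha, one_mul] at h3

/-- **(3.2)** -/
theorem eval_eq (h : Sys Om r Ps K) {a b c : G} (ha : a ∈ Om) (hb : b ∈ Om) (_hc : c ∈ Om)
    (hab : Joined Ps b a) (hbc : Joined Ps b c) (hac : ¬ Joined Ps a c) {ψ : G → ZMod 2} (hψ : ψ ∈ Ps b) :
    ψ a = ψ c := by
  have key : ∀ ψ ∈ Ps b, ψ a = 0 → ψ c = 0 := by
    intro ψ hψ h0
    have h1 : ψ ∈ Ps a := (h.mem_iff hb ha hab hψ).mp h0
    rcases zmod_two_cases (ψ c) with e | e
    · exact e
    · exact absurd ⟨ψ, h1, e⟩ hac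
  rcases zmod_two_cases (ψ a) with e | e
  · rw [e, key ψ hψ e]
  rcases zmod_two_cases (ψ c) with e' | e'
  · exfalso
    obtain ⟨ψ', hψ', h1⟩ := hbc
    have h2 : ψ' a = 1 := by
      rcases zmod_two_cases (ψ' a) with e2 | e2
      · rw [key ψ' hψ' e2] at h1
        exact absurd h1 (by decide)
      · exact e2
    have h3 := key (ψ + ψ') (h.addm b hb _ hψ _ hψ') (by
      show ψ a + ψ' a = 0
      rw [e, h2]; decide)
    have h4 : ψ c + ψ' c = 0 := h3
    rw [e', h1] at h4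
    exact absurd h4 (by decide)
  · rw [e, e']

/-- a nonzero functional of `Ps b` which is zero on `a` -/
theorem exists_ne (h : Sys Om r Ps K) (hK : 2 < K) {a b : G} (hb : b ∈ Om) :
    ∃ θ ∈ Ps b, θ ≠ 0 ∧ θ a = 0 := by
  by_contra hn
  push Not at hn
  have hinj : Set.InjOn (fun φ : G → ZMod 2 => φ a) (Ps b) := by
    intro φ hφ ψ hψ he
    have he' : φ a = ψ a := he
    by_contra hne
    refine hn (φ + ψ) (h.addm b hb _ hφ _ hψ) (fun h0 => hne ?_) ?_
    · funext x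
      have hx : φ x + ψ x = 0 := congrFun h0 x
      calc φ x = φ x + (ψ x + ψ x) := by rw [zmod_two_add, add_zero]
        _ = (φ x + ψ x) + ψ x := by rw [add_assoc]
        _ = ψ x := by rw [hx, zero_add]
    · show φ a + ψ a = 0
      rw [he', zmod_two_add]
  have h1 := hinj.ncard_image
  have h2 : ((fun φ : G → ZMod 2 => φ a) '' Ps b).ncard ≤ (Set.univ : Set (ZMod 2)).ncard :=
    Set.ncard_le_ncard (Set.subset_univ _) (Set.toFinite _)
  rw [h1, h.card b hb, Set.ncard_univ, Nat.card_zmod] at h2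
  omega

/-- **(3.3)** -/
theorem ps_subset (h : Sys Om r Ps K) (hK : 2 < K) {a b c : G} (ha : a ∈ Om) (hb : b ∈ Om) (hc : c ∈ Om)
    (hab : Joined Ps a b) (hbc : Joined Ps b c) (hac : ¬ Joined Ps a c) : Ps a ⊆ Ps c := by
  have hba := h.symm ha hb hab
  obtain ⟨θ, hθ, hne, h0⟩ := h.exists_ne (a := a) hK hb
  have hθa : θ ∈ Ps a := (h.mem_iff hb ha hba hθ).mp h0
  have hθc : θ ∈ Ps c := (h.mem_iff hb hc hbc hθ).mp (by rw [← h.eval_eq ha hb hc hba hbc hac hθ, h0])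
  obtain ⟨d, hd, hd1⟩ := h.span b hb θ hθ hne
  have had : Joined Ps a d := ⟨θ, hθa, hd1⟩
  have hcd : Joined Ps c d := ⟨θ, hθc, hd1⟩
  have hda := h.symm ha hd had
  have hdc := h.symm hc hd hcd
  have key : ∀ φ ∈ Ps a, φ d = 0 → φ ∈ Ps c := by
    intro φ hφ h1
    have h2 : φ ∈ Ps d := (h.mem_iff ha hd had hφ).mp h1
    refine (h.mem_iff hd hc hdc h2).mp ?_
    rw [← h.eval_eq ha hd hc hda hdc hac h2]
    exact h.self a ha φ hφ
  intro φ hφ
  rcases zmod_two_cases (φ d) with e | e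
  · exact key φ hφ e
  have h1 := key (φ + θ) (h.addm a ha _ hφ _ hθa) (by
    show φ d + θ d = 0
    rw [e, hd1]; decide)
  have h2 := h.addm c hc _ h1 _ hθc
  have h3 : φ + θ + θ = φ := by
    funext x
    show φ x + θ x + θ x = φ x
    rw [add_assoc, zmod_two_add, add_zero]
  rwa [h3] at h2

/-- **(3.4)**: joined is transitive -/
theorem trans (h : Sys Om r Ps K) (hK : 2 < K) {a b c : G} (ha : a ∈ Om) (hb : b ∈ Om) (hc : c ∈ Om)
    (hab : Joined Ps a b) (hbc : Joined Ps b c) (hne : c ≠ a) (hne' : c ≠ a * r) : Joined Ps a c := by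
  by_contra hac
  have heq : Ps a = Ps c := h.eq_of_subset ha hc (h.ps_subset hK ha hb hc hab hbc hac)
  obtain ⟨x, hx, ψ, hψ, hψn⟩ := h.o a ha c hc (Ne.symm hne) hne' heq
  by_cases hxa : Joined Ps x a
  · have hax := h.symm hx ha hxa
    have hcx : Joined Ps c x := by
      obtain ⟨φ, hφ, h1⟩ := hax
      exact ⟨φ, heq ▸ hφ, h1⟩
    exact hψn (h.eval_eq ha hx hc hxa (h.symm hc hx hcx) hac hψ)
  · by_cases hxc : Joined Ps x c
    · obtain ⟨φ, hφ, h1⟩ := h.symm hx hc hxc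
      exact hxa (h.symm ha hx ⟨φ, heq ▸ hφ, h1⟩)
    · apply hψn
      rcases zmod_two_cases (ψ a) with e | e
      · rcases zmod_two_cases (ψ c) with e' | e'
        · rw [e, e']
        · exact absurd ⟨ψ, hψ, e'⟩ hxc
      · exact absurd ⟨ψ, hψ, e⟩ hxa

end Sys

end Cfsg.Agent.Omega.NO3S.TypeN

end

section


/-!
# THEOREMS TQ and TQ' (helper935), abstract form

`H` acts on the elementary abelian 2-group `M`, `Om` is an `H`-orbit generating `M`, `Q w` (`w ∈ Om`) an equivariant family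
of 2-groups (modulo `C_H(M)`) fixing `w`.  (`H` has no normal subgroup of involutions on `M`.)

* `Dat.tq` : if all `Q w` are quadratic on `M` and some `Q w` contains a transvection with centre `w`, then
  `[M, Q w] ≤ ⟨w⟩` for all `w ∈ Om`;
* `Dat.tqBig` : the same without 'quadratic', if some `Q w` contains two different transvections with centre `w`.

Uses the elementary McLaughlin theorems of helper60 (`TypeN/McL.lean`).
-/

set_option autoImplicit false
set_option linter.unusedSectionVars false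

namespace Cfsg.Agent.Omega.NO3S.TwoMid.TQ

open Subgroup
open Cfsg.Agent.Omega.NO3S.TypeN (Sys zmod_two_cases zmod_two_add)

universe u v

variable {H : Type u} {M : Type v} [Group H] [Group M] [MulDistribMulAction H M]

/-- `t` acts like a transvection with centre `w` (or trivially) -/
def Tv (w : M) (t : H) : Prop := ∀ m : M, t • m = m ∨ t • m = w * m

structure Dat (Om : Set M) (Q : M → Subgroup H) : Prop where
  comm : ∀ a b : M, a * b = b * a
  sq : ∀ a : M, a * a = 1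
  ne : ∀ w ∈ Om, w ≠ 1
  smul : ∀ h : H, ∀ w ∈ Om, h • w ∈ Om
  trans : ∀ w ∈ Om, ∀ w' ∈ Om, ∃ h : H, h • w = w'
  span : closure Om = ⊤
  conj : ∀ h : H, ∀ w ∈ Om, ∀ g ∈ Q w, h * g * h⁻¹ ∈ Q (h • w)
  fix : ∀ w ∈ Om, ∀ g ∈ Q w, g • w = w
  two : ∀ w ∈ Om, ∀ g ∈ Q w, ∃ k : ℕ, ∀ m : M, g ^ 2 ^ k • m = m
  o2 : ∀ N : Subgroup H, (∀ h, ∀ n ∈ N, h * n * h⁻¹ ∈ N) → (∀ n ∈ N, ∀ m : M, n • (n • m) = m) →
    ∀ n ∈ N, ∀ m : M, n • m = m
  tv : ∃ w ∈ Om, ∃ t ∈ Q w, Tv w t ∧ ∃ m : M, t • m ≠ m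

/-- all `Q w` are quadratic -/
def Quad (Om : Set M) (Q : M → Subgroup H) : Prop :=
  ∀ w ∈ Om, ∀ g ∈ Q w, ∀ g' ∈ Q w, ∀ m : M, g' • (g • m * m⁻¹) = g • m * m⁻¹

open Classical in
/-- the functional of `t` -/
noncomputable def fn (t : H) : M → ZMod 2 := fun m => if t • m = m then 0 else 1

/-- the functionals of the transvections in `Q w` with centre `w` -/
def ps (Q : M → Subgroup H) (w : M) : Set (M → ZMod 2) := {φ | ∃ t ∈ Q w, Tv w t ∧ φ = fn t}

theorem fn_eq_zero {t : H} {m : M} : fn t m = 0 ↔ t • m = m := by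
  unfold fn
  constructor
  · intro h
    by_contra hn
    rw [if_neg hn] at h
    exact absurd h (by decide)
  · intro h
    rw [if_pos h]

theorem Tv.eq_of_one {w : M} {t : H} (ht : Tv w t) {m : M} (h : fn t m = 1) : t • m = w * m := by
  rcases ht m with e | e
  · rw [fn_eq_zero.mpr e] at h
    exact absurd h (by decide)
  · exact e

theorem fn_eq_one {w : M} {t : H} (hw : w ≠ 1) {m : M} (h : t • m = w * m) : fn t m = 1 := by
  rcases zmod_two_cases (fn t m) with e | e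
  · rw [fn_eq_zero, h] at e
    exact absurd (mul_eq_right.mp e) hw
  · exact e

theorem fn_conj (h t : H) (m : M) : fn (h * t * h⁻¹) m = fn t (h⁻¹ • m) := by
  rcases zmod_two_cases (fn t (h⁻¹ • m)) with e | e
  · rw [e, fn_eq_zero]
    rw [fn_eq_zero] at e
    rw [mul_smul, mul_smul, e, smul_inv_smul]
  · rw [e]
    rcases zmod_two_cases (fn (h * t * h⁻¹) m) with e' | e'
    · exfalso
      rw [fn_eq_zero, mul_smul, mul_smul] at e'
      have h1 : t • h⁻¹ • m = h⁻¹ • m := by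
        rw [← inv_smul_smul h (t • h⁻¹ • m), e']
      rw [fn_eq_zero.mpr h1] at e
      exact absurd e (by decide)
    · exact e'

theorem Tv.conj {w : M} {t : H} (ht : Tv w t) (h : H) : Tv (h • w) (h * t * h⁻¹) := by
  intro m
  rcases ht (h⁻¹ • m) with e | e
  · left
    rw [mul_smul, mul_smul, e, smul_inv_smul]
  · right
    rw [mul_smul, mul_smul, e, smul_mul', smul_inv_smul]

/-- the map induced on functionals -/
def tws (h : H) (φ : M → ZMod 2) : M → ZMod 2 := fun m => φ (h⁻¹ • m)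

theorem tws_inj (h : H) : Function.Injective (tws (M := M) h) := by
  intro φ ψ e
  funext m
  have := congrFun e (h • m)
  unfold tws at this
  rwa [inv_smul_smul] at this

namespace Dat

variable {Om : Set M} {Q : M → Subgroup H} (D : Dat Om Q)

include D

theorem inv_eq (a : M) : a⁻¹ = a := inv_eq_of_mul_eq_one_left (D.sq a)

theorem mul_mul_cancel' (a b : M) : a * (a * b) = b := by rw [← mul_assoc, D.sq, one_mul]

theorem fn_add {w : M} (hw : w ∈ Om) {t : H} (ht : Tv w t) (m m' : M) : fn t (m * m') = fn t m + fn t m' := by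
  have hw1 := D.ne w hw
  rcases ht m with e | e <;> rcases ht m' with e' | e'
  · rw [fn_eq_zero.mpr e, fn_eq_zero.mpr e', fn_eq_zero.mpr (by rw [smul_mul', e, e']), add_zero]
  · rw [fn_eq_zero.mpr e, fn_eq_one hw1 e', zero_add]
    refine fn_eq_one hw1 ?_
    rw [smul_mul', e, e', ← mul_assoc, D.comm m w, mul_assoc]
  · rw [fn_eq_one hw1 e, fn_eq_zero.mpr e', add_zero]
    refine fn_eq_one hw1 ?_
    rw [smul_mul', e, e', mul_assoc]
  · rw [fn_eq_one hw1 e, fn_eq_one hw1 e', zmod_two_add, fn_eq_zero, smul_mul', e, e']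
    rw [D.comm w m, mul_assoc, D.mul_mul_cancel']

theorem tv_mul {w : M} (hw : w ∈ Om) {t s : H} (ht : Tv w t) (hs : Tv w s) (htw : t • w = w) : Tv w (t * s) := by
  intro m
  rcases hs m with e | e <;> rcases ht m with e' | e'
  · left; rw [mul_smul, e, e']
  · right; rw [mul_smul, e, e']
  · right; rw [mul_smul, e, smul_mul', htw, e']
  · left; rw [mul_smul, e, smul_mul', htw, e', D.mul_mul_cancel']

theorem fn_mul {w : M} (hw : w ∈ Om) {t s : H} (ht : Tv w t) (hs : Tv w s) (htw : t • w = w) :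
    fn (t * s) = (fn t + fn s : M → ZMod 2) := by
  have hw1 := D.ne w hw
  funext m
  show _ = fn t m + fn s m
  rcases hs m with e | e <;> rcases ht m with e' | e'
  · rw [fn_eq_zero.mpr e, fn_eq_zero.mpr e', add_zero, fn_eq_zero, mul_smul, e, e']
  · rw [fn_eq_zero.mpr e, fn_eq_one hw1 e', add_zero]
    exact fn_eq_one hw1 (by rw [mul_smul, e, e'])
  · rw [fn_eq_one hw1 e, fn_eq_zero.mpr e', zero_add]
    exact fn_eq_one hw1 (by rw [mul_smul, e, smul_mul', htw, e'])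
  · rw [fn_eq_one hw1 e, fn_eq_one hw1 e', zmod_two_add, fn_eq_zero, mul_smul, e, smul_mul', htw, e',
      D.mul_mul_cancel']

/-- `t⁻¹` acts as `t` -/
theorem inv_smul {w : M} (hw : w ∈ Om) {t : H} (ht : Tv w t) (htw : t • w = w) (m : M) : t⁻¹ • m = t • m := by
  have h1 : t • (t • m) = m := by
    rcases ht m with e | e
    · rw [e, e]
    · rw [e, smul_mul', htw, e, D.mul_mul_cancel']
  rw [← inv_smul_smul t (t • m), h1]

theorem ps_smul (h : H) {w : M} (hw : w ∈ Om) : ps Q (h • w) = tws h '' ps Q w := by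
  ext φ
  constructor
  · rintro ⟨t, ht, htv, rfl⟩
    refine ⟨fn (h⁻¹ * t * h), ⟨h⁻¹ * t * h, ?_, ?_, rfl⟩, ?_⟩
    · have := D.conj h⁻¹ _ (D.smul h w hw) t ht
      rwa [inv_inv, inv_smul_smul] at this
    · have := htv.conj h⁻¹
      rwa [inv_inv, inv_smul_smul] at this
    · funext m
      show fn (h⁻¹ * t * h) (h⁻¹ • m) = _
      rw [← fn_conj]
      congr 1
      group
  · rintro ⟨_, ⟨t, ht, htv, rfl⟩, rfl⟩
    refine ⟨h * t * h⁻¹, D.conj h w hw t ht, htv.conj h, ?_⟩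
    funext m
    exact (fn_conj h t m).symm

theorem self_zero {w : M} (hw : w ∈ Om) {φ : M → ZMod 2} (hφ : φ ∈ ps Q w) : φ w = 0 := by
  obtain ⟨t, ht, -, rfl⟩ := hφ
  exact fn_eq_zero.mpr (D.fix w hw t ht)

theorem ps_add {w : M} (hw : w ∈ Om) {φ : M → ZMod 2} (hφ : φ ∈ ps Q w) (m m' : M) : φ (m * m') = φ m + φ m' := by
  obtain ⟨t, -, ht, rfl⟩ := hφ
  exact D.fn_add hw ht m m'

theorem ps_one {w : M} (hw : w ∈ Om) {φ : M → ZMod 2} (hφ : φ ∈ ps Q w) : φ 1 = 0 := by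
  obtain ⟨t, -, ht, rfl⟩ := hφ
  exact fn_eq_zero.mpr (smul_one t)

/-- two functionals which agree on `Om` are equal -/
theorem ps_ext {w w' : M} (hw : w ∈ Om) (hw' : w' ∈ Om) {φ ψ : M → ZMod 2} (hφ : φ ∈ ps Q w) (hψ : ψ ∈ ps Q w')
    (h : ∀ x ∈ Om, φ x = ψ x) : φ = ψ := by
  funext m
  have hm : m ∈ closure Om := by rw [D.span]; exact mem_top m
  induction hm using closure_induction with
  | mem x hx => exact h x hx
  | one => rw [D.ps_one hw hφ, D.ps_one hw' hψ]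
  | mul x y _ _ h1 h2 => rw [D.ps_add hw hφ, D.ps_add hw' hψ, h1, h2]
  | inv x _ h1 => rwa [D.inv_eq]

theorem exists_ne {w : M} (hw : w ∈ Om) : ∃ φ ∈ ps Q w, φ ≠ 0 := by
  obtain ⟨w', hw', t, ht, htv, m, hm⟩ := D.tv
  obtain ⟨h, rfl⟩ := D.trans w' hw' w hw
  refine ⟨tws h (fn t), ?_, fun e => hm ?_⟩
  · rw [D.ps_smul h hw']
    exact ⟨_, ⟨t, ht, htv, rfl⟩, rfl⟩
  · have := congrFun e (h • m)
    unfold tws at this
    rw [inv_smul_smul] at this
    exact fn_eq_zero.mp this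

theorem exists_one {w : M} (hw : w ∈ Om) {φ : M → ZMod 2} (hφ : φ ∈ ps Q w) (hne : φ ≠ 0) : ∃ d ∈ Om, φ d = 1 := by
  by_contra hcon
  push Not at hcon
  apply hne
  have h0 : (0 : M → ZMod 2) ∈ ps Q w := by
    refine ⟨1, one_mem _, fun m => Or.inl (one_smul H m), ?_⟩
    funext m
    exact (fn_eq_zero.mpr (one_smul H m)).symm
  refine D.ps_ext hw hw hφ h0 fun x hx => ?_
  exact (zmod_two_cases (φ x)).resolve_right (hcon x hx)

/-- the conjugate of `t` (centre `a`) by `s` (centre `b`) -/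
theorem conj_fn {a b : M} (ha : a ∈ Om) (hb : b ∈ Om) {t s : H} (ht : Tv a t) (hs : Tv b s)
    (hsQ : s ∈ Q b) (m : M) : fn (s * t * s⁻¹) m = fn t m + (if fn s m = 1 then fn t b else 0) := by
  rw [fn_conj, D.inv_smul hb hs (D.fix b hb s hsQ)]
  rcases hs m with e | e
  · rw [e, fn_eq_zero.mpr e, if_neg (by decide), add_zero]
  · rw [e, fn_eq_one (D.ne b hb) e, if_pos rfl, D.fn_add ha ht, add_comm]

/-- (O) -/
theorem o_aux [Finite H] {a c : M} (ha : a ∈ Om) (hc : c ∈ Om) (hps : ps Q a = ps Q c)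
    (hcon : ∀ x ∈ Om, ∀ ψ ∈ ps Q x, ψ a = ψ c) : a = c := by
  let TT : Subgroup H := closure {t | ∃ x ∈ Om, t ∈ Q x ∧ Tv x t}
  have hTT : ∀ h : H, ∀ t ∈ TT, h * t * h⁻¹ ∈ TT := by
    intro h t ht
    induction ht using closure_induction with
    | mem t ht =>
      obtain ⟨x, hx, h1, h2⟩ := ht
      exact subset_closure ⟨h • x, D.smul h x hx, D.conj h x hx t h1, h2.conj h⟩
    | one => simp
    | mul x y _ _ h1 h2 =>
      have e : h * (x * y) * h⁻¹ = (h * x * h⁻¹) * (h * y * h⁻¹) := by group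
      rw [e]
      exact mul_mem h1 h2
    | inv x _ h1 =>
      have e : h * x⁻¹ * h⁻¹ = (h * x * h⁻¹)⁻¹ := by group
      rw [e]
      exact inv_mem h1
  let R : Subgroup M :=
    { carrier := {m | ∀ t ∈ TT, t • m = m}
      mul_mem' := fun {x y} hx hy t ht => by rw [smul_mul', hx t ht, hy t ht]
      one_mem' := fun t _ => smul_one t
      inv_mem' := fun {x} hx t ht => by rw [smul_inv', hx t ht] }
  have hRh : ∀ h : H, ∀ m ∈ R, h • m ∈ R := by
    intro h m hm t ht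
    have h1 := hm _ (hTT h⁻¹ t ht)
    rw [inv_inv, mul_smul, mul_smul, inv_smul_eq_iff] at h1
    exact h1
  have he : a * c ∈ R := by
    have hle : TT ≤ MulAction.stabilizer H (a * c) := by
      refine (closure_le _).mpr ?_
      rintro t ⟨x, hx, h1, h2⟩
      show t • (a * c) = a * c
      rw [← fn_eq_zero, D.fn_add hx h2, hcon x hx _ ⟨t, h1, h2, rfl⟩, zmod_two_add]
    exact fun t ht => hle ht
  let N : Subgroup H :=
    { carrier := {g | g ∈ TT ∧ ∀ m : M, g • m * m⁻¹ ∈ R}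
      mul_mem' := by
        rintro x y ⟨hx, hx1⟩ ⟨hy, hy1⟩
        refine ⟨mul_mem hx hy, fun m => ?_⟩
        have e : (x * y) • m * m⁻¹ = (x • (y • m) * (y • m)⁻¹) * (y • m * m⁻¹) := by
          rw [mul_smul]; group
        rw [e]
        exact mul_mem (hx1 _) (hy1 m)
      one_mem' := ⟨one_mem _, fun m => by rw [one_smul, mul_inv_cancel]; exact one_mem _⟩
      inv_mem' := by
        rintro x ⟨hx, hx1⟩
        refine ⟨inv_mem hx, fun m => ?_⟩
        have e : x⁻¹ • m * m⁻¹ = (x • (x⁻¹ • m) * (x⁻¹ • m)⁻¹)⁻¹ := by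
          rw [smul_inv_smul]; group
        rw [e]
        exact inv_mem (hx1 _) }
  have hN : ∀ n ∈ N, ∀ m : M, n • m = m := by
    refine D.o2 N (fun h n hn => ⟨hTT h n hn.1, fun m => ?_⟩) fun n hn m => ?_
    · have e : (h * n * h⁻¹) • m * m⁻¹ = h • (n • (h⁻¹ • m) * (h⁻¹ • m)⁻¹) := by
        rw [mul_smul, mul_smul, smul_mul', smul_inv', smul_inv_smul]
      rw [e]
      exact hRh h _ (hn.2 _)
    · have h1 := hn.2 m n hn.1
      have e : n • m = (n • m * m⁻¹) * m := by group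
      rw [e, smul_mul', h1, ← D.inv_eq (n • m * m⁻¹)]
      rw [D.inv_eq (n • m * m⁻¹)]
      have e2 : (n • m * m⁻¹) * (n • m) = (n • m * m⁻¹) * ((n • m * m⁻¹) * m) := by
        rw [← e]
      rw [e2, D.mul_mul_cancel']
  obtain ⟨φ, hφ, hne⟩ := D.exists_ne ha
  obtain ⟨d, hd, hd1⟩ := D.exists_one ha hφ hne
  have hφ' := hφ
  rw [hps] at hφ'
  obtain ⟨t, htQ, ht, hφt⟩ := hφ
  obtain ⟨s, hsQ, hs, hφs⟩ := hφ'
  have htc : t • c = c := by
    rw [← fn_eq_zero, ← hφt, hφs, fn_eq_zero]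
    exact D.fix c hc s hsQ
  have hact : ∀ m : M, (t * s) • m * m⁻¹ = 1 ∨ (t * s) • m * m⁻¹ = a * c := by
    intro m
    rcases hs m with e | e
    · left
      have e1 : t • m = m := by
        rw [← fn_eq_zero, ← hφt, hφs, fn_eq_zero, e]
      rw [mul_smul, e, e1, mul_inv_cancel]
    · right
      have e1 : t • m = a * m := by
        refine ht.eq_of_one ?_
        rw [← hφt, hφs]
        exact fn_eq_one (D.ne c hc) e
      rw [mul_smul, e, smul_mul', htc, e1, ← mul_assoc, D.comm c a, mul_assoc, mul_inv_cancel, mul_one]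
  have hts : t * s ∈ N := by
    refine ⟨mul_mem (subset_closure ⟨a, ha, htQ, ht⟩) (subset_closure ⟨c, hc, hsQ, hs⟩), fun m => ?_⟩
    rcases hact m with e | e
    · rw [e]; exact one_mem _
    · rw [e]; exact he
  have h1 := hN _ hts d
  have e1 : s • d = c * d := hs.eq_of_one (by rw [← hφs]; exact hd1)
  have e2 : t • d = a * d := ht.eq_of_one (by rw [← hφt]; exact hd1)
  rw [mul_smul, e1, smul_mul', htc, e2, ← mul_assoc, mul_eq_right] at h1
  rw [mul_eq_one_iff_eq_inv.mp h1, D.inv_eq]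

/-- the system of transvections -/
theorem sys [Finite H] : ∃ K : ℕ, Sys Om 1 (ps Q) K := by
  obtain ⟨w0, hw0, -⟩ := D.tv
  refine ⟨(ps Q w0).ncard, ?_⟩
  exact
    { sq := fun a _ => D.sq a
      zero := by
        intro a _
        refine ⟨1, one_mem _, fun m => Or.inl (one_smul H m), ?_⟩
        funext m
        exact (fn_eq_zero.mpr (one_smul H m)).symm
      addm := by
        rintro a ha _ ⟨t, htQ, ht, rfl⟩ _ ⟨s, hsQ, hs, rfl⟩
        exact ⟨t * s, mul_mem htQ hsQ, D.tv_mul ha ht hs (D.fix a ha t htQ),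
          (D.fn_mul ha ht hs (D.fix a ha t htQ)).symm⟩
      fin := by
        intro a _
        refine Set.Finite.subset (Set.finite_range fun t : H => (fn t : M → ZMod 2)) ?_
        rintro φ ⟨t, -, -, rfl⟩
        exact ⟨t, rfl⟩
      card := by
        intro a ha
        obtain ⟨h, rfl⟩ := D.trans w0 hw0 a ha
        rw [D.ps_smul h hw0, Set.ncard_image_of_injective _ (tws_inj h)]
      self := fun a ha φ hφ => D.self_zero ha hφ
      add := fun a ha φ hφ b _ c _ => D.ps_add ha hφ b c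
      mul_mem := by
        rintro a ha b hb _ ⟨t, htQ, ht, rfl⟩ h1
        rw [← ht.eq_of_one h1]
        exact D.smul t b hb
      one := by
        rintro a ha b hb _ ⟨t, htQ, ht, rfl⟩ h1 _ ⟨s, hsQ, hs, rfl⟩ h2
        have hsa : s • a = a := fn_eq_zero.mp h2
        refine ⟨s * t * s⁻¹, ?_, ?_, ?_⟩
        · have := D.conj s a ha t htQ
          rwa [hsa] at this
        · have := ht.conj s
          rwa [hsa] at this
        · funext m
          rw [D.conj_fn ha hb ht hs hsQ, h1]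
          show fn t m + fn s m = _
          rcases zmod_two_cases (fn s m) with e | e
          · rw [e, if_neg (by decide)]
          · rw [e, if_pos rfl]
      two := by
        rintro a ha b hb _ ⟨t, htQ, ht, rfl⟩ h1 _ ⟨s, hsQ, hs, rfl⟩ h2
        have hsa : s • a = a * b := by rw [hs.eq_of_one h2, D.comm]
        refine ⟨s * t * s⁻¹, ?_, ?_, ?_⟩
        · have := D.conj s a ha t htQ
          rwa [hsa] at this
        · have := ht.conj s
          rwa [hsa] at this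
        · funext m
          rw [D.conj_fn ha hb ht hs hsQ, h1, ite_self, add_zero]
      span := fun a ha φ hφ hne => D.exists_one ha hφ hne
      o := by
        intro a ha c hc hac _ hps
        by_contra hcon
        push Not at hcon
        exact hac (D.o_aux ha hc hps hcon) }

/-- `a` is joined to `b` -/
abbrev Jd (Q : M → Subgroup H) (a b : M) : Prop := Sys.Joined (ps Q) a b

omit D in
theorem not_jd {a b : M} (h : ¬ Jd Q a b) {φ : M → ZMod 2} (hφ : φ ∈ ps Q a) : φ b = 0 := by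
  rcases zmod_two_cases (φ b) with e | e
  · exact e
  · exact absurd ⟨φ, hφ, e⟩ h

theorem symm [Finite H] {a b : M} (ha : a ∈ Om) (hb : b ∈ Om) (h : Jd Q a b) : Jd Q b a := by
  obtain ⟨K, S⟩ := D.sys
  exact S.symm ha hb h

/-- (0) -/
theorem ps_inj [Finite H] {a c : M} (ha : a ∈ Om) (hc : c ∈ Om) (hps : ps Q a = ps Q c) : a = c := by
  have key : ∀ a ∈ Om, ∀ c ∈ Om, ps Q a = ps Q c → ∀ x ∈ Om, ∀ ψ ∈ ps Q x, ψ a = 1 → ψ c = 1 := by
    intro a ha c hc hps x hx ψ hψ h1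
    rcases zmod_two_cases (ψ c) with e | e
    swap
    · exact e
    exfalso
    obtain ⟨φ, hφ, hφ1⟩ := D.symm hx ha ⟨ψ, hψ, h1⟩
    obtain ⟨t, htQ, ht, rfl⟩ := hψ
    have e1 : t • a = x * a := ht.eq_of_one h1
    have e2 : t • c = c := fn_eq_zero.mp e
    have e3 : ps Q (x * a) = ps Q a := by
      rw [← e1, D.ps_smul t ha, hps, ← D.ps_smul t hc, e2]
    have h2 : φ ∈ ps Q (x * a) := by rw [e3]; exact hφ
    have hxa : x * a ∈ Om := by rw [← e1]; exact D.smul t a ha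
    have h3 := D.self_zero hxa h2
    rw [D.ps_add ha hφ, hφ1, D.self_zero ha hφ, add_zero] at h3
    exact absurd h3 (by decide)
  refine D.o_aux ha hc hps fun x hx ψ hψ => ?_
  rcases zmod_two_cases (ψ a) with e | e
  · rcases zmod_two_cases (ψ c) with e' | e'
    · rw [e, e']
    · rw [key c hc a ha hps.symm x hx ψ hψ e', e']
  · rw [e, key a ha c hc hps x hx ψ hψ e]

/-- (1) -/
theorem fix_of_not_jd [Finite H] (hquad : Quad Om Q) {w s : M} (hw : w ∈ Om) (hs : s ∈ Om) (h : ¬ Jd Q s w) {g : H} (hg : g ∈ Q w) :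
    g • s = s := by
  by_contra hgs
  have hQ := hquad w hw
  refine hgs (Eq.symm (D.ps_inj hs (D.smul g s hs) ?_))
  rw [D.ps_smul g hs]
  -- every `ψ ∈ Ps s` is fixed by `g`
  have key : ∀ ψ ∈ ps Q s, tws g ψ = ψ := by
    intro ψ hψ
    by_contra hne
    have hψ' : tws g ψ ∈ ps Q (g • s) := by rw [D.ps_smul g hs]; exact ⟨ψ, hψ, rfl⟩
    have hgs' := D.smul g s hs
    have hψ0 : ψ ≠ 0 := by
      rintro rfl
      exact hne rfl
    -- `m` with `ψ m = 1`, `ψ^g m = 0`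
    obtain ⟨m, hm1, hm2⟩ : ∃ m : M, ψ m = 1 ∧ tws g ψ m = 0 := by
      by_contra hcon
      push Not at hcon
      obtain ⟨d, -, hd⟩ := D.exists_one hs hψ hψ0
      have hd' : tws g ψ d = 1 := (zmod_two_cases _).resolve_left (hcon d hd)
      apply hne
      funext m
      rcases zmod_two_cases (ψ m) with e | e
      · rw [e]
        have h1 : ψ (m * d) = 1 := by rw [D.ps_add hs hψ, e, hd, zero_add]
        have h2 : tws g ψ (m * d) = 1 := (zmod_two_cases _).resolve_left (hcon _ h1)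
        rw [D.ps_add hgs' hψ', hd'] at h2
        rcases zmod_two_cases (tws g ψ m) with e' | e'
        · exact e'
        · rw [e'] at h2
          exact absurd h2 (by decide)
      · rw [e]
        exact (zmod_two_cases _).resolve_left (hcon m e)
    obtain ⟨t, htQ, ht, rfl⟩ := hψ
    have htw : t • w = w := fn_eq_zero.mp (not_jd h ⟨t, htQ, ht, rfl⟩)
    -- `c = t g t⁻¹ g⁻¹ ∈ Q w`
    have hc : t * g * t⁻¹ * g⁻¹ ∈ Q w := by
      have h1 := D.conj t w hw g hg
      rw [htw] at h1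
      exact mul_mem h1 (inv_mem hg)
    have h3 : (g * t⁻¹ * g⁻¹) • m = m := by
      have h4 : (g * t * g⁻¹) • m = m := by
        rw [← fn_eq_zero, fn_conj]
        exact hm2
      have h5 : (g * t * g⁻¹)⁻¹ • m = m := by
        conv_lhs => rw [← h4]
        rw [inv_smul_smul]
      have e : g * t⁻¹ * g⁻¹ = (g * t * g⁻¹)⁻¹ := by group
      rw [e]
      exact h5
    have h4 : (t * g * t⁻¹ * g⁻¹) • m * m⁻¹ = s := by
      have e : t * g * t⁻¹ * g⁻¹ = t * (g * t⁻¹ * g⁻¹) := by group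
      rw [e, mul_smul, h3, ht.eq_of_one hm1, mul_inv_cancel_right]
    have h5 := hQ _ hc g hg m
    rw [h4] at h5
    exact hgs h5
  ext φ
  constructor
  · intro hφ
    exact ⟨φ, hφ, key φ hφ⟩
  · rintro ⟨ψ, hψ, rfl⟩
    rw [key ψ hψ]
    exact hψ

/-- (2), (3): `s ∈ Om` -/
theorem act_om [Finite H] (hquad : Quad Om Q) {w s : M} (hw : w ∈ Om) (hs : s ∈ Om) {g : H} (hg : g ∈ Q w) :
    g • s = s ∨ g • s = w * s := by
  by_cases hsw : Jd Q s w
  swap
  · exact Or.inl (D.fix_of_not_jd hquad hw hs hsw hg)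
  obtain ⟨K, S⟩ := D.sys
  have hgw := D.fix w hw g hg
  have hgs := D.smul g s hs
  have hws := S.symm hs hw hsw
  set u := g • s * s with hu
  have huu : u = g • s * s⁻¹ := by rw [D.inv_eq]
  have hgsu : g • s = u * s := by rw [hu, mul_assoc, D.sq, mul_one]
  -- `Q w` fixes `u`
  have hfix : ∀ t ∈ Q w, t • u = u := by
    intro t ht
    rw [huu]
    exact hquad w hw g hg t ht s
  by_cases hK : 2 < K
  · -- (2)
    by_contra hcon
    push Not at hcon
    obtain ⟨hn1, hn2⟩ := hcon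
    have hgsw : Jd Q w (g • s) := by
      obtain ⟨φ, hφ, h1⟩ := hws
      refine ⟨tws g φ, ?_, ?_⟩
      · have : tws g φ ∈ ps Q (g • w) := by rw [D.ps_smul g hw]; exact ⟨φ, hφ, rfl⟩
        rwa [hgw] at this
      · show φ (g⁻¹ • g • s) = 1
        rw [inv_smul_smul]; exact h1
    have h1 : Jd Q s (g • s) := by
      refine S.trans hK hs hw hgs hsw hgsw hn1 ?_
      rw [mul_one]; exact hn1
    obtain ⟨h2, h3⟩ := S.joined_mul hs hgs h1
    have e1 : s * g • s = u := by rw [hu, D.comm]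
    rw [e1] at h2 h3
    have hwu : w ≠ u := by
      rintro rfl
      exact hn2 hgsu
    have h4 : Jd Q u w := by
      refine S.trans hK h2 hs hw (S.symm hs h2 h3) hsw hwu ?_
      rw [mul_one]; exact hwu
    obtain ⟨φ, ⟨t, htQ, ht, rfl⟩, h5⟩ := S.symm h2 hw h4
    have h6 := hfix t htQ
    rw [fn_eq_zero.mpr h6] at h5
    exact absurd h5 (by decide)
  · -- (3)
    have huniq : ∀ a ∈ Om, ∀ φ ∈ ps Q a, ∀ ψ ∈ ps Q a, φ ≠ 0 → ψ ≠ 0 → φ = ψ := by
      intro a ha φ hφ ψ hψ h1 h2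
      by_contra hne
      apply hK
      have h3 : ({0, φ, ψ} : Set (M → ZMod 2)) ⊆ ps Q a := by
        rintro x (rfl | rfl | rfl)
        · exact S.zero a ha
        · exact hφ
        · exact hψ
      have h4 := Set.ncard_le_ncard h3 (S.fin a ha)
      rw [S.card a ha, Set.ncard_insert_of_notMem, Set.ncard_pair hne] at h4
      · exact h4
      · rintro (e | e)
        · exact h1 e.symm
        · exact h2 e.symm
    -- the form
    have hF : ∀ a : M, ∃ φ : M → ZMod 2, a ∈ Om → φ ∈ ps Q a ∧ φ ≠ 0 := by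
      intro a
      by_cases ha : a ∈ Om
      · obtain ⟨φ, h1, h2⟩ := D.exists_ne ha
        exact ⟨φ, fun _ => ⟨h1, h2⟩⟩
      · exact ⟨0, fun h => absurd h ha⟩
    choose F hF using hF
    have hFm : ∀ a ∈ Om, F a ∈ ps Q a := fun a ha => (hF a ha).1
    have hF0 : ∀ a ∈ Om, F a ≠ 0 := fun a ha => (hF a ha).2
    have hFu : ∀ a ∈ Om, ∀ φ ∈ ps Q a, φ ≠ 0 → φ = F a := fun a ha φ hφ h0 =>
      huniq a ha φ hφ (F a) (hFm a ha) h0 (hF0 a ha)
    have hJ : ∀ a ∈ Om, ∀ b, Jd Q a b ↔ F a b = 1 := by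
      intro a ha b
      constructor
      · rintro ⟨φ, hφ, h1⟩
        have h0 : φ ≠ 0 := by
          rintro rfl
          exact absurd (show (0 : ZMod 2) = 1 from h1) (by decide)
        rwa [← hFu a ha φ hφ h0]
      · intro h1
        exact ⟨F a, hFm a ha, h1⟩
    have hsym : ∀ a ∈ Om, ∀ b ∈ Om, F a b = F b a := by
      intro a ha b hb
      rcases zmod_two_cases (F a b) with e | e
      · rcases zmod_two_cases (F b a) with e' | e'
        · rw [e, e']
        · have := (hJ a ha b).mp (S.symm hb ha ((hJ b hb a).mpr e'))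
          rw [e] at this
          exact absurd this (by decide)
      · rw [e, (hJ b hb a).mp (S.symm ha hb ((hJ a ha b).mpr e))]
    have hadd : ∀ a ∈ Om, ∀ x y, F a (x * y) = F a x + F a y := fun a ha => D.ps_add ha (hFm a ha)
    have hg : ∀ a ∈ Om, ∀ x, F (g • a) (g • x) = F a x := by
      intro a ha x
      have h1 : tws g (F a) ∈ ps Q (g • a) := by rw [D.ps_smul g ha]; exact ⟨_, hFm a ha, rfl⟩
      have h2 : tws g (F a) ≠ 0 := by
        intro e
        apply hF0 a ha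
        apply tws_inj (M := M) g
        rw [e]
        rfl
      rw [← hFu _ (D.smul g a ha) _ h1 h2]
      show F a (g⁻¹ • g • x) = _
      rw [inv_smul_smul]
    -- `(u, τ) = 0` for `τ ⊥ w`
    have hperp : ∀ τ ∈ Om, F w τ = 0 → F τ u = 0 := by
      intro τ hτ h0
      have h1 : ¬ Jd Q τ w := by
        rw [hJ τ hτ, ← hsym w hw τ hτ, h0]
        decide
      have h2 := D.fix_of_not_jd hquad hw hτ h1 ‹g ∈ Q w›
      have h3 := hg τ hτ s
      rw [h2] at h3
      rw [hu, hadd τ hτ, h3, zmod_two_add]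
    have hFwu : F w u = 0 := by
      refine hperp w hw ?_
      exact D.self_zero hw (hFm w hw)
    have hFmul : ∀ a ∈ Om, ∀ b ∈ Om, a * b ∈ Om → ∀ x ∈ Om, F (a * b) x = F a x + F b x := by
      intro a ha b hb hab x hx
      rw [hsym _ hab x hx, hadd x hx, hsym x hx a ha, hsym x hx b hb]
    have hFmulu : ∀ a ∈ Om, ∀ b ∈ Om, a * b ∈ Om → F (a * b) u = F a u + F b u := by
      intro a ha b hb hab
      rw [hu, hadd _ hab, hFmul a ha b hb hab _ hgs, hFmul a ha b hb hab _ hs, hadd a ha, hadd b hb]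
      ring
    have hone : ∀ b ∈ Om, ∀ b' ∈ Om, F w b = 1 → F w b' = 1 → F b b' = 1 → F b u = F b' u := by
      intro b hb b' hb' h1 h1' h2
      have h3 : b * b' ∈ Om := S.mul_mem b hb b' hb' (F b) (hFm b hb) h2
      have h4 := hperp _ h3 (by rw [hadd w hw, h1, h1']; decide)
      rw [hFmulu b hb b' hb' h3] at h4
      rcases zmod_two_cases (F b u) with e | e <;> rcases zmod_two_cases (F b' u) with e' | e' <;>
        rw [e, e'] at h4 ⊢ <;> revert h4 <;> decide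
    have hall : ∀ b ∈ Om, ∀ b' ∈ Om, F w b = 1 → F w b' = 1 → F b u = F b' u := by
      intro b hb b' hb' h1 h1'
      rcases zmod_two_cases (F b b') with e | e
      swap
      · exact hone b hb b' hb' h1 h1' e
      have h3 : w * b' ∈ Om := S.mul_mem w hw b' hb' (F w) (hFm w hw) h1'
      have h4 : F w (w * b') = 1 := by
        rw [hadd w hw, D.self_zero hw (hFm w hw), zero_add, h1']
      have h5 : F b (w * b') = 1 := by
        rw [hadd b hb, hsym b hb w hw, h1, e, add_zero]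
      rw [hone b hb _ h3 h1 h4 h5, hFmulu w hw b' hb' h3, hFwu, zero_add]
    -- `s' = s` or `w s`
    have hFws : F w s = 1 := by
      rw [← hJ w hw]
      exact hws
    have hfin : ∀ s' ∈ Om, (∀ τ ∈ Om, F τ (g • s) = F τ s') → g • s = s' := by
      intro s' hs' h1
      have h2 : F (g • s) = F s' := by
        refine D.ps_ext hgs hs' (hFm _ hgs) (hFm _ hs') fun x hx => ?_
        rw [hsym _ hgs x hx, h1 x hx, hsym x hx s' hs']
      refine D.ps_inj hgs hs' ?_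
      have hset : ∀ a ∈ Om, ps Q a = {0, F a} := by
        intro a ha
        ext φ
        constructor
        · intro hφ
          by_cases h0 : φ = 0
          · exact Or.inl h0
          · exact Or.inr (hFu a ha φ hφ h0)
        · rintro (rfl | rfl)
          · exact S.zero a ha
          · exact hFm a ha
      rw [hset _ hgs, hset _ hs', h2]
    rcases zmod_two_cases (F s u) with ec | ec
    · left
      refine hfin s hs fun τ hτ => ?_
      rw [hgsu, hadd τ hτ u s]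
      have : F τ u = 0 := by
        rcases zmod_two_cases (F w τ) with e | e
        · exact hperp τ hτ e
        · rw [hall τ hτ s hs e hFws, ec]
      rw [this, zero_add]
    · right
      have hws' : w * s ∈ Om := S.mul_mem w hw s hs (F w) (hFm w hw) hFws
      refine hfin (w * s) hws' fun τ hτ => ?_
      rw [hgsu, hadd τ hτ u s, hadd τ hτ w s]
      congr 1
      rcases zmod_two_cases (F w τ) with e | e
      · rw [hperp τ hτ e, hsym τ hτ w hw, e]
      · rw [hall τ hτ s hs e hFws, ec, hsym τ hτ w hw, e]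

omit D in
theorem tv_all (D : Dat Om Q) {w : M} {g : H} (h : ∀ s ∈ Om, g • s = s ∨ g • s = w * s) : Tv w g := by
  intro m
  have hm : m ∈ closure Om := by rw [D.span]; exact mem_top m
  induction hm using closure_induction with
  | mem x hx => exact h x hx
  | one => left; exact smul_one g
  | mul x y _ _ h1 h2 =>
    rcases h1 with e | e <;> rcases h2 with e' | e'
    · left; rw [smul_mul', e, e']
    · right; rw [smul_mul', e, e', ← mul_assoc, D.comm x w, mul_assoc]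
    · right; rw [smul_mul', e, e', mul_assoc]
    · left; rw [smul_mul', e, e', D.comm w x, mul_assoc, D.mul_mul_cancel']
  | inv x _ h1 => rwa [D.inv_eq]

/-- **THEOREM TQ** -/
theorem tq [Finite H] (hquad : Quad Om Q) {w : M} (hw : w ∈ Om) {g : H} (hg : g ∈ Q w) : Tv w g :=
  D.tv_all fun _ hs => D.act_om hquad hw hs hg

/-! ### more than one transvection -/

omit D [Group H] [Group M] [MulDistribMulAction H M] in
theorem two_pow_mod (k : ℕ) : 2 ^ k % 3 = 1 ∨ 2 ^ k % 3 = 2 := by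
  induction k with
  | zero => left; rfl
  | succ k ih => rw [pow_succ]; omega

/-- an element of order 3 on `⟨x, y⟩` is not a 2-element -/
theorem three {g : H} {x y : M} (h1 : g • x = y) (h2 : g • y = x * y) (hx : x ≠ 1) (hy : y ≠ 1) (hxy : x ≠ y)
    {k : ℕ} (hk : ∀ m : M, g ^ 2 ^ k • m = m) : False := by
  have h3 : g • (x * y) = x := by
    rw [smul_mul', h1, h2, D.comm x y, D.mul_mul_cancel']
  have h4 : ∀ n : ℕ, (g ^ (3 * n)) • x = x := by
    intro n
    induction n with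
    | zero => rw [Nat.mul_zero, pow_zero, one_smul]
    | succ n ih =>
      rw [Nat.mul_succ, add_comm, pow_add, mul_smul, ih]
      rw [pow_succ, pow_succ, pow_one, mul_smul, mul_smul, h1, h2, h3]
  rcases two_pow_mod k with e | e
  · obtain ⟨n, hn⟩ : ∃ n, 2 ^ k = 3 * n + 1 := ⟨2 ^ k / 3, by omega⟩
    have := hk x
    rw [hn, pow_succ', mul_smul, h4, h1] at this
    exact hxy this.symm
  · obtain ⟨n, hn⟩ : ∃ n, 2 ^ k = 3 * n + 2 := ⟨2 ^ k / 3, by omega⟩
    have := hk x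
    rw [hn, pow_succ', pow_succ', mul_smul, mul_smul, h4, h1, h2] at this
    exact hy (by simpa using this)

/-- **THEOREM TQ'** -/
theorem act_om_big [Finite H] {K : ℕ} (S : Sys Om 1 (ps Q) K) (hK : 2 < K) {w s : M} (hw : w ∈ Om) (hs : s ∈ Om)
    {g : H} (hg : g ∈ Q w) : g • s = s ∨ g • s = w * s := by
  by_contra hcon
  push Not at hcon
  obtain ⟨hn1, hn2⟩ := hcon
  have hgw := D.fix w hw g hg
  have hgw' : g⁻¹ • w = w := by rw [inv_smul_eq_iff, hgw]
  have hgs := D.smul g s hs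
  have hgs' := D.smul g⁻¹ s hs
  have hsw : s ≠ w := by
    rintro rfl
    exact hn1 hgw
  -- transitivity in the form `a - b - c`
  have htr : ∀ {a b c : M}, a ∈ Om → b ∈ Om → c ∈ Om → Jd Q a b → Jd Q b c → c ≠ a → Jd Q a c :=
    fun ha hb hc h1 h2 h3 => S.trans hK ha hb hc h1 h2 h3 (by rw [mul_one]; exact h3)
  have hsy : ∀ {a b : M}, a ∈ Om → b ∈ Om → Jd Q a b → Jd Q b a := fun ha hb h1 => S.symm ha hb h1
  -- `s` and `g s`, `g⁻¹ s`
  set e1 := g • s with he1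
  set e2 := g⁻¹ • s with he2
  have hne1 : e1 ≠ s := hn1
  have hne2 : e2 ≠ s := by
    intro e
    apply hn1
    rw [he1]
    nth_rewrite 1 [← e]
    rw [he2, smul_inv_smul]
  -- the final contradiction in cases (a), (b)
  have hfin : ∀ φ ∈ ps Q s, φ w = 0 → φ e1 = 1 → φ e2 = 1 → False := by
    rintro _ ⟨t, htQ, ht, rfl⟩ h1 h2 h3
    have htw : t • w = w := fn_eq_zero.mp h1
    have hc : t * (g * t * g⁻¹)⁻¹ ∈ Q w := by
      have h4 := D.conj t w hw g hg
      rw [htw] at h4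
      have e : t * (g * t * g⁻¹)⁻¹ = t * g * t⁻¹ * g⁻¹ := by group
      rw [e]
      exact mul_mem h4 (inv_mem hg)
    set t' := g * t * g⁻¹ with ht'
    have ht'Q : t' ∈ Q e1 := D.conj g s hs t htQ
    have ht'v : Tv e1 t' := ht.conj g
    have h5 : t' • s = e1 * s := by
      refine ht'v.eq_of_one ?_
      rw [ht', fn_conj]
      exact h3
    have h6 : t'⁻¹ • s = e1 * s := by
      rw [D.inv_smul hgs ht'v (D.fix _ hgs t' ht'Q), h5]
    have h7 : t'⁻¹ • e1 = e1 := by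
      rw [inv_smul_eq_iff, D.fix _ hgs t' ht'Q]
    have hts : t • s = s := D.fix s hs t htQ
    have hte : t • e1 = s * e1 := ht.eq_of_one h2
    obtain ⟨k, hk⟩ := D.two w hw _ hc
    refine D.three (g := t * t'⁻¹) (x := s) (y := e1) ?_ ?_ (D.ne s hs) (D.ne _ hgs) hne1.symm hk
    · rw [mul_smul, h6, smul_mul', hte, hts, D.comm s e1, mul_assoc, D.sq, mul_one]
    · rw [mul_smul, h7, hte]
  -- two functionals
  have hcomb : ∀ φ₁ ∈ ps Q s, ∀ φ₂ ∈ ps Q s, φ₁ w = 0 → φ₂ w = 0 → φ₁ e1 = 1 → φ₂ e2 = 1 → False := by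
    intro φ₁ h₁ φ₂ h₂ hw1 hw2 a1 a2
    rcases zmod_two_cases (φ₁ e2) with e | e
    swap
    · exact hfin φ₁ h₁ hw1 a1 e
    rcases zmod_two_cases (φ₂ e1) with e' | e'
    swap
    · exact hfin φ₂ h₂ hw2 e' a2
    refine hfin (φ₁ + φ₂) (S.addm s hs _ h₁ _ h₂) ?_ ?_ ?_
    · show φ₁ w + φ₂ w = 0
      rw [hw1, hw2, add_zero]
    · show φ₁ e1 + φ₂ e1 = 1
      rw [a1, e', add_zero]
    · show φ₁ e2 + φ₂ e2 = 1
      rw [e, a2, zero_add]
  have htw : ∀ (h : H) {a b : M}, a ∈ Om → Jd Q a b → Jd Q (h • a) (h • b) := by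
    rintro h a b ha ⟨φ, hφ, h1⟩
    refine ⟨tws h φ, ?_, ?_⟩
    · rw [D.ps_smul h ha]
      exact ⟨φ, hφ, rfl⟩
    · show φ (h⁻¹ • h • b) = 1
      rw [inv_smul_smul]; exact h1
  by_cases hsX : Jd Q s w
  · -- (a)
    have hws := hsy hs hw hsX
    have sep : ∀ e ∈ Om, Jd Q w e → e ≠ s → e ≠ w * s → ∃ ψ ∈ ps Q s, ψ w = 0 ∧ ψ e = 1 := by
      intro e he hwe h1 h2
      obtain ⟨h3, h4⟩ := S.joined_mul hw he hwe
      have h5 : w * e ≠ s := by
        intro e'
        apply h2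
        rw [← e', D.mul_mul_cancel']
      obtain ⟨ψ₁, hψ₁, h6⟩ := htr hs hw h3 hsX h4 h5
      obtain ⟨ψ₂, hψ₂, h7⟩ := htr hs hw he hsX hwe h1
      rw [D.ps_add hs hψ₁] at h6
      rcases zmod_two_cases (ψ₁ w) with a1 | a1
      · rw [a1, zero_add] at h6
        exact ⟨ψ₁, hψ₁, a1, h6⟩
      rcases zmod_two_cases (ψ₁ e) with a2 | a2
      swap
      · rw [a1, a2] at h6
        exact absurd h6 (by decide)
      rcases zmod_two_cases (ψ₂ w) with a3 | a3
      · exact ⟨ψ₂, hψ₂, a3, h7⟩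
      refine ⟨ψ₁ + ψ₂, S.addm s hs _ hψ₁ _ hψ₂, ?_, ?_⟩
      · show ψ₁ w + ψ₂ w = 0
        rw [a1, a3]; decide
      · show ψ₁ e + ψ₂ e = 1
        rw [a2, h7, zero_add]
    have hwe1 : Jd Q w e1 := by
      have := htw g hw hws
      rwa [hgw] at this
    have hwe2 : Jd Q w e2 := by
      have := htw g⁻¹ hw hws
      rwa [hgw'] at this
    have hne2' : e2 ≠ w * s := by
      intro e
      apply hn2
      have h1 : s = w * e1 := by
        calc s = g • e2 := by rw [he2, smul_inv_smul]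
          _ = w * e1 := by rw [e, smul_mul', hgw]
      rw [h1, D.mul_mul_cancel']
    obtain ⟨φ₁, h₁, a1, b1⟩ := sep e1 hgs hwe1 hne1 hn2
    obtain ⟨φ₂, h₂, a2, b2⟩ := sep e2 hgs' hwe2 hne2 hne2'
    exact hcomb φ₁ h₁ φ₂ h₂ a1 a2 b1 b2
  · by_cases hse : Jd Q s e1
    · -- (b)
      obtain ⟨φ₁, h₁, b1⟩ := hse
      have h3 : Jd Q s e2 := by
        refine hsy hgs' hs ?_
        have := htw g⁻¹ hs ⟨φ₁, h₁, b1⟩
        rwa [he1, inv_smul_smul] at this
      obtain ⟨φ₂, h₂, b2⟩ := h3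
      exact hcomb φ₁ h₁ φ₂ h₂ (not_jd hsX h₁) (not_jd hsX h₂) b1 b2
    · -- (c)
      obtain ⟨φ, hφ, hφ0⟩ := D.exists_ne hs
      obtain ⟨d, hd, hφd⟩ := D.exists_one hs hφ hφ0
      have hsd : Jd Q s d := ⟨φ, hφ, hφd⟩
      have hds := hsy hs hd hsd
      obtain ⟨θ, hθ, hθs⟩ := id hds
      have hdw : ¬ Jd Q d w := fun h1 => hsX (htr hs hd hw hsd h1 hsw.symm)
      have he1s : ¬ Jd Q e1 s := fun h1 => hse (hsy hgs hs h1)
      have he1d : ¬ Jd Q e1 d := fun h1 => hse (htr hs hd hgs hsd (hsy hgs hd h1) hne1)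
      obtain ⟨t, htQ, ht, rfl⟩ := hφ
      obtain ⟨t2, ht2Q, ht2, rfl⟩ := hθ
      have htw' : t • w = w := fn_eq_zero.mp (not_jd hsX ⟨t, htQ, ht, rfl⟩)
      have ht2w : t2 • w = w := fn_eq_zero.mp (not_jd hdw ⟨t2, ht2Q, ht2, rfl⟩)
      set t' := g * t * g⁻¹ with ht'
      have ht'Q : t' ∈ Q e1 := D.conj g s hs t htQ
      have ht'v : Tv e1 t' := ht.conj g
      have hc : t * t'⁻¹ ∈ Q w := by
        have h4 := D.conj t w hw g hg
        rw [htw'] at h4
        have e : t * (g * t * g⁻¹)⁻¹ = t * g * t⁻¹ * g⁻¹ := by group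
        rw [ht', e]
        exact mul_mem h4 (inv_mem hg)
      have hc2 : t2 * (t * t'⁻¹) * t2⁻¹ ∈ Q w := by
        have h4 := D.conj t2 w hw _ hc
        rwa [ht2w] at h4
      have hc' : (t * t'⁻¹) * (t2 * (t * t'⁻¹) * t2⁻¹)⁻¹ ∈ Q w := mul_mem hc (inv_mem hc2)
      -- actions
      have a1 : t' • s = s := fn_eq_zero.mp (not_jd he1s ⟨t', ht'Q, ht'v, rfl⟩)
      have a2 : t' • d = d := fn_eq_zero.mp (not_jd he1d ⟨t', ht'Q, ht'v, rfl⟩)
      have a1' : t'⁻¹ • s = s := by rw [inv_smul_eq_iff, a1]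
      have a2' : t'⁻¹ • d = d := by rw [inv_smul_eq_iff, a2]
      have b1 : t • s = s := D.fix s hs t htQ
      have b2 : t • d = s * d := ht.eq_of_one hφd
      have b1' : t⁻¹ • s = s := by rw [inv_smul_eq_iff, b1]
      have b2' : t⁻¹ • d = s * d := by rw [D.inv_smul hs ht b1, b2]
      have c1 : t2 • d = d := D.fix d hd t2 ht2Q
      have c2 : t2 • s = d * s := ht2.eq_of_one hθs
      have c1' : t2⁻¹ • d = d := by rw [inv_smul_eq_iff, c1]
      have c2' : t2⁻¹ • s = d * s := by rw [D.inv_smul hd ht2 c1, c2]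
      have hcc : (t * t'⁻¹) * (t2 * (t * t'⁻¹) * t2⁻¹)⁻¹ = t * t'⁻¹ * t2 * t' * t⁻¹ * t2⁻¹ := by group
      have hsds : s * d * s = d := by rw [D.comm (s * d) s, D.mul_mul_cancel']
      have hdsd : d * s * d = s := by rw [D.comm (d * s) d, D.mul_mul_cancel']
      obtain ⟨k, hk⟩ := D.two w hw _ hc'
      refine D.three (g := (t * t'⁻¹) * (t2 * (t * t'⁻¹) * t2⁻¹)⁻¹) (x := d) (y := s) ?_ ?_ (D.ne d hd) (D.ne s hs)
        ?_ hk
      · rw [hcc]
        simp only [mul_smul, smul_mul', a1, a2, a1', a2', b1, b2, b1', b2', c1, c2, c1', c2']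
        rw [hsds, D.comm s d, D.mul_mul_cancel']
      · rw [hcc]
        simp only [mul_smul, smul_mul', a1, a2, a1', a2', b1, b2, b1', b2', c1, c2, c1', c2']
        rw [hsds, D.comm s d, D.mul_mul_cancel', D.comm]
      · rintro rfl
        rw [fn_eq_zero.mpr b1] at hφd
        exact absurd hφd (by decide)

/-- **THEOREM TQ'** : two different transvections with centre `w₀` in some `Q w₀` -/
theorem tqBig [Finite H] {w₀ : M} (hw₀ : w₀ ∈ Om) {t t' : H} (ht : t ∈ Q w₀) (ht' : t' ∈ Q w₀) (htv : Tv w₀ t)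
    (htv' : Tv w₀ t') (h1 : ∃ m : M, t • m ≠ m) (h2 : ∃ m : M, t' • m ≠ m) (h3 : ∃ m : M, t • m ≠ t' • m)
    {w : M} (hw : w ∈ Om) {g : H} (hg : g ∈ Q w) : Tv w g := by
  obtain ⟨K, S⟩ := D.sys
  have hK : 2 < K := by
    obtain ⟨m1, h1⟩ := h1
    obtain ⟨m2, h2⟩ := h2
    obtain ⟨m3, h3⟩ := h3
    have n1 : (fn t : M → ZMod 2) ≠ 0 := fun e => h1 (fn_eq_zero.mp (congrFun e m1))
    have n2 : (fn t' : M → ZMod 2) ≠ 0 := fun e => h2 (fn_eq_zero.mp (congrFun e m2))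
    have n3 : (fn t : M → ZMod 2) ≠ fn t' := by
      intro e
      apply h3
      have := congrFun e m3
      rcases zmod_two_cases (fn t m3) with a | a
      · rw [a] at this
        rw [fn_eq_zero.mp a, fn_eq_zero.mp this.symm]
      · rw [a] at this
        rw [htv.eq_of_one a, htv'.eq_of_one this.symm]
    have h4 : ({0, fn t, fn t'} : Set (M → ZMod 2)) ⊆ ps Q w₀ := by
      rintro x (rfl | rfl | rfl)
      · exact S.zero w₀ hw₀
      · exact ⟨t, ht, htv, rfl⟩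
      · exact ⟨t', ht', htv', rfl⟩
    have h5 := Set.ncard_le_ncard h4 (S.fin w₀ hw₀)
    rw [S.card w₀ hw₀, Set.ncard_insert_of_notMem, Set.ncard_pair n3] at h5
    · exact h5
    · rintro (e | e)
      · exact n1 e.symm
      · exact n2 e.symm
  exact D.tv_all fun _ hs => D.act_om_big S hK hw hs hg

end Dat

end Cfsg.Agent.Omega.NO3S.TwoMid.TQ

end

section


/-!
# NO-3S, `|V| = 4`, `n = 2`, TYPE N, `κ = 1` (helper60, bb #16001, section 2): components

* `KO T V z` : type N, a critical pair exists, `¬ K2 V`, `Jn` is symmetric;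
* `KO.not_jn` (2.1): a critical pair is not joined;
* `Cc V r` : connected by joined points of `r`; `KO.com` (2.2): connected points commute;
* `KO.exists_jn`, `KO.jn_mul` : every point `a ~ r`, `a ≠ r` is joined to some point; `r a` has the same neighbours;
* `cx V r a = C_{W_r}(U_b, b in the component of a)`; `KO.eq_of_cx` (2.3).
-/

set_option autoImplicit false
set_option linter.unusedSectionVars false

namespace Cfsg.Agent.Omega.NO3S.TypeN

open Subgroup Cfsg Cfsg.Agent.ZN Cfsg.Agent.MinSimple.Geo Cfsg.Agent.Omega.CaseL Cfsg.Agent.Omega.NO3S.TwoOne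
  Cfsg.Agent.Omega.NO3S.Pt Cfsg.Agent.Omega.NO3S.TwoMid
open Cfsg.Agent.ZN.Block (conj_mem_of_normalizer conj_mem_of_normalizer' le_normalizer_of_forall
  mem_normalizer_of)

universe u

variable {G : Type u} [Group G]

/-- the hypotheses of section 2 -/
structure KO (T V : Subgroup G) (z : G) : Prop extends TyN T V z where
  crit : ∃ a r b, Mid T V z a r b
  k1 : ¬ K2 V
  j1 : ∀ r a b, Jn V r a b → Jn V r b a

/-- all flags `(r, a)` with a point `a ≠ r` on the line are conjugate -/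
theorem exists_flag_std {T V : Subgroup G} {z : G} (h : Fr T V z) {y : G} (hy : y ∈ V) (hy1 : y ≠ 1)
    (hyz : y ≠ z) {r a : G} (hra : Col V r a) (hne : a ≠ r) : ∃ g, g * z * g⁻¹ = r ∧ g * y * g⁻¹ = a := by
  obtain ⟨g, hr, ha, hr1, ha1⟩ := hra
  obtain ⟨k, hk, hkz, hf⟩ := h.flag hr hr1
  rw [← hk] at ha
  have hv := mem_of_cj ha
  have hv1 : k⁻¹ * a * k ≠ 1 := fun e => ha1 (by
    have : a = k * (k⁻¹ * a * k) * k⁻¹ := by group
    rw [this, e]; group)
  have hvz : k⁻¹ * a * k ≠ z := fun e => hne (by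
    have : a = k * (k⁻¹ * a * k) * k⁻¹ := by group
    rw [this, e, hkz])
  rcases h.ln.four h.ln.z_mem hy h.ln.z_ne hy1 (Ne.symm hyz) hv with e | e | e | e
  · exact absurd e hv1
  · exact absurd e hvz
  · exact ⟨k, hkz, by rw [← e]; group⟩
  · obtain ⟨m, hm, hm1⟩ := h.exists_mover h.ln.z_mem h.ln.z_ne
    have e1 := h.move h.ln.z_mem h.ln.z_ne hy hy1 hyz hm hm1
    refine ⟨k * m, ?_, ?_⟩
    · calc k * m * z * (k * m)⁻¹ = k * (m * z * m⁻¹) * k⁻¹ := by group
        _ = r := by rw [conj_eq_of_comm (h.kq_p hm), hkz]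
    · calc k * m * y * (k * m)⁻¹ = k * (m * y * m⁻¹) * k⁻¹ := by group
        _ = a := by rw [e1, ← e]; group

theorem exists_flag_conj {T V : Subgroup G} {z : G} (h : Fr T V z) {r a r' a' : G} (hra : Col V r a)
    (hne : a ≠ r) (hra' : Col V r' a') (hne' : a' ≠ r') : ∃ g, g * r * g⁻¹ = r' ∧ g * a * g⁻¹ = a' := by
  obtain ⟨y, hy, hy1, hyz⟩ := h.ln.exists_y
  obtain ⟨g, h1, h2⟩ := exists_flag_std h hy hy1 hyz hra hne
  obtain ⟨k, h3, h4⟩ := exists_flag_std h hy hy1 hyz hra' hne'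
  refine ⟨k * g⁻¹, ?_, ?_⟩
  · rw [← h1, ← h3]; group
  · rw [← h2, ← h4]; group

/-- `W_r` is generated by the points collinear with `r` -/
theorem ws_le_of_pts {V U : Subgroup G} {r : G} (hr1 : r ≠ 1) (h : ∀ b, Col V r b → b ∈ U) : ws V r ≤ U := by
  refine ws_le ?_
  rintro L ⟨⟨g, rfl⟩, hr⟩ b hb
  by_cases hb1 : b = 1
  · rw [hb1]; exact one_mem _
  · exact h b ⟨g, hr, hb, hr1, hb1⟩

/-- connected at `r` -/
def Cc (V : Subgroup G) (r : G) : G → G → Prop := Relation.ReflTransGen (Jn V r)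

section Cc

variable {V : Subgroup G} {r a b c : G}

theorem Cc.refl (V : Subgroup G) (r a : G) : Cc V r a a := Relation.ReflTransGen.refl

theorem Cc.single (h : Jn V r a b) : Cc V r a b := Relation.ReflTransGen.single h

theorem Cc.trans (h : Cc V r a b) (h' : Cc V r b c) : Cc V r a c := Relation.ReflTransGen.trans h h'

theorem Cc.col (h : Cc V r a b) (ha : Col V r a) : Col V r b := by
  induction h with
  | refl => exact ha
  | tail _ h _ => exact h.2.1

theorem Cc.conj (h : Cc V r a b) (g : G) : Cc V (g * r * g⁻¹) (g * a * g⁻¹) (g * b * g⁻¹) := by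
  induction h with
  | refl => exact .refl _ _ _
  | tail _ h ih => exact ih.trans (.single (h.conj g))

theorem Cc.of_conj (g : G) (h : Cc V (g * r * g⁻¹) (g * a * g⁻¹) (g * b * g⁻¹)) : Cc V r a b := by
  have := h.conj g⁻¹
  have e : ∀ x : G, g⁻¹ * (g * x * g⁻¹) * g⁻¹⁻¹ = x := fun x => by group
  rwa [e, e, e] at this

end Cc

/-- `C_{W_r}(U_b, b in the component of a)` -/
def cx (V : Subgroup G) (r a : G) : Subgroup G where
  carrier := {x | x ∈ ws V r ∧ ∀ b, Cc V r a b → ∀ u ∈ uu V b, u * x = x * u}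
  mul_mem' := by
    rintro x y ⟨hx, hx1⟩ ⟨hy, hy1⟩
    exact ⟨mul_mem hx hy, fun b hb u hu => comm_mul_of (hx1 b hb u hu) (hy1 b hb u hu)⟩
  one_mem' := ⟨one_mem _, fun b _ u _ => by simp⟩
  inv_mem' := by
    rintro x ⟨hx, hx1⟩
    exact ⟨inv_mem hx, fun b hb u hu => comm_inv_of (hx1 b hb u hu)⟩

theorem mem_cx {V : Subgroup G} {r a x : G} :
    x ∈ cx V r a ↔ x ∈ ws V r ∧ ∀ b, Cc V r a b → ∀ u ∈ uu V b, u * x = x * u := Iff.rfl

theorem cx_le (V : Subgroup G) (r a : G) : cx V r a ≤ ws V r := fun _ h => h.1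

theorem conj_mem_uu {V : Subgroup G} {b u : G} (g : G) (hu : u ∈ uu V b) : g * u * g⁻¹ ∈ uu V (g * b * g⁻¹) := by
  rw [← cj_uu]; exact conj_mem_cj hu

theorem conj_mem_cx {V : Subgroup G} {r a x : G} (g : G) (hx : x ∈ cx V r a) :
    g * x * g⁻¹ ∈ cx V (g * r * g⁻¹) (g * a * g⁻¹) := by
  refine ⟨conj_mem_ws g hx.1, fun b hb u hu => ?_⟩
  have e : g * (g⁻¹ * b * g) * g⁻¹ = b := by group
  have h1 : Cc V r a (g⁻¹ * b * g) := Cc.of_conj g (by rwa [e])
  have h2 : g⁻¹ * u * g ∈ uu V (g⁻¹ * b * g) := by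
    have := conj_mem_uu g⁻¹ hu
    rwa [inv_inv] at this
  have h3 := hx.2 _ h1 _ h2
  calc u * (g * x * g⁻¹) = g * ((g⁻¹ * u * g) * x) * g⁻¹ := by group
    _ = g * (x * (g⁻¹ * u * g)) * g⁻¹ := by rw [h3]
    _ = g * x * g⁻¹ * u := by group

theorem cj_cx (V : Subgroup G) (g r a : G) : cj g (cx V r a) = cx V (g * r * g⁻¹) (g * a * g⁻¹) := by
  apply le_antisymm
  · intro x hx
    have := conj_mem_cx g (mem_of_cj hx)
    have e : g * (g⁻¹ * x * g) * g⁻¹ = x := by group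
    rwa [e] at this
  · intro x hx
    rw [mem_cj]
    have := conj_mem_cx g⁻¹ hx
    have e : ∀ x : G, g⁻¹ * (g * x * g⁻¹) * g⁻¹⁻¹ = x := fun x => by group
    rw [e, e, inv_inv] at this
    exact this

namespace KO

variable {T V : Subgroup G} {z : G} {a b c p r : G} [Finite G]

/-- `κ = 1` -/
theorem one (h : KO T V z) (hpr : Col V p r) {u u' x x' : G} (hu : u ∈ uu V p) (hu' : u' ∈ uu V p)
    (hx : x ∈ ws V r) (hx' : x' ∈ ws V r) (h1 : u * x * u⁻¹ ≠ x) (h2 : u' * x' * u'⁻¹ ≠ x') :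
    u' * x * u'⁻¹ ≠ x := fun e => h.k1 ⟨p, r, hpr, u, hu, u', hu', x, hx, x', hx', h1, e, h2⟩

/-- (2.1) a critical pair is not joined at its middle -/
theorem not_jn (h : KO T V z) (hm : Mid T V z c p r) : ¬ Jn V p c r := by
  intro hj
  have hcp := hm.pr
  have hpr := hm.rq
  obtain ⟨-, -, u, hu, eu⟩ := id hj
  obtain ⟨-, -, w, hw, ew⟩ := h.j1 _ _ _ hj
  -- `(c, c r)` is critical
  have huc : u * c * u⁻¹ = c := conj_eq_of_comm (uu_comm_ws h.toTyN hu (h.fr.mem_ws_self hcp.left))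
  have h1 : ¬ Com V c (c * r) := by
    intro e
    apply hm.ne
    refine Com.of_conj u ?_
    rwa [huc, eu]
  have h1' : ∃ y ∈ ws V c, ∃ x ∈ ws V (c * r), y * x ≠ x * y := by
    by_contra hcon
    push Not at hcon
    exact h1 hcon
  obtain ⟨y, hy, x, hx, hyx⟩ := h1'
  have hrc : r * c = c * r := h.fr.ws_comm hcp.right r (h.fr.mem_ws_of_col hpr) c
    (h.fr.mem_ws_of_col hcp.symm)
  have hwr : w * r * w⁻¹ = r := conj_eq_of_comm (uu_comm_ws h.toTyN hw (h.fr.mem_ws_self hpr.right))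
  have hwc : w * c * w⁻¹ = c * r := by rw [ew, hrc]
  have hrr := h.fr.pt_sq hpr.right
  have hwcr : w * (c * r) * w⁻¹ = c := by
    calc w * (c * r) * w⁻¹ = (w * c * w⁻¹) * (w * r * w⁻¹) := by group
      _ = c * (r * r) := by rw [hwc, hwr, mul_assoc]
      _ = c := by rw [hrr, mul_one]
  have hx' : w * y * w⁻¹ ∈ ws V (c * r) := by
    have := conj_mem_ws w hy
    rwa [hwc] at this
  have hy' : w * x * w⁻¹ ∈ ws V c := by
    have := conj_mem_ws w hx
    rwa [hwcr] at this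
  have hd := h.toTyN.dihedral hcp hpr hm.ne_rq.symm hw hy
  have hyi : y⁻¹ = y := inv_eq_self (sq_ws h.toTyN hcp.left hy)
  have hyw : y * (w * y * w⁻¹) = (w * y * w⁻¹) * y := by
    rw [hyi] at hd
    calc y * (w * y * w⁻¹) = y * w * y * w⁻¹ := by group
      _ = y⁻¹ * (y * (y * w * y * w⁻¹)) := by group
      _ = y⁻¹ * (y * w * y * w⁻¹ * y) := by rw [hd]
      _ = (w * y * w⁻¹) * y := by group
  have hcol : Col V p (c * r) := hj.col_mul h.toTyN
  refine h.one (p := p) (r := c * r) hcol (u := w * x * w⁻¹) (u' := y) (x := w * y * w⁻¹) (x' := x)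
    (ws_le_uu hcp.symm hy') (ws_le_uu hcp.symm hy) hx' hx ?_ ?_ (conj_eq_of_comm hyw)
  · intro e
    apply hyx
    have := comm_of_conj_eq e
    calc y * x = w⁻¹ * ((w * y * w⁻¹) * (w * x * w⁻¹)) * w := by group
      _ = w⁻¹ * ((w * x * w⁻¹) * (w * y * w⁻¹)) * w := by rw [this]
      _ = x * y := by group
  · intro e
    exact hyx (comm_of_conj_eq e)

theorem not_jn' (h : KO T V z) (hm : Mid T V z c p r) : ¬ Jn V p r c := fun e => h.not_jn hm (h.j1 _ _ _ e)

/-- (2.2): `W_a Z_r = W_{pa} Z_r` for joined `p`, `a` at `r` -/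
theorem sup_mul (h : KO T V z) (hj : Jn V r p a) :
    ws V a ≤ ws V (p * a) ⊔ zr V r ∧ ws V (p * a) ≤ ws V a ⊔ zr V r := by
  obtain ⟨c, hpc, w, hw, hne⟩ := exists_ws V hj.exists_ne
  have hpr := hj.1
  have hra := hj.2.1
  have haW : a ∈ ws V r := h.fr.mem_ws_of_col hra
  have hm := mid_of_move h.toTyN hpc.symm hpr hw haW hne
  have hcen : ∀ u ∈ uu V r, u * w * u⁻¹ * w⁻¹ ∈ zr V r := fun u hu => cent_uu h.toTyN hm (h.not_jn' hm) hu hw
  have hwa : w * a * w⁻¹ = p * a := (act h.toTyN hpr (ws_le_uu hpc hw) haW).resolve_left hne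
  have hle : ws V a ≤ uu V r := ws_le_uu hra
  have key : ∀ x ∈ ws V a, w * x * w⁻¹ ∈ ws V (p * a) ∧ x⁻¹ * (w * x * w⁻¹) ∈ zr V r := by
    intro x hx
    constructor
    · have := conj_mem_ws w hx
      rwa [hwa] at this
    · have h1 := hcen _ (inv_mem (hle hx))
      have e : x⁻¹ * w * x⁻¹⁻¹ * w⁻¹ = x⁻¹ * (w * x * w⁻¹) := by group
      rwa [e] at h1
  constructor
  · intro x hx
    obtain ⟨h1, h2⟩ := key x hx
    have e : x = (w * x * w⁻¹) * (x⁻¹ * (w * x * w⁻¹))⁻¹ := by group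
    rw [e]
    exact mul_mem (le_sup_left (a := ws V (p * a)) h1) (le_sup_right (b := zr V r) (inv_mem h2))
  · intro x hx
    have h3 : w⁻¹ * x * w ∈ ws V a := by
      have := conj_mem_ws w⁻¹ hx
      rw [← hwa] at this
      have e : w⁻¹ * (w * a * w⁻¹) * w⁻¹⁻¹ = a := by group
      rwa [e, inv_inv] at this
    obtain ⟨-, h2⟩ := key _ h3
    have e : x = (w⁻¹ * x * w) * ((w⁻¹ * x * w)⁻¹ * (w * (w⁻¹ * x * w) * w⁻¹)) := by group
    rw [e]
    exact mul_mem (le_sup_left (a := ws V a) h3) (le_sup_right (b := zr V r) h2)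

theorem sup_jn (h : KO T V z) (hj : Jn V r p a) : ws V p ≤ ws V a ⊔ zr V r := by
  have h1 := (h.sup_mul hj).2
  have h2 := (h.sup_mul (h.j1 _ _ _ hj)).1
  have e : a * p = p * a := h.fr.ws_comm hj.1.right a (h.fr.mem_ws_of_col hj.2.1) p
    (h.fr.mem_ws_of_col hj.1.symm)
  rw [e] at h2
  exact h2.trans (sup_le h1 le_sup_right)

theorem cc_symm (h : KO T V z) (hc : Cc V r a b) : Cc V r b a := by
  induction hc with
  | refl => exact .refl _ _ _
  | tail _ h' ih => exact (Cc.single (h.j1 _ _ _ h')).trans ih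

theorem cc_ne (h : KO T V z) (hc : Cc V r a b) (hne : a ≠ r) : b ≠ r := by
  induction hc with
  | refl => exact hne
  | tail _ h' _ => exact h'.ne_right h.toTyN

theorem cc_sup (h : KO T V z) (hc : Cc V r a b) : ws V a ≤ ws V b ⊔ zr V r := by
  induction hc with
  | refl => exact le_sup_left
  | tail _ h' ih => exact ih.trans (sup_le (h.sup_jn h') le_sup_right)

/-- (2.2): connected points commute -/
theorem com (h : KO T V z) (hra : Col V r a) (hc : Cc V r a b) : Com V a b := by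
  have hrb := hc.col hra
  intro x hx y hy
  have h1 : ws V b ⊔ zr V r ≤ centralizer ({y} : Set G) := by
    refine sup_le ?_ ?_
    · intro w hw
      rw [mem_centralizer_singleton_iff]
      exact h.fr.ws_comm hrb.right w hw y hy
    · intro w hw
      rw [mem_centralizer_singleton_iff]
      exact (mem_centralizer_iff.mp hw.2 y (ws_le_uu hrb hy)).symm
  exact mem_centralizer_singleton_iff.mp (h1 (h.cc_sup hc hx))

/-! ### existence of joined points -/

/-- every point `a ~ r`, `a ≠ r`, is joined to some point -/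
theorem exists_jn (h : KO T V z) (hra : Col V r a) (hne : a ≠ r) : ∃ b, Jn V r a b := by
  obtain ⟨a₀, r₀, b₀, hm⟩ := h.crit
  have h1 : ∃ w ∈ ws V a₀, ∃ x ∈ ws V b₀, w * x ≠ x * w := by
    by_contra hcon
    push Not at hcon
    exact hm.ne hcon
  obtain ⟨w, hw, x, hx, hwx⟩ := h1
  have hwu : w ∈ uu V r₀ := ws_le_uu hm.pr.symm hw
  have h2 : ∃ b', Col V b₀ b' ∧ w * b' * w⁻¹ ≠ b' := by
    by_contra hcon
    push Not at hcon
    have h3 : ws V b₀ ≤ centralizer ({w} : Set G) := by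
      refine ws_le_of_pts hm.rq.symm.ne_one fun b hb => ?_
      rw [mem_centralizer_singleton_iff]
      exact (comm_of_conj_eq (hcon b hb)).symm
    exact hwx (mem_centralizer_singleton_iff.mp (h3 hx)).symm
  obtain ⟨b', hb', hne'⟩ := h2
  have h3 : Jn V b₀ r₀ b' := Jn.of_ne h.toTyN hm.rq hb' hwu hne'
  obtain ⟨g, e1, e2⟩ := exists_flag_conj h.fr hm.rq.symm hm.ne_rq hra hne
  have h4 := h3.conj g
  rw [e1, e2] at h4
  exact ⟨_, h4⟩

/-- `r a` is joined to the points which are joined to `a` -/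
theorem jn_mul (h : KO T V z) (hj : Jn V r a b) : Jn V r (r * a) b := by
  have hne := hj.ne_left h.toTyN
  obtain ⟨g, hr, ha, hr1, ha1⟩ := id hj.1.symm
  obtain ⟨k, hk, -, hmv⟩ := h.fr.mover_cj hr hr1
  have e1 := hmv a ha ha1 hne
  have ekr : k * r * k⁻¹ = r := conj_eq_of_comm (mem_centralizer_singleton_iff.mp hk.1)
  have h1 := hj.conj k
  rw [ekr, e1] at h1
  rcases h.fr.kq_cases' hj.2.1.left hk (h.fr.mem_ws_of_col hj.2.1) with e | e
  · rwa [e] at h1
  · rw [e] at h1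
    obtain ⟨h2, -, u, hu, eu⟩ := h1
    refine Jn.of_ne h.toTyN h2 hj.2.1 hu fun e' => h2.ne_one ?_
    have hur : u * r * u⁻¹ = r := conj_eq_of_comm (uu_comm_ws h.toTyN hu (h.fr.mem_ws_of_col h2))
    have e3 : u * (r * b) * u⁻¹ = r * b := by
      calc u * (r * b) * u⁻¹ = (u * r * u⁻¹) * (u * b * u⁻¹) := by group
        _ = r * b := by rw [hur, e']
    rw [e3] at eu
    simpa using eu

theorem cc_mul (h : KO T V z) (hra : Col V r a) (hne : a ≠ r) : Cc V r a (r * a) := by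
  obtain ⟨b, hb⟩ := h.exists_jn hra hne
  exact (Cc.single hb).trans (.single (h.j1 _ _ _ (h.jn_mul hb)))

theorem mem_cx_of_not (h : KO T V z) (hrb : Col V r b) (hra : Col V r a) (hn : ¬ Cc V r a b) : b ∈ cx V r a := by
  refine ⟨h.fr.mem_ws_of_col hrb, fun b' hb' u hu => ?_⟩
  refine cent_of_not_jn h.toTyN (hb'.col hra).symm hrb (fun e => hn (hb'.trans (.single e))) hu

/-- `r ∈ cx` -/
theorem r_mem_cx (h : KO T V z) (hra : Col V r a) : r ∈ cx V r a :=
  ⟨h.fr.mem_ws_self hra.left, fun _ hb' _ hu => uu_comm_ws h.toTyN hu (h.fr.mem_ws_of_col (hb'.col hra).symm)⟩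

/-- `a ∉ cx V r a` -/
theorem not_mem_cx (h : KO T V z) (hra : Col V r a) (hne : a ≠ r) : a ∉ cx V r a := by
  intro ha
  obtain ⟨b, hb⟩ := h.exists_jn hra hne
  obtain ⟨u, hu, hne'⟩ := (h.j1 _ _ _ hb).exists_ne
  exact hne' (conj_eq_of_comm (ha.2 b (.single hb) u hu))

theorem cx_eq (h : KO T V z) (hc : Cc V r a b) : cx V r a = cx V r b := by
  ext x
  exact ⟨fun hx => ⟨hx.1, fun b' hb' => hx.2 b' (hc.trans hb')⟩,
    fun hx => ⟨hx.1, fun b' hb' => hx.2 b' ((h.cc_symm hc).trans hb')⟩⟩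

end KO

end Cfsg.Agent.Omega.NO3S.TypeN

end

section


/-!
# NO-3S, `|V| = 4`, `n = 2`, TYPE N, `κ = 1` (helper60, bb #16001, section 2): (2.3)

* `KO.eq_of_cx`: connected points `a`, `c` of `r` with `a c ∈ cx V r a` are `c = a` or `c = r a`.
-/

set_option autoImplicit false
set_option linter.unusedSectionVars false

namespace Cfsg.Agent.Omega.NO3S.TypeN

open Subgroup Cfsg Cfsg.Agent.ZN Cfsg.Agent.MinSimple.Geo Cfsg.Agent.Omega.CaseL Cfsg.Agent.Omega.NO3S.TwoOne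
  Cfsg.Agent.Omega.NO3S.Pt Cfsg.Agent.Omega.NO3S.TwoMid
open Cfsg.Agent.ZN.Block (conj_mem_of_normalizer conj_mem_of_normalizer' le_normalizer_of_forall
  mem_normalizer_of)

universe u

variable {G : Type u} [Group G]

/-- `R₀ = C_{W_r}(U_b, b ~ r)` -/
def rz (V : Subgroup G) (r : G) : Subgroup G where
  carrier := {x | x ∈ ws V r ∧ ∀ b, Col V r b → ∀ u ∈ uu V b, u * x = x * u}
  mul_mem' := by
    rintro x y ⟨hx, hx1⟩ ⟨hy, hy1⟩
    exact ⟨mul_mem hx hy, fun b hb u hu => comm_mul_of (hx1 b hb u hu) (hy1 b hb u hu)⟩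
  one_mem' := ⟨one_mem _, fun b _ u _ => by simp⟩
  inv_mem' := by
    rintro x ⟨hx, hx1⟩
    exact ⟨inv_mem hx, fun b hb u hu => comm_inv_of (hx1 b hb u hu)⟩

theorem conj_mem_rz {V : Subgroup G} {r x : G} (g : G) (hx : x ∈ rz V r) : g * x * g⁻¹ ∈ rz V (g * r * g⁻¹) := by
  refine ⟨conj_mem_ws g hx.1, fun b hb u hu => ?_⟩
  have h1 : Col V r (g⁻¹ * b * g) := by
    have := hb.conj g⁻¹
    have e : g⁻¹ * (g * r * g⁻¹) * g⁻¹⁻¹ = r := by group
    rwa [e, inv_inv] at this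
  have h2 : g⁻¹ * u * g ∈ uu V (g⁻¹ * b * g) := by
    have := conj_mem_uu g⁻¹ hu
    rwa [inv_inv] at this
  have h3 := hx.2 _ h1 _ h2
  calc u * (g * x * g⁻¹) = g * ((g⁻¹ * u * g) * x) * g⁻¹ := by group
    _ = g * (x * (g⁻¹ * u * g)) * g⁻¹ := by rw [h3]
    _ = g * x * g⁻¹ * u := by group

/-- elements of `C(r)` normalise `R₀` -/
theorem conj_mem_rz' {V : Subgroup G} {r x g : G} (hg : g ∈ centralizer ({r} : Set G)) (hx : x ∈ rz V r) :
    g * x * g⁻¹ ∈ rz V r := by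
  have := conj_mem_rz g hx
  rwa [conj_eq_of_comm (mem_centralizer_singleton_iff.mp hg)] at this

theorem conj_mem_ws' {V : Subgroup G} {r x g : G} (hg : g ∈ centralizer ({r} : Set G)) (hx : x ∈ ws V r) :
    g * x * g⁻¹ ∈ ws V r := by
  have := conj_mem_ws g hx
  rwa [conj_eq_of_comm (mem_centralizer_singleton_iff.mp hg)] at this

/-- the elements of `C(r)` with `[g, W_r] ≤ R₀`, `[g, R₀] = 1` -/
def nz (V : Subgroup G) (r : G) : Subgroup G where
  carrier := {g | g ∈ centralizer ({r} : Set G) ∧ (∀ x ∈ rz V r, g * x = x * g) ∧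
    ∀ x ∈ ws V r, g * x * g⁻¹ * x⁻¹ ∈ rz V r}
  mul_mem' := by
    rintro g k ⟨hg, hg1, hg2⟩ ⟨hk, hk1, hk2⟩
    refine ⟨mul_mem hg hk, fun x hx => mul_comm_of (hg1 x hx) (hk1 x hx), fun x hx => ?_⟩
    have h1 := hk2 x hx
    have h2 := conj_eq_of_comm (hg1 _ h1)
    have e : g * k * x * (g * k)⁻¹ * x⁻¹ = (g * (k * x * k⁻¹ * x⁻¹) * g⁻¹) * (g * x * g⁻¹ * x⁻¹) := by group
    rw [e, h2]
    exact mul_mem h1 (hg2 x hx)
  one_mem' := ⟨one_mem _, fun x _ => by simp, fun x _ => by simp⟩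
  inv_mem' := by
    rintro g ⟨hg, hg1, hg2⟩
    refine ⟨inv_mem hg, fun x hx => inv_comm_of (hg1 x hx), fun x hx => ?_⟩
    have h1 := hg2 _ (conj_mem_ws' (inv_mem hg) hx)
    have e : g⁻¹ * x * g⁻¹⁻¹ * x⁻¹ = (g * (g⁻¹ * x * g⁻¹⁻¹) * g⁻¹ * (g⁻¹ * x * g⁻¹⁻¹)⁻¹)⁻¹ := by group
    rw [e]
    exact inv_mem h1

theorem conj_mem_nz {V : Subgroup G} {r g k : G} (hg : g ∈ centralizer ({r} : Set G)) (hk : k ∈ nz V r) :
    g * k * g⁻¹ ∈ nz V r := by
  obtain ⟨hk, hk1, hk2⟩ := hk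
  have hgi := inv_mem hg
  refine ⟨mul_mem (mul_mem hg hk) (inv_mem hg), fun x hx => ?_, fun x hx => ?_⟩
  · have h1 := hk1 _ (conj_mem_rz' hgi hx)
    rw [inv_inv] at h1
    calc g * k * g⁻¹ * x = g * (k * (g⁻¹ * x * g)) * g⁻¹ := by group
      _ = g * ((g⁻¹ * x * g) * k) * g⁻¹ := by rw [h1]
      _ = x * (g * k * g⁻¹) := by group
  · have h1 := hk2 _ (conj_mem_ws' hgi hx)
    have h2 := conj_mem_rz' hg h1
    have e : g * k * g⁻¹ * x * (g * k * g⁻¹)⁻¹ * x⁻¹ =
        g * (k * (g⁻¹ * x * g⁻¹⁻¹) * k⁻¹ * (g⁻¹ * x * g⁻¹⁻¹)⁻¹) * g⁻¹ := by group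
    rw [e]
    exact h2

/-- elements of `C(r)` centralising `W_r` are in `K_r` -/
theorem mem_kq_of_cent {V : Subgroup G} {r g : G} (hg : g ∈ centralizer ({r} : Set G))
    (h : ∀ x ∈ ws V r, g * x = x * g) : g ∈ kq V r := by
  refine ⟨hg, fun x hx => ?_, fun x hx => ?_⟩
  · rw [conj_eq_of_comm (h x hx), mul_inv_cancel]
    exact one_mem _
  · have e : g⁻¹ * x * g * x⁻¹ = 1 := by
      calc g⁻¹ * x * g * x⁻¹ = g⁻¹ * (x * g) * x⁻¹ := by group
        _ = g⁻¹ * (g * x) * x⁻¹ := by rw [h x hx]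
        _ = 1 := by group
    rw [e]
    exact one_mem _

namespace KO

variable {T V : Subgroup G} {z : G} {a b c p r : G} [Finite G]

/-- (O) for `nz` -/
theorem nz_le (h : KO T V z) (hr : Col V r r) : nz V r ≤ kq V r := by
  refine le_kq_pt h.fr hr (fun g hg => hg.1) ?_ ?_
  · exact le_normalizer_of_forall fun g hg k hk => conj_mem_nz hg hk
  · intro g hg
    refine ⟨1, ?_⟩
    rw [pow_one, pow_two]
    refine mem_kq_of_cent (mul_mem hg.1 hg.1) fun x hx => comm_of_conj_eq ?_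
    have h1 := hg.2.2 x hx
    have h2 := conj_eq_of_comm (hg.2.1 _ h1)
    have h3 := sq_ws h.toTyN hr h1.1
    calc g * g * x * (g * g)⁻¹ = (g * (g * x * g⁻¹ * x⁻¹) * g⁻¹) * (g * x * g⁻¹ * x⁻¹) * x := by group
      _ = (g * x * g⁻¹ * x⁻¹) * (g * x * g⁻¹ * x⁻¹) * x := by rw [h2]
      _ = x := by rw [h3, one_mul]

/-- transfer of joinedness -/
theorem jn_of_mul (h : KO T V z) (hra : Col V r a) (hc : Cc V r a c) (he : a * c ∈ cx V r a)
    (hj : Jn V r a b) : Jn V r c b := by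
  have hb := h.j1 _ _ _ hj
  have hrc := hc.col hra
  have haa := h.fr.pt_sq hra.right
  obtain ⟨u, hu, hne⟩ := hb.exists_ne
  refine h.j1 _ _ _ (Jn.of_ne h.toTyN hj.2.1.symm hrc hu fun e => hne ?_)
  have h1 := conj_eq_of_comm (he.2 b (.single hj) u hu)
  have e2 : a = (a * c) * c⁻¹ := by group
  calc u * a * u⁻¹ = (u * (a * c) * u⁻¹) * (u * c * u⁻¹)⁻¹ := by group
    _ = (a * c) * c⁻¹ := by rw [h1, e]
    _ = a := by group

/-- (2.3) -/
theorem eq_of_cx (h : KO T V z) (hra : Col V r a) (hne : a ≠ r) (hc : Cc V r a c) (he : a * c ∈ cx V r a) :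
    c = a ∨ c = r * a := by
  have hrc := hc.col hra
  have haa := h.fr.pt_sq hra.right
  have hcc := h.fr.pt_sq hrc.right
  have haW := h.fr.mem_ws_of_col hra
  have hcW := h.fr.mem_ws_of_col hrc
  have hac : a * c = c * a := h.fr.ws_comm hra.left a haW c hcW
  have he' : c * a ∈ cx V r c := by rw [← hac, ← h.cx_eq hc]; exact he
  have hca := h.cc_symm hc
  -- `a c ∈ R₀`
  have heR : a * c ∈ rz V r := by
    refine ⟨mul_mem haW hcW, fun b hb u hu => ?_⟩
    by_cases hab : Cc V r a b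
    · exact he.2 b hab u hu
    · refine comm_mul_of ?_ ?_
      · exact cent_of_not_jn h.toTyN hb.symm hra (fun e => hab (h.cc_symm (.single e))) hu
      · exact cent_of_not_jn h.toTyN hb.symm hrc (fun e => hab (hc.trans (h.cc_symm (.single e)))) hu
  obtain ⟨b, hjb⟩ := h.exists_jn hra hne
  have hjc := h.jn_of_mul hra hc he hjb
  obtain ⟨g, hg, hgb⟩ := hjb.exists_ne
  obtain ⟨k, hk, hkb⟩ := hjc.exists_ne
  have hbW := h.fr.mem_ws_of_col hjb.2.1
  -- `U_a` fixes `c`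
  have hnac : ¬ Jn V r a c := by
    intro hj
    obtain ⟨u, hu, hne'⟩ := (h.j1 _ _ _ hj).exists_ne
    apply hne'
    have h1 := conj_eq_of_comm (he.2 c hc u hu)
    have h2 := conj_eq_of_comm (uu_comm_ws h.toTyN hu (h.fr.mem_ws_self hrc.right))
    calc u * a * u⁻¹ = (u * (a * c) * u⁻¹) * (u * c * u⁻¹)⁻¹ := by group
      _ = a := by rw [h1, h2]; group
  have hgc : g * c * g⁻¹ = c := conj_eq_of_comm (cent_of_not_jn h.toTyN hra.symm hrc hnac hg)
  have hgC : g ∈ centralizer ({r} : Set G) := by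
    rw [mem_centralizer_singleton_iff]
    exact uu_comm_ws h.toTyN hg (h.fr.mem_ws_of_col hra.symm)
  have hkC : k ∈ centralizer ({r} : Set G) := by
    rw [mem_centralizer_singleton_iff]
    exact uu_comm_ws h.toTyN hk (h.fr.mem_ws_of_col hrc.symm)
  have hgkC := mul_mem hgC hkC
  -- the action on the points
  have key : ∀ b₁, Col V r b₁ → g * k * b₁ * (g * k)⁻¹ = b₁ ∨ g * k * b₁ * (g * k)⁻¹ = a * c * b₁ := by
    intro b₁ hb₁
    have hb₁W := h.fr.mem_ws_of_col hb₁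
    by_cases hj : Jn V r a b₁
    · right
      have hj' := h.jn_of_mul hra hc he hj
      obtain ⟨g', hg', hne'⟩ := hj.exists_ne
      obtain ⟨k', hk', hne''⟩ := hj'.exists_ne
      have h1 := (act h.toTyN hra.symm hg hb₁W).resolve_left (h.one hra.symm hg' hg hb₁W hbW hne' hgb)
      have h2 := (act h.toTyN hrc.symm hk hb₁W).resolve_left (h.one hrc.symm hk' hk hb₁W hbW hne'' hkb)
      calc g * k * b₁ * (g * k)⁻¹ = g * (k * b₁ * k⁻¹) * g⁻¹ := by group
        _ = (g * c * g⁻¹) * (g * b₁ * g⁻¹) := by rw [h2]; group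
        _ = c * (a * b₁) := by rw [hgc, h1]
        _ = a * c * b₁ := by rw [← mul_assoc, hac]
    · left
      have hj' : ¬ Jn V r c b₁ := fun e => hj (h.jn_of_mul hrc hca he' e)
      have h1 := conj_eq_of_comm (cent_of_not_jn h.toTyN hra.symm hb₁ hj hg)
      have h2 := conj_eq_of_comm (cent_of_not_jn h.toTyN hrc.symm hb₁ hj' hk)
      calc g * k * b₁ * (g * k)⁻¹ = g * (k * b₁ * k⁻¹) * g⁻¹ := by group
        _ = b₁ := by rw [h2, h1]
  -- `g k ∈ nz`
  have hmem : g * k ∈ nz V r := by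
    refine ⟨hgkC, fun x hx => mul_comm_of (hx.2 a hra g hg) (hx.2 c hrc k hk), ?_⟩
    let A : Subgroup G :=
      { carrier := {x | x ∈ ws V r ∧ g * k * x * (g * k)⁻¹ * x⁻¹ ∈ rz V r}
        mul_mem' := by
          rintro x y ⟨hx, hx1⟩ ⟨hy, hy1⟩
          refine ⟨mul_mem hx hy, ?_⟩
          have e : g * k * (x * y) * (g * k)⁻¹ * (x * y)⁻¹ =
              (g * k * x * (g * k)⁻¹ * x⁻¹) * (x * (g * k * y * (g * k)⁻¹ * y⁻¹) * x⁻¹) := by group
          have e2 : x * (g * k * y * (g * k)⁻¹ * y⁻¹) * x⁻¹ = g * k * y * (g * k)⁻¹ * y⁻¹ :=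
            conj_eq_of_comm (h.fr.ws_comm hra.left x hx _ hy1.1)
          rw [e, e2]
          exact mul_mem hx1 hy1
        one_mem' := ⟨one_mem _, by simp⟩
        inv_mem' := by
          rintro x ⟨hx, hx1⟩
          refine ⟨inv_mem hx, ?_⟩
          have e : g * k * x⁻¹ * (g * k)⁻¹ * x⁻¹⁻¹ = x⁻¹ * (g * k * x * (g * k)⁻¹ * x⁻¹)⁻¹ * x⁻¹⁻¹ := by group
          have e2 : x⁻¹ * (g * k * x * (g * k)⁻¹ * x⁻¹)⁻¹ * x⁻¹⁻¹ = (g * k * x * (g * k)⁻¹ * x⁻¹)⁻¹ :=
            conj_eq_of_comm (h.fr.ws_comm hra.left x⁻¹ (inv_mem hx) _ (inv_mem hx1.1))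
          rw [e, e2]
          exact inv_mem hx1 }
    have hA : ws V r ≤ A := by
      refine ws_le_of_pts hra.ne_one fun b₁ hb₁ => ⟨h.fr.mem_ws_of_col hb₁, ?_⟩
      rcases key b₁ hb₁ with e | e
      · rw [e, mul_inv_cancel]; exact one_mem _
      · rw [e, mul_inv_cancel_right]; exact heR
    exact fun x hx => (hA hx).2
  have hkq := h.nz_le hra.left hmem
  have h1 : g * b * g⁻¹ = a * b := (act h.toTyN hra.symm hg hbW).resolve_left hgb
  have h2 : k * b * k⁻¹ = c * b := (act h.toTyN hrc.symm hk hbW).resolve_left hkb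
  have h3 : g * k * b * (g * k)⁻¹ * b⁻¹ = a * c := by
    calc g * k * b * (g * k)⁻¹ * b⁻¹ = g * (k * b * k⁻¹) * g⁻¹ * b⁻¹ := by group
      _ = (g * c * g⁻¹) * (g * b * g⁻¹) * b⁻¹ := by rw [h2]; group
      _ = c * a := by rw [hgc, h1]; group
      _ = a * c := hac.symm
  have h4 := hkq.2.1 b hbW
  rw [h3] at h4
  rcases (mem_zpowers_iff_of_mul_self (h.fr.pt_sq hra.left)).mp h4 with e | e
  · left
    calc c = a * (a * c) := by rw [← mul_assoc, haa, one_mul]
      _ = a := by rw [e, mul_one]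
  · right
    calc c = a * (a * c) := by rw [← mul_assoc, haa, one_mul]
      _ = a * r := by rw [e]
      _ = r * a := h.fr.ws_comm hra.left a haW r (h.fr.mem_ws_self hra.left)

end KO

end Cfsg.Agent.Omega.NO3S.TypeN

end
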