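import Cfsg.Agent.Mrg.Omega.NO3S.TypeN.Base


/-!
# NO-3S, `|V| = 4`, `n = 2`, TYPE N: joined is symmetric and (for `κ ≥ 2`) transitive

helper60 #16001, (1.2), (3.1)-(3.4).

* `exists_conj_flag` : two flags (pairs of different collinear points) are conjugate;
* `jn_symm` (J1), `jn_trans` (J2).
-/

set_option autoImplicit false
set_option linter.unusedSectionVars false

namespace Cfsg.Agent.Omega.NO3S.TypeN

open Subgroup Cfsg Cfsg.Agent.ZN Cfsg.Agent.MinSimple.Geo Cfsg.Agent.Omega.CaseL Cfsg.Agent.Omega.NO3S.TwoOne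
  Cfsg.Agent.Omega.NO3S.Pt Cfsg.Agent.Omega.NO3S.TwoMid
open Cfsg.Agent.ZN.Block (conj_mem_of_normalizer conj_mem_of_normalizer' le_normalizer_of_forall
  mem_normalizer_of)

universe u

variable {G : Type u} [Group G] {T V : Subgroup G} {z : G}

/-! ### conjugation -/

theorem cmul (g x y : G) : g * (x * y) * g⁻¹ = (g * x * g⁻¹) * (g * y * g⁻¹) := by group

theorem ccomp (g k x : G) : (g * k) * x * (g * k)⁻¹ = g * (k * x * k⁻¹) * g⁻¹ := by group

theorem cne {g x y : G} (h : x ≠ y) : g * x * g⁻¹ ≠ g * y * g⁻¹ := fun e => h (by simpa using e)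

/-- two flags are conjugate -/
theorem exists_conj_flag (h : Fr T V z) {r a r' a' : G} (h1 : Col V r a) (hn : a ≠ r) (h2 : Col V r' a')
    (hn' : a' ≠ r') : ∃ g : G, g * r * g⁻¹ = r' ∧ g * a * g⁻¹ = a' := by
  have key : ∀ {r a : G}, Col V r a → a ≠ r → ∃ k : G, k * z * k⁻¹ = r ∧ k⁻¹ * a * k ∈ V ∧
      k⁻¹ * a * k ≠ 1 ∧ k⁻¹ * a * k ≠ z := by
    rintro r a ⟨g, hr, ha, hr1, ha1⟩ hne
    obtain ⟨k, hk, hkz, -⟩ := h.flag hr hr1
    refine ⟨k, hkz, ?_, ?_, ?_⟩
    · rw [← hk] at ha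
      exact mem_cj.mp ha
    · intro e
      apply ha1
      calc a = k * (k⁻¹ * a * k) * k⁻¹ := by group
        _ = 1 := by rw [e]; group
    · intro e
      apply hne
      calc a = k * (k⁻¹ * a * k) * k⁻¹ := by group
        _ = r := by rw [e, hkz]
  obtain ⟨k, hk, m1, m2, m3⟩ := key h1 hn
  obtain ⟨k', hk', m1', m2', m3'⟩ := key h2 hn'
  have hmv : ∃ m : G, m * z * m⁻¹ = z ∧ m * (k⁻¹ * a * k) * m⁻¹ = k'⁻¹ * a' * k' := by
    rcases h.ln.four h.ln.z_mem m1 h.ln.z_ne m2 (Ne.symm m3) m1' with e | e | e | e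
    · exact absurd e m2'
    · exact absurd e m3'
    · exact ⟨1, by group, by rw [e]; group⟩
    · obtain ⟨m, hm, hm1⟩ := h.exists_mover h.ln.z_mem h.ln.z_ne
      refine ⟨m, ?_, ?_⟩
      · rw [h.kq_p hm, mul_inv_cancel_right]
      · rw [e]
        exact h.move h.ln.z_mem h.ln.z_ne m1 m2 m3 hm hm1
  obtain ⟨m, hmz, hma⟩ := hmv
  refine ⟨k' * m * k⁻¹, ?_, ?_⟩
  · calc k' * m * k⁻¹ * r * (k' * m * k⁻¹)⁻¹ = k' * (m * (k⁻¹ * r * k) * m⁻¹) * k'⁻¹ := by group
      _ = k' * (m * (k⁻¹ * (k * z * k⁻¹) * k) * m⁻¹) * k'⁻¹ := by rw [hk]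
      _ = k' * (m * z * m⁻¹) * k'⁻¹ := by group
      _ = r' := by rw [hmz, hk']
  · calc k' * m * k⁻¹ * a * (k' * m * k⁻¹)⁻¹ = k' * (m * (k⁻¹ * a * k) * m⁻¹) * k'⁻¹ := by group
      _ = k' * (k'⁻¹ * a' * k') * k'⁻¹ := by rw [hma]
      _ = a' := by group

/-! ### functionals -/

open Classical in
/-- the functional of `u` on `W_r` -/
noncomputable def fn (V : Subgroup G) (r u : G) : G → ZMod 2 := fun x => if x ∈ ws V r ∧ u * x * u⁻¹ ≠ x then 1 else 0

/-- the functionals of `U_a` on `W_r` -/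
def ps (V : Subgroup G) (r a : G) : Set (G → ZMod 2) := {φ | ∃ u ∈ uu V a, φ = fn V r u}

variable {r a b u x : G}

theorem fn_out (hx : x ∉ ws V r) : fn V r u x = 0 := by
  unfold fn; rw [if_neg fun e => hx e.1]

theorem fn_fix (hx : u * x * u⁻¹ = x) : fn V r u x = 0 := by
  unfold fn; rw [if_neg fun e => e.2 hx]

theorem fn_mv (hx : x ∈ ws V r) (hn : u * x * u⁻¹ ≠ x) : fn V r u x = 1 := by
  unfold fn; rw [if_pos ⟨hx, hn⟩]

theorem fn_mv' {c : G} (hx : x ∈ ws V r) (hc : c ≠ 1) (e : u * x * u⁻¹ = c * x) : fn V r u x = 1 :=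
  fn_mv hx (by rw [e]; simpa using hc)

theorem fn_eq_one (h : fn V r u x = 1) : x ∈ ws V r ∧ u * x * u⁻¹ ≠ x := by
  unfold fn at h
  by_contra hn
  rw [if_neg hn] at h
  exact absurd h (by decide)

theorem fn_eq_zero (h : fn V r u x = 0) (hx : x ∈ ws V r) : u * x * u⁻¹ = x := by
  by_contra hn
  rw [fn_mv hx hn] at h
  exact absurd h (by decide)

theorem fn_conj (V : Subgroup G) (r u g x : G) :
    fn V (g * r * g⁻¹) (g * u * g⁻¹) x = fn V r u (g⁻¹ * x * g) := by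
  have e : x = g * (g⁻¹ * x * g) * g⁻¹ := by group
  by_cases hx : x ∈ ws V (g * r * g⁻¹)
  · have hx' : g⁻¹ * x * g ∈ ws V r := by
      rw [← cj_ws, mem_cj] at hx
      exact hx
    by_cases hf : u * (g⁻¹ * x * g) * u⁻¹ = g⁻¹ * x * g
    · rw [fn_fix hf, fn_fix]
      calc g * u * g⁻¹ * x * (g * u * g⁻¹)⁻¹ = g * (u * (g⁻¹ * x * g) * u⁻¹) * g⁻¹ := by group
        _ = x := by rw [hf]; group
    · rw [fn_mv hx' hf, fn_mv hx]
      intro e1
      apply hf
      calc u * (g⁻¹ * x * g) * u⁻¹ = g⁻¹ * (g * u * g⁻¹ * x * (g * u * g⁻¹)⁻¹) * g := by group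
        _ = g⁻¹ * x * g := by rw [e1]
  · rw [fn_out hx, fn_out]
    intro hx'
    apply hx
    rw [← cj_ws, mem_cj]
    exact hx'

/-- the map induced by conjugation on functionals -/
def tw (g : G) (φ : G → ZMod 2) : G → ZMod 2 := fun x => φ (g⁻¹ * x * g)

theorem tw_inj (g : G) : Function.Injective (tw g) := by
  intro φ ψ h
  funext x
  have := congrFun h (g * x * g⁻¹)
  have e : g⁻¹ * (g * x * g⁻¹) * g = x := by group
  unfold tw at this
  rwa [e] at this

theorem ps_conj (V : Subgroup G) (r a g : G) : ps V (g * r * g⁻¹) (g * a * g⁻¹) = tw g '' ps V r a := by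
  ext φ
  constructor
  · rintro ⟨u, hu, rfl⟩
    rw [← cj_uu, mem_cj] at hu
    refine ⟨fn V r (g⁻¹ * u * g), ⟨_, hu, rfl⟩, ?_⟩
    funext x
    show fn V r (g⁻¹ * u * g) (g⁻¹ * x * g) = _
    rw [← fn_conj]
    congr 1
    group
  · rintro ⟨_, ⟨u, hu, rfl⟩, rfl⟩
    refine ⟨g * u * g⁻¹, ?_, ?_⟩
    · rw [← cj_uu]; exact conj_mem_cj hu
    · funext x
      exact (fn_conj V r u g x).symm

theorem ncard_ps_conj (V : Subgroup G) (r a g : G) :
    (ps V (g * r * g⁻¹) (g * a * g⁻¹)).ncard = (ps V r a).ncard := by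
  rw [ps_conj, Set.ncard_image_of_injective _ (tw_inj g)]

theorem ps_finite [Finite G] (V : Subgroup G) (r a : G) : (ps V r a).Finite := by
  refine Set.Finite.subset (Set.finite_range fun u : G => fn V r u) ?_
  rintro φ ⟨u, -, rfl⟩
  exact ⟨u, rfl⟩

/-- `⟨U_x : x ~ r⟩` -/
def th (V : Subgroup G) (r : G) : Subgroup G := sSup {U | ∃ x, Col V x r ∧ U = uu V x}

theorem uu_le_th (h : Col V x r) : uu V x ≤ th V r := le_sSup ⟨x, h, rfl⟩

theorem th_le {U : Subgroup G} (h : ∀ x, Col V x r → uu V x ≤ U) : th V r ≤ U := by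
  refine sSup_le ?_
  rintro _ ⟨x, hx, rfl⟩
  exact h x hx

section

variable [Finite G]

theorem fn_mul (h : TyN T V z) (har : Col V a r) {u u' : G} (hu : u ∈ uu V a) (hu' : u' ∈ uu V a) :
    fn V r (u * u') = fn V r u + fn V r u' := by
  funext x
  show _ = fn V r u x + fn V r u' x
  by_cases hx : x ∈ ws V r
  swap
  · rw [fn_out hx, fn_out hx, fn_out hx, add_zero]
  have haa : a * a = 1 := sq_pt h har
  have ha1 : a ≠ 1 := har.ne_one
  have hua : u * a * u⁻¹ = a := by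
    rw [uu_comm_ws h hu (h.fr.mem_ws_self har.left), mul_inv_cancel_right]
  rcases act h har hu hx with e1 | e1 <;> rcases act h har hu' hx with e2 | e2
  · have e3 : u * u' * x * (u * u')⁻¹ = x := by rw [ccomp, e2, e1]
    rw [fn_fix e1, fn_fix e2, fn_fix e3, add_zero]
  · have e3 : u * u' * x * (u * u')⁻¹ = a * x := by rw [ccomp, e2, cmul, e1, hua]
    rw [fn_fix e1, fn_mv' hx ha1 e2, fn_mv' hx ha1 e3, zero_add]
  · have e3 : u * u' * x * (u * u')⁻¹ = a * x := by rw [ccomp, e2, e1]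
    rw [fn_mv' hx ha1 e1, fn_fix e2, fn_mv' hx ha1 e3, add_zero]
  · have e3 : u * u' * x * (u * u')⁻¹ = x := by rw [ccomp, e2, cmul, e1, hua, ← mul_assoc, haa, one_mul]
    rw [fn_mv' hx ha1 e1, fn_mv' hx ha1 e2, fn_fix e3]
    decide

theorem fn_add (h : TyN T V z) (har : Col V a r) {u x y : G} (hu : u ∈ uu V a) (hx : x ∈ ws V r)
    (hy : y ∈ ws V r) : fn V r u (x * y) = fn V r u x + fn V r u y := by
  have haa : a * a = 1 := sq_pt h har
  have ha1 : a ≠ 1 := har.ne_one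
  have haW : a ∈ ws V r := h.fr.mem_ws_of_col har.symm
  have hxy := mul_mem hx hy
  have hxa : x * a = a * x := comm_ws h har.right hx haW
  rcases act h har hu hx with e1 | e1 <;> rcases act h har hu hy with e2 | e2
  · have e3 : u * (x * y) * u⁻¹ = x * y := by rw [cmul, e2, e1]
    rw [fn_fix e1, fn_fix e2, fn_fix e3, add_zero]
  · have e3 : u * (x * y) * u⁻¹ = a * (x * y) := by
      rw [cmul, e2, e1, ← mul_assoc, hxa, mul_assoc]
    rw [fn_fix e1, fn_mv' hy ha1 e2, fn_mv' hxy ha1 e3, zero_add]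
  · have e3 : u * (x * y) * u⁻¹ = a * (x * y) := by rw [cmul, e2, e1, mul_assoc]
    rw [fn_mv' hx ha1 e1, fn_fix e2, fn_mv' hxy ha1 e3, add_zero]
  · have e3 : u * (x * y) * u⁻¹ = x * y := by
      rw [cmul, e2, e1]
      calc a * x * (a * y) = a * (x * a) * y := by group
        _ = a * (a * x) * y := by rw [hxa]
        _ = (a * a) * (x * y) := by group
        _ = x * y := by rw [haa, one_mul]
    rw [fn_mv' hx ha1 e1, fn_mv' hy ha1 e2, fn_fix e3]
    decide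

/-- `(1.2)`: the functional of `u' u u'⁻¹`, `u ∈ U_a`, `u' ∈ U_b` fixing `a` -/
theorem fn_one (h : TyN T V z) (har : Col V a r) (hbr : Col V b r) {u u' : G} (hu : u ∈ uu V a)
    (hu' : u' ∈ uu V b) (h1 : u * b * u⁻¹ = a * b) (h2 : u' * a * u'⁻¹ = a) :
    fn V r (u' * u * u'⁻¹) = fn V r u + fn V r u' := by
  funext x
  show _ = fn V r u x + fn V r u' x
  by_cases hx : x ∈ ws V r
  swap
  · rw [fn_out hx, fn_out hx, fn_out hx, add_zero]
  have haa : a * a = 1 := sq_pt h har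
  have hbb : b * b = 1 := sq_pt h hbr
  have ha1 : a ≠ 1 := har.ne_one
  have hb1 : b ≠ 1 := hbr.ne_one
  have haW : a ∈ ws V r := h.fr.mem_ws_of_col har.symm
  have hbW : b ∈ ws V r := h.fr.mem_ws_of_col hbr.symm
  have hab : a * b = b * a := comm_ws h har.right haW hbW
  have hua : u * a * u⁻¹ = a := by
    rw [uu_comm_ws h hu (h.fr.mem_ws_self har.left), mul_inv_cancel_right]
  have hub : u' * b * u'⁻¹ = b := by
    rw [uu_comm_ws h hu' (h.fr.mem_ws_self hbr.left), mul_inv_cancel_right]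
  have hc : ∀ x : G, u' * u * u'⁻¹ * x * (u' * u * u'⁻¹)⁻¹ = u' * (u * (u'⁻¹ * x * u') * u⁻¹) * u'⁻¹ := by
    intro x; group
  rcases act h hbr hu' hx with e2 | e2
  · have e3 : u'⁻¹ * x * u' = x := by
      calc u'⁻¹ * x * u' = u'⁻¹ * (u' * x * u'⁻¹) * u' := by rw [e2]
        _ = x := by group
    rcases act h har hu hx with e1 | e1
    · have e4 : u' * u * u'⁻¹ * x * (u' * u * u'⁻¹)⁻¹ = x := by rw [hc, e3, e1, e2]
      rw [fn_fix e1, fn_fix e2, fn_fix e4, add_zero]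
    · have e4 : u' * u * u'⁻¹ * x * (u' * u * u'⁻¹)⁻¹ = a * x := by rw [hc, e3, e1, cmul, h2, e2]
      rw [fn_mv' hx ha1 e1, fn_fix e2, fn_mv' hx ha1 e4, add_zero]
  · have e5 : u' * (b * x) * u'⁻¹ = x := by rw [cmul u' b x, hub, e2, ← mul_assoc, hbb, one_mul]
    have e3 : u'⁻¹ * x * u' = b * x := by
      calc u'⁻¹ * x * u' = u'⁻¹ * (u' * (b * x) * u'⁻¹) * u' := by rw [e5]
        _ = b * x := by group
    rcases act h har hu hx with e1 | e1
    · have e4 : u' * u * u'⁻¹ * x * (u' * u * u'⁻¹)⁻¹ = a * x := by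
        rw [hc, e3, cmul u b x, h1, e1, mul_assoc a b x, cmul u' a (b * x), h2, e5]
      rw [fn_fix e1, fn_mv' hx hb1 e2, fn_mv' hx ha1 e4, zero_add]
    · have e4 : u' * u * u'⁻¹ * x * (u' * u * u'⁻¹)⁻¹ = x := by
        have : a * b * (a * x) = b * x := by
          calc a * b * (a * x) = b * a * (a * x) := by rw [hab]
            _ = b * (a * a) * x := by group
            _ = b * x := by rw [haa, mul_one]
        rw [hc, e3, cmul u b x, h1, e1, this, e5]
      rw [fn_mv' hx ha1 e1, fn_mv' hx hb1 e2, fn_fix e4]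
      decide

/-- (3.1): the functional of `u' u u'⁻¹`, `u ∈ U_a` fixing `b`, `u' ∈ U_b` moving `a` -/
theorem fn_two (h : TyN T V z) (har : Col V a r) (hbr : Col V b r) {u u' : G} (hu : u ∈ uu V a)
    (hu' : u' ∈ uu V b) (h1 : u * b * u⁻¹ = b) (h2 : u' * a * u'⁻¹ = b * a) :
    fn V r (u' * u * u'⁻¹) = fn V r u := by
  funext x
  by_cases hx : x ∈ ws V r
  swap
  · rw [fn_out hx, fn_out hx]
  have haa : a * a = 1 := sq_pt h har
  have hbb : b * b = 1 := sq_pt h hbr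
  have ha1 : a ≠ 1 := har.ne_one
  have hb1 : b ≠ 1 := hbr.ne_one
  have haW : a ∈ ws V r := h.fr.mem_ws_of_col har.symm
  have hbW : b ∈ ws V r := h.fr.mem_ws_of_col hbr.symm
  have hab : a * b = b * a := comm_ws h har.right haW hbW
  have hba1 : b * a ≠ 1 := by
    rw [← h2]
    intro e
    apply ha1
    calc a = u'⁻¹ * (u' * a * u'⁻¹) * u' := by group
      _ = 1 := by rw [e]; group
  have hub : u' * b * u'⁻¹ = b := by
    rw [uu_comm_ws h hu' (h.fr.mem_ws_self hbr.left), mul_inv_cancel_right]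
  have hc : ∀ x : G, u' * u * u'⁻¹ * x * (u' * u * u'⁻¹)⁻¹ = u' * (u * (u'⁻¹ * x * u') * u⁻¹) * u'⁻¹ := by
    intro x; group
  rcases act h hbr hu' hx with e2 | e2
  · have e3 : u'⁻¹ * x * u' = x := by
      calc u'⁻¹ * x * u' = u'⁻¹ * (u' * x * u'⁻¹) * u' := by rw [e2]
        _ = x := by group
    rcases act h har hu hx with e1 | e1
    · have e4 : u' * u * u'⁻¹ * x * (u' * u * u'⁻¹)⁻¹ = x := by rw [hc, e3, e1, e2]
      rw [fn_fix e1, fn_fix e4]
    · have e4 : u' * u * u'⁻¹ * x * (u' * u * u'⁻¹)⁻¹ = b * a * x := by rw [hc, e3, e1, cmul, h2, e2]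
      rw [fn_mv' hx ha1 e1, fn_mv' hx hba1 e4]
  · have e5 : u' * (b * x) * u'⁻¹ = x := by rw [cmul u' b x, hub, e2, ← mul_assoc, hbb, one_mul]
    have e3 : u'⁻¹ * x * u' = b * x := by
      calc u'⁻¹ * x * u' = u'⁻¹ * (u' * (b * x) * u'⁻¹) * u' := by rw [e5]
        _ = b * x := by group
    rcases act h har hu hx with e1 | e1
    · have e4 : u' * u * u'⁻¹ * x * (u' * u * u'⁻¹)⁻¹ = x := by
        rw [hc, e3, cmul u b x, h1, e1, e5]
      rw [fn_fix e1, fn_fix e4]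
    · have e4 : u' * u * u'⁻¹ * x * (u' * u * u'⁻¹)⁻¹ = b * a * x := by
        have : b * (a * x) = a * (b * x) := by
          calc b * (a * x) = (b * a) * x := by group
            _ = (a * b) * x := by rw [hab]
            _ = a * (b * x) := by group
        rw [hc, e3, cmul u b x, h1, e1, this, cmul u' a (b * x), h2, e5]
      rw [fn_mv' hx ha1 e1, fn_mv' hx hba1 e4]

/-! ### the group generated by all `U_x`, `x ~ r` -/

omit [Finite G] in
theorem cj_th (V : Subgroup G) (g r : G) : cj g (th V r) = th V (g * r * g⁻¹) := by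
  have key : ∀ g r : G, cj g (th V r) ≤ th V (g * r * g⁻¹) := by
    intro g r
    rw [cj_le_iff]
    refine th_le fun y hy => ?_
    rw [← cj_le_iff, cj_uu]
    exact uu_le_th (hy.conj g)
  refine le_antisymm (key g r) ?_
  have h := key g⁻¹ (g * r * g⁻¹)
  have e : g⁻¹ * (g * r * g⁻¹) * g⁻¹⁻¹ = r := by group
  rw [e, cj_le_iff, inv_inv] at h
  exact h

omit [Finite G] in
theorem centralizer_le_normalizer_th (V : Subgroup G) (r : G) :
    centralizer ({r} : Set G) ≤ normalizer ((th V r : Subgroup G) : Set G) := by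
  intro g hg
  rw [mem_normalizer_iff_cj, cj_th]
  have : g * r * g⁻¹ = r := by rw [mem_centralizer_singleton_iff.mp hg]; group
  rw [this]

omit [Finite G] in
theorem th_le_centralizer (h : TyN T V z) (r : G) : th V r ≤ centralizer ({r} : Set G) := by
  refine th_le fun x hx => ?_
  intro u hu
  rw [mem_centralizer_singleton_iff]
  exact uu_comm_ws h hu (h.fr.mem_ws_of_col hx)

/-- **(O) for functionals** -/
theorem exists_sep (h : TyN T V z) {a c r : G} (har : Col V a r) (hcr : Col V c r) (hac : a ≠ c)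
    (hacr : c ≠ a * r) (hps : ps V r a = ps V r c) (hne : ∃ φ ∈ ps V r a, φ ≠ 0) :
    ∃ x, (Col V x r ∧ x ≠ r) ∧ ∃ ψ ∈ ps V r x, ψ a ≠ ψ c := by
  by_contra hcon
  push Not at hcon
  have haW : a ∈ ws V r := h.fr.mem_ws_of_col har.symm
  have hcW : c ∈ ws V r := h.fr.mem_ws_of_col hcr.symm
  have hr : Col V r r := har.right
  have haa : a * a = 1 := sq_pt h har
  have hcc : c * c = 1 := sq_pt h hcr
  have heW : a * c ∈ ws V r := mul_mem haW hcW
  have hWc : ∀ w ∈ ws V r, w ∈ centralizer ({r} : Set G) := fun w hw => h.fr.ws_le_cent hr hw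
  -- all `t ∈ T^` centralise `e = a c`
  have hte : th V r ≤ centralizer ({a * c} : Set G) := by
    refine th_le fun x hx u hu => ?_
    rw [mem_centralizer_singleton_iff]
    by_cases hxr : x = r
    · subst hxr
      exact uu_comm_ws h hu heW
    refine comm_of_conj_eq (fn_eq_zero (r := r) (V := V) ?_ heW)
    rw [fn_add h hx hu haW hcW, hcon x ⟨hx, hxr⟩ _ ⟨u, hu, rfl⟩, zmod_two_add]
  -- `R`
  have hrz : ∀ {t y : G}, t ∈ centralizer ({r} : Set G) → y ∈ zpowers r → t * y * t⁻¹ ∈ zpowers r := by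
    intro t y ht hy
    rw [TyN.zc ht hy]; exact hy
  let R : Subgroup G :=
    { carrier := {y | y ∈ ws V r ∧ ∀ t ∈ th V r, t * y * t⁻¹ * y⁻¹ ∈ zpowers r}
      mul_mem' := by
        intro y y' hy hy'
        refine ⟨mul_mem hy.1 hy'.1, fun t ht => ?_⟩
        have e : t * (y * y') * t⁻¹ * (y * y')⁻¹ =
            (t * y * t⁻¹ * y⁻¹) * (y * (t * y' * t⁻¹ * y'⁻¹) * y⁻¹) := by group
        rw [e]
        exact mul_mem (hy.2 t ht) (hrz (hWc y hy.1) (hy'.2 t ht))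
      one_mem' := ⟨one_mem _, fun t _ => by simp⟩
      inv_mem' := by
        intro y hy
        refine ⟨inv_mem hy.1, fun t ht => ?_⟩
        have e : t * y⁻¹ * t⁻¹ * y⁻¹⁻¹ = y⁻¹ * (t * y * t⁻¹ * y⁻¹)⁻¹ * y⁻¹⁻¹ := by group
        rw [e]
        exact hrz (inv_mem (hWc y hy.1)) (inv_mem (hy.2 t ht)) }
  have hRc : ∀ {g y : G}, g ∈ centralizer ({r} : Set G) → y ∈ R → g * y * g⁻¹ ∈ R := by
    intro g y hg hy
    refine ⟨conj_mem_of_normalizer (centralizer_le_normalizer_ws V r) hg hy.1, fun t ht => ?_⟩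
    have h1 := hy.2 (g⁻¹ * t * g) (conj_mem_of_normalizer' (centralizer_le_normalizer_th V r) hg ht)
    have e : t * (g * y * g⁻¹) * t⁻¹ * (g * y * g⁻¹)⁻¹ =
        g * (g⁻¹ * t * g * y * (g⁻¹ * t * g)⁻¹ * y⁻¹) * g⁻¹ := by group
    rw [e]
    exact hrz hg h1
  let N : Subgroup G :=
    { carrier := {t | t ∈ th V r ∧ ∀ w ∈ ws V r, t * w * t⁻¹ * w⁻¹ ∈ R}
      mul_mem' := by
        intro s t hs ht
        refine ⟨mul_mem hs.1 ht.1, fun w hw => ?_⟩
        have e : s * t * w * (s * t)⁻¹ * w⁻¹ = (s * (t * w * t⁻¹ * w⁻¹) * s⁻¹) * (s * w * s⁻¹ * w⁻¹) := by group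
        rw [e]
        exact mul_mem (hRc (th_le_centralizer h r hs.1) (ht.2 w hw)) (hs.2 w hw)
      one_mem' := ⟨one_mem _, fun w _ => by simp⟩
      inv_mem' := by
        intro t ht
        refine ⟨inv_mem ht.1, fun w hw => ?_⟩
        have e : t⁻¹ * w * t⁻¹⁻¹ * w⁻¹ = t⁻¹ * (t * w * t⁻¹ * w⁻¹)⁻¹ * t⁻¹⁻¹ := by group
        rw [e]
        exact hRc (inv_mem (th_le_centralizer h r ht.1)) (inv_mem (ht.2 w hw)) }
  have hNc : N ≤ centralizer ({r} : Set G) := fun t ht => th_le_centralizer h r ht.1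
  have hNn : centralizer ({r} : Set G) ≤ normalizer (N : Set G) := by
    refine le_normalizer_of_forall fun g hg t ht => ?_
    refine ⟨conj_mem_of_normalizer (centralizer_le_normalizer_th V r) hg ht.1, fun w hw => ?_⟩
    have h1 := ht.2 (g⁻¹ * w * g) (conj_mem_of_normalizer' (centralizer_le_normalizer_ws V r) hg hw)
    have e : g * t * g⁻¹ * w * (g * t * g⁻¹)⁻¹ * w⁻¹ = g * (t * (g⁻¹ * w * g) * t⁻¹ * (g⁻¹ * w * g)⁻¹) * g⁻¹ := by
      group
    rw [e]
    exact hRc hg h1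
  have hsq : ∀ t ∈ N, ∀ w ∈ ws V r, (t * t) * w * (t * t)⁻¹ * w⁻¹ ∈ zpowers r := by
    intro t ht w hw
    have hy := ht.2 w hw
    have hyy : t * w * t⁻¹ * w⁻¹ * (t * w * t⁻¹ * w⁻¹) = 1 := sq_ws h hr hy.1
    have e : (t * t) * w * (t * t)⁻¹ * w⁻¹ =
        (t * (t * w * t⁻¹ * w⁻¹) * t⁻¹ * (t * w * t⁻¹ * w⁻¹)⁻¹) * (t * w * t⁻¹ * w⁻¹ * (t * w * t⁻¹ * w⁻¹)) := by group
    rw [e, hyy, mul_one]
    exact hy.2 t ht.1
  have hNk : N ≤ kq V r := by
    refine le_kq_pt h.fr hr hNc hNn fun t ht => ⟨1, ?_⟩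
    rw [pow_one, pow_two]
    refine ⟨mul_mem (hNc ht) (hNc ht), hsq t ht, fun w hw => ?_⟩
    have := hsq t⁻¹ (inv_mem ht) w hw
    rwa [← mul_inv_rev, inv_inv] at this
  -- the product
  obtain ⟨φ, hφ, hφ0⟩ := hne
  have hφ' := hφ
  rw [hps] at hφ'
  obtain ⟨u, hu, rfl⟩ := hφ
  obtain ⟨u', hu', hue⟩ := hφ'
  have hc0 : fn V r u c = 0 := by
    rw [hue]
    exact fn_fix (by rw [uu_comm_ws h hu' (h.fr.mem_ws_self hcr.left), mul_inv_cancel_right])
  have huc : u * c * u⁻¹ = c := fn_eq_zero hc0 hcW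
  have hcomm : ∀ w ∈ ws V r, u * u' * w * (u * u')⁻¹ * w⁻¹ ∈ R ∧ (fn V r u w = 1 →
      u * u' * w * (u * u')⁻¹ * w⁻¹ = a * c) := by
    intro w hw
    rcases act h hcr hu' hw with e2 | e2
    · have e1 : u * w * u⁻¹ = w := fn_eq_zero (by rw [hue]; exact fn_fix e2) hw
      have e3 : u * u' * w * (u * u')⁻¹ = w := by rw [ccomp, e2, e1]
      refine ⟨by rw [e3, mul_inv_cancel]; exact one_mem _, fun h1 => ?_⟩
      rw [hue, fn_fix e2] at h1
      exact absurd h1 (by decide)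
    · have h1 : fn V r u w = 1 := by rw [hue]; exact fn_mv' hw hcr.ne_one e2
      have e1 : u * w * u⁻¹ = a * w := (act h har hu hw).resolve_left (fn_eq_one h1).2
      have e3 : u * u' * w * (u * u')⁻¹ * w⁻¹ = a * c := by
        rw [ccomp, e2, cmul, e1, huc, comm_ws h hr haW hcW]
        group
      refine ⟨?_, fun _ => e3⟩
      rw [e3]
      refine ⟨heW, fun t ht => ?_⟩
      have := mem_centralizer_singleton_iff.mp (hte ht)
      rw [this, mul_inv_cancel_right, mul_inv_cancel]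
      exact one_mem _
  have hmem : u * u' ∈ N :=
    ⟨mul_mem (uu_le_th har hu) (uu_le_th hcr hu'), fun w hw => (hcomm w hw).1⟩
  obtain ⟨w, hw⟩ := Function.ne_iff.mp hφ0
  have hw1 : fn V r u w = 1 := (zmod_two_cases _).resolve_left hw
  have hwW := (fn_eq_one hw1).1
  have h2 : u * u' * w * (u * u')⁻¹ * w⁻¹ ∈ zpowers r := (hNk hmem).2.1 w hwW
  rw [(hcomm w hwW).2 hw1] at h2
  rcases (mem_zpowers_iff_of_mul_self (sq_pt h hr)).mp h2 with e | e
  · apply hac
    calc a = a * (c * c) := by rw [hcc, mul_one]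
      _ = (a * c) * c := by group
      _ = c := by rw [e, one_mul]
  · apply hacr
    calc c = (a * a) * c := by rw [haa, one_mul]
      _ = a * (a * c) := by group
      _ = a * r := by rw [e]

/-! ### the system -/

/-- **the system of transvections at `r`** -/
theorem sys (h : TyN T V z) {r a₀ b₀ : G} (hj : Jn V r a₀ b₀) :
    Sys {a | Col V a r ∧ a ≠ r} r (ps V r) (ps V r a₀).ncard where
  sq := fun a ha => sq_pt h ha.1
  zero := fun a _ => ⟨1, one_mem _, by funext x; exact (fn_fix (by group)).symm⟩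
  addm := by
    rintro a ha _ ⟨u, hu, rfl⟩ _ ⟨u', hu', rfl⟩
    exact ⟨u * u', mul_mem hu hu', (fn_mul h ha.1 hu hu').symm⟩
  fin := fun a _ => ps_finite V r a
  card := by
    intro a ha
    obtain ⟨g, hg1, hg2⟩ := exists_conj_flag h.fr hj.1.symm (hj.ne_left h) ha.1.symm ha.2
    have := ncard_ps_conj V r a₀ g
    rwa [hg1, hg2] at this
  self := by
    rintro a ha _ ⟨u, hu, rfl⟩
    exact fn_fix (by rw [uu_comm_ws h hu (h.fr.mem_ws_self ha.1.left), mul_inv_cancel_right])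
  add := by
    rintro a ha _ ⟨u, hu, rfl⟩ b hb c hc
    exact fn_add h ha.1 hu (h.fr.mem_ws_of_col hb.1.symm) (h.fr.mem_ws_of_col hc.1.symm)
  mul_mem := by
    rintro a ha b hb _ ⟨u, hu, rfl⟩ h1
    have hj' : Jn V r a b := Jn.of_ne h ha.1 hb.1.symm hu (fn_eq_one h1).2
    refine ⟨(hj'.col_mul h).symm, fun e => ?_⟩
    apply (fn_eq_one h1).2
    have hbe : b = a * r := by
      rw [← e, ← mul_assoc, sq_pt h ha.1, one_mul]
    refine conj_eq_of_comm (uu_comm_ws h hu ?_)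
    rw [hbe]
    exact mul_mem (h.fr.mem_ws_self ha.1.left) (h.fr.mem_ws_of_col ha.1)
  one := by
    rintro a ha b hb _ ⟨u, hu, rfl⟩ h1 _ ⟨u', hu', rfl⟩ h2
    have e1 : u * b * u⁻¹ = a * b :=
      (act h ha.1 hu (h.fr.mem_ws_of_col hb.1.symm)).resolve_left (fn_eq_one h1).2
    have e2 : u' * a * u'⁻¹ = a := fn_eq_zero h2 (h.fr.mem_ws_of_col ha.1.symm)
    refine ⟨u' * u * u'⁻¹, ?_, (fn_one h ha.1 hb.1 hu hu' e1 e2).symm⟩
    have := conj_mem_cj (g := u') hu
    rwa [cj_uu, e2] at this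
  two := by
    rintro a ha b hb _ ⟨u, hu, rfl⟩ h1 _ ⟨u', hu', rfl⟩ h2
    have e1 : u * b * u⁻¹ = b := fn_eq_zero h1 (h.fr.mem_ws_of_col hb.1.symm)
    have e2 : u' * a * u'⁻¹ = b * a :=
      (act h hb.1 hu' (h.fr.mem_ws_of_col ha.1.symm)).resolve_left (fn_eq_one h2).2
    refine ⟨u' * u * u'⁻¹, ?_, (fn_two h ha.1 hb.1 hu hu' e1 e2).symm⟩
    have := conj_mem_cj (g := u') hu
    rw [cj_uu, e2] at this
    rwa [comm_ws h ha.1.right (h.fr.mem_ws_of_col ha.1.symm) (h.fr.mem_ws_of_col hb.1.symm)]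
  span := by
    rintro a ha _ ⟨u, hu, rfl⟩ hne
    by_contra hcon
    push Not at hcon
    apply hne
    have hcent : ws V r ≤ centralizer ({u} : Set G) := by
      refine ws_le fun L hL x hx => ?_
      rw [mem_centralizer_singleton_iff]
      by_cases hx1 : x = 1
      · rw [hx1, one_mul, mul_one]
      obtain ⟨⟨g, rfl⟩, hrL⟩ := hL
      have hcol : Col V x r := ⟨g, hx, hrL, hx1, ha.1.symm.ne_one⟩
      by_cases hxr : x = r
      · rw [hxr]
        exact (uu_comm_ws h hu (h.fr.mem_ws_of_col ha.1)).symm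
      have h1 := (zmod_two_cases _).resolve_right (hcon x ⟨hcol, hxr⟩)
      exact (comm_of_conj_eq (fn_eq_zero h1 (h.fr.mem_ws_of_col hcol.symm))).symm
    funext x
    by_cases hx : x ∈ ws V r
    · exact fn_fix (conj_eq_of_comm (mem_centralizer_singleton_iff.mp (hcent hx)).symm)
    · exact fn_out hx
  o := by
    intro a ha c hc hac hacr hps
    refine exists_sep h ha.1 hc.1 hac hacr hps ?_
    by_contra hcon
    push Not at hcon
    obtain ⟨g, hg1, hg2⟩ := exists_conj_flag h.fr ha.1.symm ha.2 hj.1.symm (hj.ne_left h)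
    obtain ⟨u, hu, hub⟩ := hj.2.2
    have h1 : fn V r u ∈ ps V (g * r * g⁻¹) (g * a * g⁻¹) := by
      rw [hg1, hg2]
      exact ⟨u, hu, rfl⟩
    rw [ps_conj] at h1
    obtain ⟨φ, hφ, hφu⟩ := h1
    rw [hcon φ hφ] at hφu
    have h2 := congrFun hφu b₀
    have h3 : fn V r u b₀ = 1 := fn_mv' (h.fr.mem_ws_of_col hj.2.1) hj.1.ne_one hub
    rw [h3] at h2
    exact absurd h2.symm one_ne_zero

theorem jn_iff (h : TyN T V z) {r a b : G} (ha : Col V a r) (hb : Col V b r) :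
    Jn V r a b ↔ Sys.Joined (ps V r) a b := by
  constructor
  · rintro ⟨-, -, u, hu, hub⟩
    exact ⟨fn V r u, ⟨u, hu, rfl⟩, fn_mv' (h.fr.mem_ws_of_col hb.symm) ha.ne_one hub⟩
  · rintro ⟨_, ⟨u, hu, rfl⟩, h1⟩
    exact Jn.of_ne h ha hb.symm hu (fn_eq_one h1).2

/-- **(J1)** -/
theorem jn_symm (h : TyN T V z) {r a b : G} (hj : Jn V r a b) : Jn V r b a := by
  have ha := hj.1
  have hb := hj.2.1.symm
  rw [jn_iff h hb ha]
  exact (sys h hj).symm ⟨ha, hj.ne_left h⟩ ⟨hb, hj.ne_right h⟩ ((jn_iff h ha hb).mp hj)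

theorem K2.lt (hk : K2 V) (h : TyN T V z) {r a : G} (ha : Col V a r) (har : a ≠ r) : 2 < (ps V r a).ncard := by
  obtain ⟨p, s, hps, u, hu, u', hu', x, hx, x', hx', h1, h2, h3⟩ := hk
  have hpsne : p ≠ s := by
    rintro rfl
    exact h1 (conj_eq_of_comm (uu_comm_ws h hu hx))
  obtain ⟨g, hg1, hg2⟩ := exists_conj_flag h.fr hps.symm hpsne ha.symm har
  have h4 := ncard_ps_conj V s p g
  rw [hg1, hg2] at h4
  rw [h4]
  have hn1 : fn V s u ≠ 0 := fun e => by
    have := congrFun e x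
    rw [fn_mv hx h1] at this
    exact one_ne_zero this
  have hn2 : fn V s u' ≠ 0 := fun e => by
    have := congrFun e x'
    rw [fn_mv hx' h3] at this
    exact one_ne_zero this
  have hn3 : fn V s u ≠ fn V s u' := fun e => by
    have := congrFun e x
    rw [fn_mv hx h1, fn_fix h2] at this
    exact absurd this (by decide)
  have h5 : ({0, fn V s u, fn V s u'} : Set (G → ZMod 2)) ⊆ ps V s p := by
    rintro φ (rfl | rfl | rfl)
    · exact ⟨1, one_mem _, by funext x; exact (fn_fix (by group)).symm⟩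
    · exact ⟨u, hu, rfl⟩
    · exact ⟨u', hu', rfl⟩
  have h6 : ({0, fn V s u, fn V s u'} : Set (G → ZMod 2)).ncard = 3 := by
    rw [Set.ncard_insert_of_notMem, Set.ncard_pair hn3]
    rintro (e | e)
    · exact hn1 e.symm
    · exact hn2 e.symm
  have h7 := Set.ncard_le_ncard h5 (ps_finite V s p)
  omega

/-- **(J2)** -/
theorem jn_trans (h : TyN T V z) (hk : K2 V) {r a b c : G} (hj : Jn V r a b) (hj' : Jn V r b c)
    (hca : c ≠ a) (hcar : c ≠ a * r) : Jn V r a c := by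
  have ha := hj.1
  have hb := hj.2.1.symm
  have hc := hj'.2.1.symm
  rw [jn_iff h ha hc]
  exact (sys h hj).trans (hk.lt h ha (hj.ne_left h)) ⟨ha, hj.ne_left h⟩ ⟨hb, hj.ne_right h⟩
    ⟨hc, hj'.ne_right h⟩ ((jn_iff h ha hb).mp hj) ((jn_iff h hb hc).mp hj') hca hcar

end

end Cfsg.Agent.Omega.NO3S.TypeN
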