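import Cfsg.Agent.Mrg.Omega.NO3S.TypeN.Base
import Cfsg.Agent.Mrg.Omega.NO3S.TypeN.Joined

section


/-!
# NO-3S, `|V| = 4`, `n = 2`, TYPE N: shifts, conjugacy of flags, and case (A2) (helper60, bb #16001, section 4)

* `Jn.shift_right`, `Jn.shift_left`, `Jn.self_mul` : `Jn r a b` depends only on `a`, `b` mod `r`;
* `exists_conj_pair` : `G` is transitive on ordered pairs of different collinear points;
* `K2.exists_elts` : two elements of critical `W_c`s with different nonzero functionals;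
* `a2` : (A2) is impossible.
-/

set_option autoImplicit false
set_option linter.unusedSectionVars false

namespace Cfsg.Agent.Omega.NO3S.TypeN

open Subgroup Cfsg Cfsg.Agent.ZN Cfsg.Agent.MinSimple.Geo Cfsg.Agent.Omega.CaseL Cfsg.Agent.Omega.NO3S.TwoOne
  Cfsg.Agent.Omega.NO3S.Pt Cfsg.Agent.Omega.NO3S.TwoMid
open Cfsg.Agent.ZN.Block (conj_mem_of_normalizer conj_mem_of_normalizer' le_normalizer_of_forall
  mem_normalizer_of)

universe u

variable {G : Type u} [Group G] {T V : Subgroup G} {z : G} {a b c p r : G}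

/-! ### collinear points -/

theorem col_mul_r (h : Fr T V z) (hra : Col V r a) (hne : a ≠ r) : Col V r (a * r) := by
  obtain ⟨g, h1, h2, h3, h4⟩ := hra
  refine ⟨g, h1, mul_mem h2 h1, h3, fun e => hne ?_⟩
  have hr : r⁻¹ = r := inv_eq_self (h.pt_sq (Col.of_mem h1 h1 h3 h3))
  rw [mul_eq_one_iff_eq_inv.mp e, hr]

/-- a mover of `K_r` at a neighbour -/
theorem exists_mover (h : Fr T V z) (hra : Col V r a) (hne : a ≠ r) : ∃ k ∈ kq V r, k * a * k⁻¹ = a * r := by
  obtain ⟨g, h1, h2, h3, h4⟩ := id hra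
  obtain ⟨k, hk, -, hk2⟩ := h.mover_cj h1 h3
  refine ⟨k, hk, ?_⟩
  rw [hk2 a h2 h4 hne, h.col_comm hra]

theorem kq_cent (V : Subgroup G) {k r : G} (hk : k ∈ kq V r) : k * r * k⁻¹ = r :=
  conj_eq_of_comm (mem_centralizer_singleton_iff.mp (kq_le_centralizer V r hk))

/-- ordered pairs of different collinear points are conjugate -/
theorem exists_conj_pair (h : Fr T V z) {s t : G} (hra : Col V r a) (hne : a ≠ r) (hst : Col V s t) (hne' : t ≠ s) :
    ∃ g, g * r * g⁻¹ = s ∧ g * a * g⁻¹ = t := by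
  obtain ⟨g, h1, h2, h3, h4⟩ := id hra
  obtain ⟨m, k1, k2, k3, k4⟩ := id hst
  obtain ⟨x, hx1, hx2, -⟩ := h.flag h1 h3
  obtain ⟨y, hy1, hy2, hf⟩ := h.flag k1 k3
  have e1 : y * x⁻¹ * r * (y * x⁻¹)⁻¹ = s := by
    calc y * x⁻¹ * r * (y * x⁻¹)⁻¹ = y * (x⁻¹ * r * x) * y⁻¹ := by group
      _ = y * (x⁻¹ * (x * z * x⁻¹) * x) * y⁻¹ := by rw [hx2]
      _ = y * z * y⁻¹ := by group
      _ = s := hy2
  have e2 : y * x⁻¹ * a * (y * x⁻¹)⁻¹ ∈ cj m V := by
    have h5 : a ∈ cj x V := by rw [hx1]; exact h2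
    have h6 := mem_cj.mp h5
    have h7 := conj_mem_cj (g := y) h6
    rw [hy1] at h7
    have e : y * (x⁻¹ * a * x) * y⁻¹ = y * x⁻¹ * a * (y * x⁻¹)⁻¹ := by group
    rwa [e] at h7
  have e3 : y * x⁻¹ * a * (y * x⁻¹)⁻¹ ≠ 1 := fun e => h4 (conj_eq_one_iff.mp e)
  have e4 : y * x⁻¹ * a * (y * x⁻¹)⁻¹ ≠ s := by
    intro e
    apply hne
    have := e.trans e1.symm
    simpa using this
  rcases hf.ln.four k1 k2 k3 k4 (Ne.symm hne') e2 with e | e | e | e
  · exact absurd e e3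
  · exact absurd e e4
  · exact ⟨y * x⁻¹, e1, e⟩
  · obtain ⟨k, hk, hk1⟩ := exists_mover h hst hne'
    refine ⟨k * (y * x⁻¹), ?_, ?_⟩
    · calc k * (y * x⁻¹) * r * (k * (y * x⁻¹))⁻¹ = k * (y * x⁻¹ * r * (y * x⁻¹)⁻¹) * k⁻¹ := by group
        _ = s := by rw [e1, kq_cent V hk]
    · calc k * (y * x⁻¹) * a * (k * (y * x⁻¹))⁻¹ = k * (y * x⁻¹ * a * (y * x⁻¹)⁻¹) * k⁻¹ := by group
        _ = (k * s * k⁻¹) * (k * t * k⁻¹) := by rw [e]; group
        _ = s * (t * s) := by rw [kq_cent V hk, hk1]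
        _ = (s * s) * t := by rw [h.col_comm hst.symm]; group
        _ = t := by rw [h.pt_sq hst.left, one_mul]

variable [Finite G]

/-! ### shifts -/

theorem Jn.shift_right (h : TyN T V z) (hj : Jn V r a b) : Jn V r a (b * r) := by
  have hb := hj.ne_right h
  obtain ⟨h1, h2, u, hu, hub⟩ := hj
  refine ⟨h1, col_mul_r h.fr h2 hb, u, hu, ?_⟩
  have hur : u * r * u⁻¹ = r := conj_eq_of_comm (uu_comm_ws h hu (h.fr.mem_ws_of_col h1))
  calc u * (b * r) * u⁻¹ = (u * b * u⁻¹) * (u * r * u⁻¹) := by group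
    _ = a * (b * r) := by rw [hub, hur, mul_assoc]

theorem mul_mul_cancel_pt (h : TyN T V z) (hr : Col V r b) (x : G) : x * r * r = x := by
  rw [mul_assoc, sq_pt h hr, mul_one]

theorem Jn.shift_left (h : TyN T V z) (hj : Jn V r a b) : Jn V r (a * r) b := by
  obtain ⟨k, hk, hka⟩ := exists_mover h.fr hj.1.symm (hj.ne_left h)
  have h1 := hj.conj k
  rw [kq_cent V hk, hka] at h1
  rcases h.fr.kq_cases' hj.1.right hk (h.fr.mem_ws_of_col hj.2.1) with e | e
  · rwa [e] at h1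
  · rw [e, h.fr.col_comm hj.2.1] at h1
    have h2 := h1.shift_right h
    rwa [mul_mul_cancel_pt h hj.2.1] at h2

/-- `a` is joined to `a b` -/
theorem Jn.self_mul (h : TyN T V z) (hj : Jn V r a b) : Jn V r a (a * b) := by
  have h3 := hj.col_mul h
  obtain ⟨h1, h2, u, hu, hub⟩ := hj
  refine ⟨h1, h3, u, hu, ?_⟩
  have hua : u * a * u⁻¹ = a := conj_eq_of_comm (uu_comm_ws h hu (h.fr.mem_ws_self h1.left))
  calc u * (a * b) * u⁻¹ = (u * a * u⁻¹) * (u * b * u⁻¹) := by group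
    _ = a * (a * b) := by rw [hua, hub]

theorem Jn.unshift_right (h : TyN T V z) (hrb : Col V r b) (hj : Jn V r a (b * r)) : Jn V r a b := by
  have := hj.shift_right h
  rwa [mul_mul_cancel_pt h hrb] at this

theorem Jn.unshift_left (h : TyN T V z) (hra : Col V r a) (hj : Jn V r (a * r) b) : Jn V r a b := by
  have := hj.shift_left h
  rwa [mul_mul_cancel_pt h hra] at this

/-! ### `κ ≥ 2` -/

/-- two elements of `W_c`s, `c ~ p`, with different nonzero functionals on `W_r` -/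
theorem K2.exists_elts (h : TyN T V z) (hK : K2 V) : ∃ p r a c c', Col V p r ∧ Col V r a ∧ Col V p c ∧ Col V p c' ∧
    ∃ w ∈ ws V c, ∃ w' ∈ ws V c', ∃ x ∈ ws V r, w * a * w⁻¹ ≠ a ∧ w' * a * w'⁻¹ = a ∧ w' * x * w'⁻¹ ≠ x := by
  obtain ⟨p, r, hpr, u, hu, u', hu', x, hx, x', hx', h1, h2, h3⟩ := hK
  have hact : ∀ g ∈ uu V p, ∀ y ∈ ws V r, g * y * g⁻¹ = y ∨ g * y * g⁻¹ = p * y :=
    fun g hg y hy => act h hpr hg hy
  -- two elements with different functionals
  obtain ⟨c, hc, w, hw, hwx⟩ := exists_ws V ⟨u, hu, h1⟩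
  have step1 : ∃ c', Col V p c' ∧ ∃ w' ∈ ws V c', (∃ y ∈ ws V r, w * y * w⁻¹ ≠ w' * y * w'⁻¹) ∧
      ∃ y ∈ ws V r, w' * y * w'⁻¹ ≠ y := by
    by_contra hcon
    push Not at hcon
    let A : Subgroup G :=
      { carrier := {g | g ∈ uu V p ∧ ((∀ y ∈ ws V r, g * y * g⁻¹ = y) ∨ (∀ y ∈ ws V r, g * y * g⁻¹ = w * y * w⁻¹))}
        mul_mem' := by
          rintro g g' ⟨hg, hg1⟩ ⟨hg', hg1'⟩
          refine ⟨mul_mem hg hg', ?_⟩
          have key : ∀ y, g * g' * y * (g * g')⁻¹ = g * (g' * y * g'⁻¹) * g⁻¹ := fun y => by group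
          rcases hg1 with e | e <;> rcases hg1' with e' | e'
          · left; intro y hy; rw [key, e' y hy, e y hy]
          · right
            intro y hy
            rw [key, e' y hy]
            have : w * y * w⁻¹ ∈ ws V r := by
              rcases hact w (ws_le_uu hc hw) y hy with e2 | e2 <;> rw [e2]
              · exact hy
              · exact mul_mem (h.fr.mem_ws_of_col hpr.symm) hy
            rw [e _ this]
          · right
            intro y hy
            rw [key, e' y hy, e y hy]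
          · left
            intro y hy
            rw [key, e' y hy]
            have hwp : w * p * w⁻¹ = p :=
              conj_eq_of_comm (uu_comm_ws h (ws_le_uu hc hw) (h.fr.mem_ws_self hpr.left))
            rcases hact w (ws_le_uu hc hw) y hy with e2 | e2 <;> rw [e2]
            · rw [e y hy, e2]
            · rw [e _ (mul_mem (h.fr.mem_ws_of_col hpr.symm) hy)]
              calc w * (p * y) * w⁻¹ = (w * p * w⁻¹) * (w * y * w⁻¹) := by group
                _ = (p * p) * y := by rw [hwp, e2, mul_assoc]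
                _ = y := by rw [sq_pt h hpr, one_mul]
        one_mem' := ⟨one_mem _, Or.inl fun y _ => by group⟩
        inv_mem' := by
          rintro g ⟨hg, hg1⟩
          refine ⟨inv_mem hg, ?_⟩
          rcases hg1 with e | e
          · left
            intro y hy
            calc g⁻¹ * y * g⁻¹⁻¹ = g⁻¹ * (g * y * g⁻¹) * g⁻¹⁻¹ := by rw [e y hy]
              _ = y := by group
          · right
            intro y hy
            have hwp : w * p * w⁻¹ = p :=
              conj_eq_of_comm (uu_comm_ws h (ws_le_uu hc hw) (h.fr.mem_ws_self hpr.left))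
            rcases hact w (ws_le_uu hc hw) y hy with e2 | e2
            · rw [e2]
              calc g⁻¹ * y * g⁻¹⁻¹ = g⁻¹ * (g * y * g⁻¹) * g⁻¹⁻¹ := by rw [e y hy, e2]
                _ = y := by group
            · rw [e2]
              have h5 := e (p * y) (mul_mem (h.fr.mem_ws_of_col hpr.symm) hy)
              have h6 : w * (p * y) * w⁻¹ = y := by
                calc w * (p * y) * w⁻¹ = (w * p * w⁻¹) * (w * y * w⁻¹) := by group
                  _ = (p * p) * y := by rw [hwp, e2, mul_assoc]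
                  _ = y := by rw [sq_pt h hpr, one_mul]
              calc g⁻¹ * y * g⁻¹⁻¹ = g⁻¹ * (g * (p * y) * g⁻¹) * g⁻¹⁻¹ := by rw [h5, h6]
                _ = p * y := by group }
    have hA : uu V p ≤ A := by
      refine uu_le fun c' hc' w' hw' => ⟨ws_le_uu hc' hw', ?_⟩
      by_cases h5 : ∀ y ∈ ws V r, w * y * w⁻¹ = w' * y * w'⁻¹
      · exact Or.inr fun y hy => (h5 y hy).symm
      · push Not at h5
        obtain ⟨y, hy, hne⟩ := h5
        exact Or.inl fun y' hy' => hcon c' hc' w' hw' ⟨y, hy, hne⟩ y' hy'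
    rcases (hA hu').2 with e | e
    · exact h3 (e x' hx')
    · exact hwx ((e x hx).symm.trans h2)
  obtain ⟨c', hc', w', hw', ⟨y, hy, hne⟩, ⟨y', hy', hne'⟩⟩ := step1
  -- a point where they differ
  have step2 : ∃ a, Col V r a ∧ w * a * w⁻¹ ≠ w' * a * w'⁻¹ := by
    by_contra hcon
    push Not at hcon
    let A : Subgroup G :=
      { carrier := {g | w * g * w⁻¹ = w' * g * w'⁻¹}
        mul_mem' := by
          intro g g' hg hg'
          simp only [Set.mem_ofPred_eq] at hg hg' ⊢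
          calc w * (g * g') * w⁻¹ = (w * g * w⁻¹) * (w * g' * w⁻¹) := by group
            _ = (w' * g * w'⁻¹) * (w' * g' * w'⁻¹) := by rw [hg, hg']
            _ = w' * (g * g') * w'⁻¹ := by group
        one_mem' := by simp
        inv_mem' := by
          intro g hg
          simp only [Set.mem_ofPred_eq] at hg ⊢
          calc w * g⁻¹ * w⁻¹ = (w * g * w⁻¹)⁻¹ := by group
            _ = (w' * g * w'⁻¹)⁻¹ := by rw [hg]
            _ = w' * g⁻¹ * w'⁻¹ := by group }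
    have hA : ws V r ≤ A := by
      refine ws_le fun L hL => ?_
      obtain ⟨⟨g, rfl⟩, hr⟩ := hL
      intro g' hg'
      by_cases h5 : g' = 1
      · rw [h5]; exact A.one_mem
      · exact hcon g' ⟨g, hr, hg', hpr.symm.ne_one, h5⟩
    exact hne (hA hy)
  obtain ⟨a, hra, hne2⟩ := step2
  have hm := hact w (ws_le_uu hc hw) a (h.fr.mem_ws_of_col hra)
  have hm' := hact w' (ws_le_uu hc' hw') a (h.fr.mem_ws_of_col hra)
  rcases hm' with e | e
  · refine ⟨p, r, a, c, c', hpr, hra, hc, hc', w, hw, w', hw', y', hy', ?_, e, hne'⟩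
    rwa [e] at hne2
  · rcases hm with e2 | e2
    · refine ⟨p, r, a, c', c, hpr, hra, hc', hc, w', hw', w, hw, x, hx, ?_, e2, hwx⟩
      rw [e2] at hne2
      exact hne2.symm
    · exact absurd (e2.trans e.symm) hne2

/-! ### (A2) -/

/-- (A2), step 1: for `a`, `p` joined at `r`, `W_a ≤ W_{pa} Z_r` -/
theorem a2_step (h : TyN T V z) (hA2 : ∀ c p r, Mid T V z c p r → ¬ Jn V p r c) (hj : Jn V r p a) {y : G}
    (hy : y ∈ ws V a) : ∃ y' ∈ ws V (p * a), ∃ s ∈ zr V r, y = s * y' := by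
  obtain ⟨u, hu, hne⟩ := hj.exists_ne
  obtain ⟨c, hc, w, hw, hwa⟩ := exists_ws V ⟨u, hu, hne⟩
  have hm := mid_of_move h hc.symm hj.1 hw (h.fr.mem_ws_of_col hj.2.1) hwa
  have hwa' := (act h hj.1 (ws_le_uu hc hw) (h.fr.mem_ws_of_col hj.2.1)).resolve_left hwa
  have h1 := cent_uu h hm (hA2 c p r hm) (ws_le_uu hj.2.1 hy) hw
  refine ⟨w * y * w⁻¹, ?_, _, h1, ?_⟩
  · have := conj_mem_ws w hy
    rwa [hwa'] at this
  · group

/-- (A2), step 2: `W_a ≤ W_{ar} Z_r` -/
theorem a2_step2 (h : TyN T V z) (hA2 : ∀ c p r, Mid T V z c p r → ¬ Jn V p r c) (hj : Jn V r p a) {y : G}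
    (hy : y ∈ ws V a) : ∃ y' ∈ ws V (a * r), ∃ s ∈ zr V r, y = s * y' := by
  obtain ⟨y1, hy1, s1, hs1, e1⟩ := a2_step h hA2 hj hy
  have hj2 : Jn V r (p * r) (p * a) := (hj.self_mul h).shift_left h
  obtain ⟨y2, hy2, s2, hs2, e2⟩ := a2_step h hA2 hj2 hy1
  have hp := h.fr.mem_ws_of_col hj.1.symm
  have hr := h.fr.mem_ws_self hj.1.right
  have ha := h.fr.mem_ws_of_col hj.2.1
  have e : p * r * (p * a) = a * r := by
    calc p * r * (p * a) = p * (r * p) * a := by group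
      _ = p * (p * r) * a := by rw [comm_ws h hj.1.right hr hp]
      _ = (p * p) * (r * a) := by group
      _ = a * r := by rw [sq_pt h hj.1, one_mul, comm_ws h hj.1.right hr ha]
  rw [e] at hy2
  exact ⟨y2, hy2, s1 * s2, mul_mem hs1 hs2, by rw [e1, e2]; group⟩

theorem zr_norm (V : Subgroup G) (r : G) : centralizer ({r} : Set G) ≤ normalizer ((zr V r : Subgroup G) : Set G) := by
  refine le_normalizer_of_forall fun g hg x hx => ?_
  have h1 := centralizer_le_normalizer_uu V r hg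
  refine mem_inf.mpr ⟨conj_mem_of_normalizer (centralizer_le_normalizer_uu V r) hg (mem_inf.mp hx).1, ?_⟩
  rw [mem_centralizer_iff]
  intro y hy
  have hy' : g⁻¹ * y * g ∈ uu V r := (mem_normalizer_iff''.mp h1 y).mp hy
  have := mem_centralizer_iff.mp (mem_inf.mp hx).2 _ hy'
  calc y * (g * x * g⁻¹) = g * ((g⁻¹ * y * g) * x) * g⁻¹ := by group
    _ = g * (x * (g⁻¹ * y * g)) * g⁻¹ := by rw [this]
    _ = g * x * g⁻¹ * y := by group

/-- the action of `g ∈ C(a) ∩ C(r)` on `Q_a = W_a / C_{W_a}(U_r)` is trivial -/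
def Tr (V : Subgroup G) (a r g : G) : Prop := ∀ y ∈ ws V a, ∀ u ∈ uu V r, (g * y * g⁻¹ * y⁻¹) * u = u * (g * y * g⁻¹ * y⁻¹)

/-- (A2), step 3: `Q_a` and `Q_{ar}` are the same module -/
theorem a2_tr (h : TyN T V z) (hA2 : ∀ c p r, Mid T V z c p r → ¬ Jn V p r c) (hj : Jn V r p a) {g : G}
    (hgr : g * r = r * g) (ht : Tr V (a * r) r g) : Tr V a r g := by
  intro y hy u hu
  obtain ⟨y', hy', s, hs, rfl⟩ := a2_step2 h hA2 hj hy
  have hgr' : g ∈ centralizer ({r} : Set G) := mem_centralizer_singleton_iff.mpr hgr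
  have hs' : g * s * g⁻¹ ∈ zr V r := conj_mem_of_normalizer (zr_norm V r) hgr' hs
  have e : g * (s * y') * g⁻¹ * (s * y')⁻¹ = (g * s * g⁻¹) * (g * y' * g⁻¹ * y'⁻¹) * s⁻¹ := by group
  rw [e]
  have c1 : (g * s * g⁻¹) * u = u * (g * s * g⁻¹) := (mem_centralizer_iff.mp (mem_inf.mp hs').2 u hu).symm
  have c2 := ht y' hy' u hu
  have c3 : s⁻¹ * u = u * s⁻¹ := (mem_centralizer_iff.mp (inv_mem (mem_inf.mp hs).2) u hu).symm
  exact mul_comm_of (mul_comm_of c1 c2) c3

/-- `C_{W_a}(U_r) ≤ C(U_{ar})` -/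
theorem tr_shift (h : TyN T V z) (hra : Col V a r) (hne : r ≠ a) {y : G} (hy : y ∈ ws V a)
    (hc : ∀ u ∈ uu V r, y * u = u * y) : ∀ u ∈ uu V (r * a), y * u = u * y := by
  obtain ⟨k, hk, hkr⟩ := exists_mover h.fr hra hne
  intro u hu
  have hu' : k⁻¹ * u * k ∈ uu V r := by
    have h1 : k⁻¹ * u * k⁻¹⁻¹ ∈ cj k⁻¹ (uu V (r * a)) := conj_mem_cj hu
    rw [cj_uu, ← hkr] at h1
    have e : k⁻¹ * (k * r * k⁻¹) * k⁻¹⁻¹ = r := by group
    rwa [e, inv_inv] at h1
  have h2 := hc _ hu'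
  have h3 : (k * y * k⁻¹) * u = u * (k * y * k⁻¹) := by
    calc (k * y * k⁻¹) * u = k * (y * (k⁻¹ * u * k)) * k⁻¹ := by group
      _ = k * ((k⁻¹ * u * k) * y) * k⁻¹ := by rw [h2]
      _ = u * (k * y * k⁻¹) := by group
  rcases h.fr.kq_cases' hra.left hk hy with e | e
  · rwa [e] at h3
  · rw [e] at h3
    have h4 : a * u = u * a := by
      have hcol : Col V a (r * a) := col_mul_r h.fr hra hne
      exact (uu_comm_ws h hu (h.fr.mem_ws_of_col hcol.symm)).symm
    have h5 := mul_comm_of h4 h3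
    rwa [← mul_assoc, sq_pt h hra, one_mul] at h5

/-- **(A2) is impossible.** -/
theorem a2 (h : TyN T V z) (hK : K2 V) (hj1 : ∀ r a b, Jn V r a b → Jn V r b a)
    (hA2 : ∀ c p r, Mid T V z c p r → ¬ Jn V p r c) : False := by
  obtain ⟨p, r, a, c, c', hpr, hra, hc, hc', w, hw, g, hg, x, hx, hwa, hga, hgx⟩ := hK.exists_elts h
  -- `p`, `a` joined at `r`
  have hj : Jn V r p a := Jn.of_ne h hpr hra (ws_le_uu hc hw) hwa
  have hj' : Jn V r a p := hj1 _ _ _ hj
  have har : r ≠ a := (hj'.ne_left h).symm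
  have hm : Mid T V z c' p r := mid_of_move h hc'.symm hpr hg hx hgx
  have hga' : g * a = a * g := comm_of_conj_eq hga
  have hgr : g * r = r * g := uu_comm_ws h (ws_le_uu hc' hg) (h.fr.mem_ws_of_col hpr)
  -- `g` centralises `U_r / Z_r`
  have hq : ∀ u ∈ uu V r, u * g * u⁻¹ * g⁻¹ ∈ zr V r := fun u hu => cent_uu h hm (hA2 _ _ _ hm) hu hg
  -- `Tr (a r) r g`
  have hcar : Col V r (a * r) := col_mul_r h.fr hra har.symm
  have t1 : Tr V (a * r) r g := by
    intro y hy u hu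
    have h1 := hq y (ws_le_uu hcar hy)
    have e : g * y * g⁻¹ * y⁻¹ = (y * g * y⁻¹ * g⁻¹)⁻¹ := by group
    rw [e]
    exact (mem_centralizer_iff.mp (inv_mem (mem_inf.mp h1).2) u hu).symm
  -- `Tr (a r) a g`, via `r → r (a r) = a`
  have hcar' : Col V (a * r) r := hcar.symm
  have hne1 : r ≠ a * r := by
    intro e
    exact hra.symm.ne_one (by simpa using e)
  have era : r * (a * r) = a := by
    rw [h.fr.col_comm hcar, mul_mul_cancel_pt h hra]
  have t2 : Tr V (a * r) a g := by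
    intro y hy u hu
    have hcomm : g * (a * r) = (a * r) * g := by
      calc g * (a * r) = (g * a) * r := by group
        _ = a * (g * r) := by rw [hga']; group
        _ = (a * r) * g := by rw [hgr]; group
    have hmem : g * y * g⁻¹ * y⁻¹ ∈ ws V (a * r) := comm_mem_ws hcomm hy
    have h1 := tr_shift h hcar' hne1 hmem (fun u hu => t1 y hy u hu)
    rw [era] at h1
    exact h1 u hu
  -- `Tr r a g`
  have hja : ∃ q, Jn V a q r := by
    obtain ⟨k, hk1, hk2⟩ := exists_conj_pair h.fr hra har.symm hra.symm har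
    refine ⟨k * p * k⁻¹, ?_⟩
    have := hj.conj k
    rwa [hk1, hk2] at this
  obtain ⟨q, hq'⟩ := hja
  have t3 : Tr V r a g := by
    refine a2_tr h hA2 hq' hga' ?_
    rw [h.fr.col_comm hra]
    exact t2
  -- but `g` moves `x` to `p x`
  obtain ⟨v, hv, hvp⟩ := hj'.exists_ne
  have h5 := t3 x hx v hv
  have h6 := (act h hpr (ws_le_uu hc' hg) hx).resolve_left hgx
  rw [h6] at h5
  apply hvp
  have e : p * x * x⁻¹ = p := by group
  rw [e] at h5
  exact conj_eq_of_comm h5.symm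

end Cfsg.Agent.Omega.NO3S.TypeN

end

section


/-!
# NO-3S, `|V| = 4`, `n = 2`, TYPE N: components, the groups `W_a⁰` (helper60, bb #16001, sections 3, 5)

`Hy` : TYPE N, joined is symmetric and transitive.

* `Hy.sep` : `a`, `b`, `e` pairwise joined, `e ∉ ⟨a b, r⟩`: some `g ∈ U_e` fixes `a` and moves `b`;
* `Hy.pair_trans` : `C(r) ∩ C(a)` is transitive on the points joined to `a` at `r`;
* `Hy.crit_of_jn` : if one joined pair is critical, all are;
* `w0 V a r = W_a⁰` : the preimage in `W_a` of the component of `r`.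
-/

set_option autoImplicit false
set_option linter.unusedSectionVars false

namespace Cfsg.Agent.Omega.NO3S.TypeN

open Subgroup Cfsg Cfsg.Agent.ZN Cfsg.Agent.MinSimple.Geo Cfsg.Agent.Omega.CaseL Cfsg.Agent.Omega.NO3S.TwoOne
  Cfsg.Agent.Omega.NO3S.Pt Cfsg.Agent.Omega.NO3S.TwoMid
open Cfsg.Agent.ZN.Block (conj_mem_of_normalizer conj_mem_of_normalizer' le_normalizer_of_forall
  mem_normalizer_of)

universe u

variable {G : Type u} [Group G] {T V : Subgroup G} {z : G} {a b c e p r x y : G}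

/-- TYPE N, joined is an equivalence -/
structure Hy (T V : Subgroup G) (z : G) : Prop extends TyN T V z where
  j1 : ∀ r a b, Jn V r a b → Jn V r b a
  j2 : ∀ r a b c, Jn V r a b → Jn V r b c → c ≠ a → c ≠ a * r → Jn V r a c

/-- `W_a⁰`: the preimage in `W_a` of the component of `r` -/
def w0 (V : Subgroup G) (a r : G) : Subgroup G := closure ({a, r} ∪ {x | Jn V a r x})

theorem a_mem_w0 : a ∈ w0 V a r := subset_closure (Or.inl (Or.inl rfl))

theorem r_mem_w0 : r ∈ w0 V a r := subset_closure (Or.inl (Or.inr rfl))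

theorem jn_mem_w0 (h : Jn V a r x) : x ∈ w0 V a r := subset_closure (Or.inr h)

theorem cj_w0 (V : Subgroup G) (g a r : G) : cj g (w0 V a r) = w0 V (g * a * g⁻¹) (g * r * g⁻¹) := by
  have key : ∀ g a r : G, cj g (w0 V a r) ≤ w0 V (g * a * g⁻¹) (g * r * g⁻¹) := by
    intro g a r
    rw [cj_le_iff]
    refine (closure_le _).mpr ?_
    rintro x ((rfl | rfl) | hx)
    · exact mem_cj.mpr (by simpa using a_mem_w0)
    · exact mem_cj.mpr (by simpa using r_mem_w0)
    · exact mem_cj.mpr (by simpa using jn_mem_w0 (Jn.conj hx g))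
  refine le_antisymm (key g a r) ?_
  have h := key g⁻¹ (g * a * g⁻¹) (g * r * g⁻¹)
  have e : ∀ x : G, g⁻¹ * (g * x * g⁻¹) * g⁻¹⁻¹ = x := fun x => by group
  rw [e, e, cj_le_iff, inv_inv] at h
  exact h

theorem conj_mem_w0 (g : G) (hx : x ∈ w0 V a r) : g * x * g⁻¹ ∈ w0 V (g * a * g⁻¹) (g * r * g⁻¹) := by
  rw [← cj_w0]; exact conj_mem_cj hx

theorem conj_mem_w0' {g : G} (ha : g * a = a * g) (hr : g * r = r * g) (hx : x ∈ w0 V a r) :
    g * x * g⁻¹ ∈ w0 V a r := by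
  have := conj_mem_w0 g hx
  rwa [conj_eq_of_comm ha, conj_eq_of_comm hr] at this

variable [Finite G]

namespace Hy

theorem col_of_jn (h : Hy T V z) (hj : Jn V r a b) : Col V r (a * b) := hj.col_mul h.toTyN

/-- `b` is joined to `a b` -/
theorem mul_self' (h : Hy T V z) (hj : Jn V r a b) : Jn V r b (a * b) := by
  have h1 := (h.j1 _ _ _ hj).self_mul h.toTyN
  rwa [comm_ws h.toTyN hj.1.right (h.fr.mem_ws_of_col hj.2.1) (h.fr.mem_ws_of_col hj.1.symm)] at h1

/-- (J4) `a`, `b`, `e` pairwise joined, `e ∉ {a b, a b r}` : some `g ∈ U_e` fixes `a` and moves `b`. -/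
theorem sep (h : Hy T V z) (hab : Jn V r a b) (hea : Jn V r e a) (heb : Jn V r e b) (h1 : e ≠ a * b)
    (h2 : e ≠ a * b * r) : ∃ g ∈ uu V e, g * a * g⁻¹ = a ∧ g * b * g⁻¹ = e * b := by
  have ht := h.toTyN
  have hact : ∀ g ∈ uu V e, ∀ y ∈ ws V r, g * y * g⁻¹ = y ∨ g * y * g⁻¹ = e * y :=
    fun g hg y hy => act ht hea.1 hg hy
  have ha := h.fr.mem_ws_of_col hea.2.1
  have hb := h.fr.mem_ws_of_col heb.2.1
  have hce := hea.1.left
  have he := h.fr.mem_ws_of_col hea.1.symm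
  have hee : e * e = 1 := sq_pt ht hea.1
  obtain ⟨-, -, g1, hg1, hg1b⟩ := id heb
  rcases hact g1 hg1 a ha with e1 | e1
  · exact ⟨g1, hg1, e1, hg1b⟩
  have h3 : Jn V r a (a * b) := hab.self_mul ht
  have hne : a * b ≠ e * r := by
    intro e'
    apply h2
    rw [e', mul_mul_cancel_pt ht hea.1.symm]
  have h4 : Jn V r e (a * b) := h.j2 _ _ _ _ hea h3 (Ne.symm h1) hne
  obtain ⟨-, -, g2, hg2, hg2b⟩ := h4
  have e2 : g2 * (a * b) * g2⁻¹ = (g2 * a * g2⁻¹) * (g2 * b * g2⁻¹) := by group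
  rw [e2] at hg2b
  have hea' : e * a = a * e := comm_ws ht hea.1.right he ha
  rcases hact g2 hg2 a ha with ea | ea <;> rcases hact g2 hg2 b hb with eb | eb
  · exfalso
    rw [ea, eb] at hg2b
    exact hea.1.ne_one (by simpa using hg2b.symm)
  · exact ⟨g2, hg2, ea, eb⟩
  · refine ⟨g1 * g2, mul_mem hg1 hg2, ?_, ?_⟩
    · have hg1e : g1 * e * g1⁻¹ = e := conj_eq_of_comm (uu_comm_ws ht hg1 (h.fr.mem_ws_self hce))
      calc g1 * g2 * a * (g1 * g2)⁻¹ = g1 * (g2 * a * g2⁻¹) * g1⁻¹ := by group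
        _ = (g1 * e * g1⁻¹) * (g1 * a * g1⁻¹) := by rw [ea]; group
        _ = (e * e) * a := by rw [hg1e, e1, mul_assoc]
        _ = a := by rw [hee, one_mul]
    · calc g1 * g2 * b * (g1 * g2)⁻¹ = g1 * (g2 * b * g2⁻¹) * g1⁻¹ := by group
        _ = e * b := by rw [eb, hg1b]
  · exfalso
    rw [ea, eb] at hg2b
    have : e * a * (e * b) = a * b := by
      calc e * a * (e * b) = a * (e * e) * b := by rw [hea']; group
        _ = a * b := by rw [hee, mul_one]
    rw [this] at hg2b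
    exact hea.1.ne_one (by simpa using hg2b.symm)

/-- `C(r) ∩ C(a)` is transitive on the points joined to `a` at `r` -/
theorem pair_trans (h : Hy T V z) {b' : G} (hab : Jn V r a b) (hab' : Jn V r a b') :
    ∃ g, g * r = r * g ∧ g * a = a * g ∧ g * b * g⁻¹ = b' := by
  have ht := h.toTyN
  have hr := hab.1.right
  have har := h.fr.mem_ws_of_col hab.1.symm
  have hbr := h.fr.mem_ws_of_col hab.2.1
  have hbr' := h.fr.mem_ws_of_col hab'.2.1
  have hrr := h.fr.mem_ws_self hr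
  have haa : a * a = 1 := sq_pt ht hab.1
  have hbb : b * b = 1 := sq_pt ht hab.2.1.symm
  have hb'b' : b' * b' = 1 := sq_pt ht hab'.2.1.symm
  have hrr2 : r * r = 1 := sq_pt ht hr
  have cab : a * b = b * a := comm_ws ht hr har hbr
  have cbr : b * r = r * b := comm_ws ht hr hbr hrr
  have car : a * r = r * a := comm_ws ht hr har hrr
  have cbb : b * b' = b' * b := comm_ws ht hr hbr hbr'
  -- elements of `U_a`, `U_{ar}` centralise `a`, `r`
  have hUa : ∀ g ∈ uu V a, g * r = r * g ∧ g * a = a * g := fun g hg =>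
    ⟨uu_comm_ws ht hg (h.fr.mem_ws_of_col hab.1), uu_comm_ws ht hg (h.fr.mem_ws_self hab.1.left)⟩
  have hUar : ∀ g ∈ uu V (a * r), g * r = r * g ∧ g * a = a * g := by
    intro g hg
    have hcol : Col V (a * r) r := (hab.shift_left ht).1
    have h1 : g * r = r * g := uu_comm_ws ht hg (h.fr.mem_ws_of_col hcol)
    have h2 : g * (a * r) = a * r * g := uu_comm_ws ht hg (h.fr.mem_ws_self hcol.left)
    refine ⟨h1, ?_⟩
    have h3 := comm_mul_of h2 h1
    rwa [mul_mul_cancel_pt ht hab.1.symm] at h3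
  by_cases c1 : b' = b
  · exact ⟨1, by simp, by simp, by simp [c1]⟩
  by_cases c2 : b' = a * b
  · obtain ⟨-, -, g, hg, hgb⟩ := hab
    exact ⟨g, (hUa g hg).1, (hUa g hg).2, by rw [hgb, c2]⟩
  by_cases c3 : b' = a * b * r
  · obtain ⟨-, -, g, hg, hgb⟩ := hab.shift_left ht
    refine ⟨g, (hUar g hg).1, (hUar g hg).2, ?_⟩
    rw [hgb, c3, mul_assoc, mul_assoc, cbr]
  by_cases c4 : b' = b * r
  · obtain ⟨-, -, g, hg, hgb⟩ := id hab
    obtain ⟨-, -, g', hg', hgb'⟩ := (hab.self_mul ht).shift_left ht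
    refine ⟨g' * g, mul_comm_of (hUar g' hg').1 (hUa g hg).1, mul_comm_of (hUar g' hg').2 (hUa g hg).2, ?_⟩
    calc g' * g * b * (g' * g)⁻¹ = g' * (g * b * g⁻¹) * g'⁻¹ := by group
      _ = a * r * (a * b) := by rw [hgb, hgb']
      _ = a * (r * a) * b := by group
      _ = (a * a) * (r * b) := by rw [← car]; group
      _ = b' := by rw [haa, one_mul, c4, cbr]
  -- the general case
  have hbb' : Jn V r b b' := h.j2 _ _ _ _ (h.j1 _ _ _ hab) hab' c1 c4
  have he1 : Jn V r b (b * b') := hbb'.self_mul ht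
  have he2 : Jn V r (b * b') b := h.j1 _ _ _ he1
  have he3 : Jn V r (b * b') a := by
    refine h.j2 _ _ _ _ he2 (h.j1 _ _ _ hab) ?_ ?_
    · intro e'
      apply c2
      calc b' = b * (b * b') := by rw [← mul_assoc, hbb, one_mul]
        _ = a * b := by rw [← e', cab]
    · intro e'
      apply c3
      have : a * r = b * b' := by rw [e', mul_mul_cancel_pt ht (hab.2.1)]
      calc b' = b * (b * b') := by rw [← mul_assoc, hbb, one_mul]
        _ = b * (a * r) := by rw [this]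
        _ = a * b * r := by rw [cab]; group
  have hne1 : b * b' ≠ a * b := by
    intro e'
    rw [cab] at e'
    have : b' = a := mul_left_cancel e'
    exact (hab'.ne ht) this.symm
  have hne2 : b * b' ≠ a * b * r := by
    intro e'
    rw [cab, mul_assoc] at e'
    have : b' = a * r := mul_left_cancel e'
    apply hab'.not_mem ht
    rw [this]
    exact mul_mem (h.fr.mem_ws_self hab.1.left) (h.fr.mem_ws_of_col hab.1)
  obtain ⟨g, hg, hga, hgb⟩ := h.sep hab he3 he2 hne1 hne2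
  refine ⟨g, uu_comm_ws ht hg (h.fr.mem_ws_of_col he3.1), comm_of_conj_eq hga, ?_⟩
  rw [hgb]
  calc b * b' * b = b * (b' * b) := by group
    _ = (b * b) * b' := by rw [← cbb]; group
    _ = b' := by rw [hbb, one_mul]

/-- all joined pairs (with the vertex) are conjugate -/
theorem triple_trans (h : Hy T V z) {r' a' b' : G} (hj : Jn V r a b) (hj' : Jn V r' a' b') :
    ∃ g, g * r * g⁻¹ = r' ∧ g * a * g⁻¹ = a' ∧ g * b * g⁻¹ = b' := by
  have ht := h.toTyN
  obtain ⟨k, hk1, hk2⟩ := exists_conj_pair h.fr hj.1.symm (hj.ne_left ht) hj'.1.symm (hj'.ne_left ht)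
  have h1 := hj.conj k
  rw [hk1, hk2] at h1
  obtain ⟨g, hg1, hg2, hg3⟩ := h.pair_trans h1 hj'
  refine ⟨g * k, ?_, ?_, ?_⟩
  · calc g * k * r * (g * k)⁻¹ = g * (k * r * k⁻¹) * g⁻¹ := by group
      _ = r' := by rw [hk1, conj_eq_of_comm hg1]
  · calc g * k * a * (g * k)⁻¹ = g * (k * a * k⁻¹) * g⁻¹ := by group
      _ = a' := by rw [hk2, conj_eq_of_comm hg2]
  · calc g * k * b * (g * k)⁻¹ = g * (k * b * k⁻¹) * g⁻¹ := by group
      _ = b' := hg3

/-- if one joined pair is critical, all are -/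
theorem crit_of_jn (h : Hy T V z) (hm : Mid T V z c p r) (hj : Jn V p r c) {s : G} (hab : Jn V s a b) :
    Mid T V z a s b := by
  obtain ⟨g, h1, h2, h3⟩ := h.triple_trans (h.j1 _ _ _ hj) hab
  have := hm.conj g
  rwa [h1, h2, h3] at this

/-! ### `W_a⁰` -/

/-- products of two elements of one component -/
theorem mul_cases (h : Hy T V z) (hj : Jn V a r x) (hj' : Jn V a r y) :
    x * y = 1 ∨ x * y = a ∨ x * y = r ∨ x * y = r * a ∨ Jn V a r (x * y) := by
  have ht := h.toTyN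
  have hxx : x * x = 1 := sq_pt ht hj.2.1.symm
  by_cases h1 : y = x
  · left; rw [h1, hxx]
  by_cases h2 : y = x * a
  · right; left
    rw [h2, ← mul_assoc, hxx, one_mul]
  by_cases h3 : x * y = r
  · exact Or.inr (Or.inr (Or.inl h3))
  by_cases h4 : x * y = r * a
  · exact Or.inr (Or.inr (Or.inr (Or.inl h4)))
  right; right; right; right
  have h5 : Jn V a x y := h.j2 _ _ _ _ (h.j1 _ _ _ hj) hj' h1 h2
  exact h.j2 _ _ _ _ hj (h5.self_mul ht) h3 h4

/-- `r x` for `x` in the component of `r` -/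
theorem jn_mul (h : Hy T V z) (hj : Jn V a r x) : Jn V a r (r * x) := hj.self_mul h.toTyN

theorem jn_mul' (h : Hy T V z) (hj : Jn V a r x) : Jn V a r (x * a) := hj.shift_right h.toTyN

/-- the elements of `W_a⁰` -/
theorem mem_w0 (h : Hy T V z) (har : Col V a r) (hx : x ∈ w0 V a r) :
    x = 1 ∨ x = a ∨ x = r ∨ x = r * a ∨ Jn V a r x := by
  have ht := h.toTyN
  have haw := h.fr.mem_ws_self har.left
  have hrw := h.fr.mem_ws_of_col har
  have haa : a * a = 1 := sq_pt ht har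
  have hrr : r * r = 1 := sq_pt ht har.symm
  have car : a * r = r * a := comm_ws ht har.left haw hrw
  have hxw : ∀ x, Jn V a r x → x ∈ ws V a := fun x hx => h.fr.mem_ws_of_col hx.2.1
  -- the set is closed under multiplication by generators from the left
  have key : ∀ s x, (s = a ∨ s = r ∨ Jn V a r s) → (x = 1 ∨ x = a ∨ x = r ∨ x = r * a ∨ Jn V a r x) →
      (s * x = 1 ∨ s * x = a ∨ s * x = r ∨ s * x = r * a ∨ Jn V a r (s * x)) := by
    intro s x hs hx
    rcases hs with rfl | rfl | hs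
    · rcases hx with rfl | rfl | rfl | rfl | hx
      · simp
      · simp [haa]
      · simp [car]
      · right; right; left
        rw [← car, ← mul_assoc, haa, one_mul]
      · right; right; right; right
        have := h.jn_mul' hx
        rwa [comm_ws ht har.left (hxw x hx) haw] at this
    · rcases hx with rfl | rfl | rfl | rfl | hx
      · simp
      · simp
      · simp [hrr]
      · right; left
        rw [← mul_assoc, hrr, one_mul]
      · right; right; right; right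
        exact h.jn_mul hx
    · have hsw := hxw s hs
      rcases hx with rfl | rfl | rfl | rfl | hx
      · simp [hs]
      · right; right; right; right
        exact h.jn_mul' hs
      · right; right; right; right
        rw [comm_ws ht har.left hsw hrw]
        exact h.jn_mul hs
      · right; right; right; right
        rw [← mul_assoc, comm_ws ht har.left hsw hrw]
        exact h.jn_mul' (h.jn_mul hs)
      · exact h.mul_cases hs hx
  unfold w0 at hx
  have hinv : ∀ s, (s = a ∨ s = r ∨ Jn V a r s) → s⁻¹ = s := by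
    rintro s (rfl | rfl | hs)
    · exact inv_eq_self haa
    · exact inv_eq_self hrr
    · exact inv_pt ht hs.2.1.symm
  have hgen : ∀ s ∈ (({a, r} ∪ {x | Jn V a r x}) : Set G), s = a ∨ s = r ∨ Jn V a r s := by
    rintro s ((rfl | rfl) | hs)
    · exact Or.inl rfl
    · exact Or.inr (Or.inl rfl)
    · exact Or.inr (Or.inr hs)
  induction hx using closure_induction_left with
  | one => exact Or.inl rfl
  | mul_left s hs y _ ih => exact key s y (hgen s hs) ih
  | inv_mul_cancel s hs y _ ih =>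
    rw [hinv s (hgen s hs)]
    exact key s y (hgen s hs) ih

theorem w0_le (h : Hy T V z) (har : Col V a r) : w0 V a r ≤ ws V a := by
  refine (closure_le _).mpr ?_
  rintro x ((rfl | rfl) | hx)
  · exact h.fr.mem_ws_self har.left
  · exact h.fr.mem_ws_of_col har
  · exact h.fr.mem_ws_of_col hx.2.1

/-- `W_a⁰` does not depend on the point of the component -/
theorem w0_eq (h : Hy T V z) (hj : Jn V a r x) : w0 V a r = w0 V a x := by
  have ht := h.toTyN
  have key : ∀ r x, Jn V a r x → w0 V a r ≤ w0 V a x := by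
    intro r x hj
    refine (closure_le _).mpr ?_
    rintro y ((rfl | rfl) | hy)
    · exact a_mem_w0
    · exact jn_mem_w0 (h.j1 _ _ _ hj)
    · by_cases h1 : y = x
      · rw [h1]; exact r_mem_w0
      by_cases h2 : y = x * a
      · rw [h2]; exact mul_mem r_mem_w0 a_mem_w0
      exact jn_mem_w0 (h.j2 _ _ _ _ (h.j1 _ _ _ hj) hy h1 h2)
  exact le_antisymm (key _ _ hj) (key _ _ (h.j1 _ _ _ hj))

theorem w0_shift (h : Hy T V z) (har : Col V a r) (hne : r ≠ a) : w0 V a (r * a) = w0 V a r := by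
  have ht := h.toTyN
  have key : ∀ r, Col V a r → w0 V a (r * a) ≤ w0 V a r := by
    intro r har
    refine (closure_le _).mpr ?_
    rintro y ((rfl | rfl) | hy)
    · exact a_mem_w0
    · exact mul_mem r_mem_w0 a_mem_w0
    · exact jn_mem_w0 (Jn.unshift_left ht har hy)
  refine le_antisymm (key r har) ?_
  have := key (r * a) (col_mul_r h.fr har hne)
  rwa [mul_mul_cancel_pt ht har] at this

/-- `W_a = W_a⁰ C_{W_a}(U_r)` -/
theorem ws_eq (h : Hy T V z) (har : Col V a r) {w : G} (hw : w ∈ ws V a) :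
    ∃ w' ∈ w0 V a r, ∃ s ∈ ws V a, (∀ u ∈ uu V r, u * s = s * u) ∧ w = w' * s := by
  have ht := h.toTyN
  let A : Subgroup G :=
    { carrier := {w | ∃ w' ∈ w0 V a r, ∃ s ∈ ws V a, (∀ u ∈ uu V r, u * s = s * u) ∧ w = w' * s}
      mul_mem' := by
        rintro _ _ ⟨w', hw', s, hs, hsu, rfl⟩ ⟨w'', hw'', s', hs', hsu', rfl⟩
        refine ⟨w' * w'', mul_mem hw' hw'', s * s', mul_mem hs hs', fun u hu => comm_mul_of (hsu u hu) (hsu' u hu), ?_⟩
        have := comm_ws ht har.left hs (h.w0_le har hw'')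
        calc w' * s * (w'' * s') = w' * (s * w'') * s' := by group
          _ = w' * w'' * (s * s') := by rw [this]; group
      one_mem' := ⟨1, one_mem _, 1, one_mem _, fun u _ => by simp, by simp⟩
      inv_mem' := by
        rintro _ ⟨w', hw', s, hs, hsu, rfl⟩
        refine ⟨w'⁻¹, inv_mem hw', s⁻¹, inv_mem hs, fun u hu => comm_inv_of (hsu u hu), ?_⟩
        have := comm_ws ht har.left (inv_mem hs) (inv_mem (h.w0_le har hw'))
        calc (w' * s)⁻¹ = s⁻¹ * w'⁻¹ := by group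
          _ = w'⁻¹ * s⁻¹ := this }
  have hA : ws V a ≤ A := by
    refine ws_le fun L hL => ?_
    obtain ⟨⟨g, rfl⟩, ha⟩ := hL
    intro x hx
    by_cases h1 : x = 1
    · rw [h1]; exact A.one_mem
    have hcol : Col V a x := ⟨g, ha, hx, har.ne_one, h1⟩
    by_cases hj : Jn V a r x
    · exact ⟨x, jn_mem_w0 hj, 1, one_mem _, fun u _ => by simp, by simp⟩
    · exact ⟨1, one_mem _, x, h.fr.mem_ws_of_col hcol,
        fun u hu => cent_of_not_jn ht har.symm hcol hj hu, by simp⟩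
  exact hA hw

end Hy

end Cfsg.Agent.Omega.NO3S.TypeN

end

section


/-!
# NO-3S, `|V| = 4`, `n = 2`, TYPE N: case (A1) (helper60, bb #16001, sections 5, 6)

`HyA` : `Hy`, and all joined pairs are critical.

* `HyA.exists_two` : dihedral: `W_a⁰ / C(W_b)` has order at least 4;
* `HyA.card_le` : `|W_a⁰| ≤ 16`; `HyA.cent_w0` : `C_{W_a⁰}(W_b) = ⟨a, r⟩`;
* `HyA.exists_elt` : the element `w₀`;
* `HyA.false`, `a1`.
-/

set_option autoImplicit false
set_option linter.unusedSectionVars false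

namespace Cfsg.Agent.Omega.NO3S.TypeN

open Subgroup Cfsg Cfsg.Agent.ZN Cfsg.Agent.MinSimple.Geo Cfsg.Agent.Omega.CaseL Cfsg.Agent.Omega.NO3S.TwoOne
  Cfsg.Agent.Omega.NO3S.Pt Cfsg.Agent.Omega.NO3S.TwoMid
open Cfsg.Agent.ZN.Block (conj_mem_of_normalizer conj_mem_of_normalizer' le_normalizer_of_forall
  mem_normalizer_of)

universe u

variable {G : Type u} [Group G] {T V : Subgroup G} {z : G} {a b c e p r x y : G}

/-! ### counting -/

theorem card_sub {A B : Subgroup G} (hBA : B ≤ A) : Nat.card A = Nat.card (A ⧸ B.subgroupOf A) * Nat.card B := by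
  have h1 := Subgroup.card_eq_card_quotient_mul_card_subgroup (B.subgroupOf A)
  rw [h1, Nat.card_congr (Subgroup.subgroupOfEquivOfLe hBA).toEquiv]

theorem card_le_mul [Finite G] {ι : Type*} {A B : Subgroup G} (hBA : B ≤ A) (f : G → ι) (S : Finset ι)
    (hf : ∀ x ∈ A, f x ∈ S) (hinj : ∀ x ∈ A, ∀ y ∈ A, f x = f y → x⁻¹ * y ∈ B) :
    Nat.card A ≤ S.card * Nat.card B := by
  classical
  rw [card_sub hBA]
  refine Nat.mul_le_mul_right _ ?_
  have h1 : Nat.card {x // x ∈ S} = S.card := by simp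
  rw [← h1]
  refine Nat.card_le_card_of_injective (fun q : A ⧸ B.subgroupOf A => (⟨f (q.out : G), hf _ q.out.2⟩ : {x // x ∈ S})) ?_
  intro q q' e
  have h2 := hinj _ q.out.2 _ q'.out.2 (congrArg Subtype.val e)
  rw [← QuotientGroup.out_eq' q, ← QuotientGroup.out_eq' q', QuotientGroup.eq]
  exact mem_subgroupOf.mpr h2

theorem card_mul_le [Finite G] {A H : Subgroup G} (hHA : H ≤ A) (S : Finset G) (hS : ∀ x ∈ S, x ∈ A)
    (hinj : ∀ x ∈ S, ∀ y ∈ S, x⁻¹ * y ∈ H → x = y) : S.card * Nat.card H ≤ Nat.card A := by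
  classical
  rw [card_sub hHA]
  refine Nat.mul_le_mul_right _ ?_
  have h1 : Nat.card {x // x ∈ S} = S.card := by simp
  rw [← h1]
  refine Nat.card_le_card_of_injective (fun s : {x // x ∈ S} => ((⟨s, hS s s.2⟩ : A) : A ⧸ H.subgroupOf A)) ?_
  rintro ⟨s, hs⟩ ⟨t, ht⟩ e
  have h2 := QuotientGroup.eq.mp e
  exact Subtype.ext (hinj s hs t ht (mem_subgroupOf.mp h2))

/-- all joined pairs are critical -/
structure HyA (T V : Subgroup G) (z : G) : Prop extends Hy T V z where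
  cr : ∀ r a b, Jn V r a b → Mid T V z a r b

namespace HyA

variable [Finite G]

/-- dihedral: for `a`, `b` joined at `r` some `g` with `a^g = b`, `b^g = a`, `y` commutes with `g y g⁻¹` -/
theorem dih (h : HyA T V z) (hj : Jn V r a b) : ∃ g, g * a * g⁻¹ = b ∧ g * b * g⁻¹ = a ∧
    ∀ y ∈ ws V a, y * (g * y * g⁻¹) = (g * y * g⁻¹) * y := by
  have ht := h.toTyN
  have hr := hj.1.right
  have har := h.fr.mem_ws_of_col hj.1.symm
  have hbr := h.fr.mem_ws_of_col hj.2.1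
  have haa : a * a = 1 := sq_pt ht hj.1
  have hbb : b * b = 1 := sq_pt ht hj.2.1.symm
  have cab : a * b = b * a := comm_ws ht hr har hbr
  have he : Jn V r (a * b) a := h.j1 _ _ _ (hj.self_mul ht)
  obtain ⟨-, -, g, hg, hga⟩ := id he
  have hga' : g * a * g⁻¹ = b := by
    rw [hga, cab, mul_assoc, haa, mul_one]
  have hge : g * (a * b) * g⁻¹ = a * b := conj_eq_of_comm (uu_comm_ws ht hg (h.fr.mem_ws_self he.1.left))
  have hgb : g * b * g⁻¹ = a := by
    have e1 : g * (a * b) * g⁻¹ = (g * a * g⁻¹) * (g * b * g⁻¹) := by group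
    rw [e1, hga', cab] at hge
    exact mul_left_cancel hge
  refine ⟨g, hga', hgb, fun y hy => ?_⟩
  have h1 := h.dihedral (a := a) (r := r) (p := a * b) hj.1 he.1.symm ?_ hg hy
  · have hyy : y⁻¹ = y := inv_eq_self (sq_ws ht hj.1.left hy)
    have e2 : g * y * g⁻¹ = (y * g * y⁻¹ * g⁻¹)⁻¹ * y := by
      calc g * y * g⁻¹ = g * y⁻¹⁻¹ * g⁻¹ := by rw [inv_inv]
        _ = g * y⁻¹ * g⁻¹ := by rw [inv_inv, hyy]
        _ = (y * g * y⁻¹ * g⁻¹)⁻¹ * y := by
          have : (y * g * y⁻¹ * g⁻¹)⁻¹ * y = g * y * g⁻¹ * (y⁻¹ * y) := by group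
          rw [this, inv_mul_cancel, mul_one, hyy]
    rw [e2]
    have h2 : y * (y * g * y⁻¹ * g⁻¹)⁻¹ = (y * g * y⁻¹ * g⁻¹)⁻¹ * y := comm_inv_of h1
    calc y * ((y * g * y⁻¹ * g⁻¹)⁻¹ * y) = (y * (y * g * y⁻¹ * g⁻¹)⁻¹) * y := by group
      _ = (y * g * y⁻¹ * g⁻¹)⁻¹ * y * y := by rw [h2]
  · intro e'
    exact (he.ne_left ht) e'

/-- `W_a⁰ / C(W_b)` has order at least 4 -/
theorem exists_two (h : HyA T V z) (hj : Jn V r a b) : ∃ y₁ ∈ w0 V a r, ∃ y₂ ∈ w0 V a r,
    y₁ ∉ centralizer (ws V b : Set G) ∧ y₂ ∉ centralizer (ws V b : Set G) ∧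
      y₁ * y₂ ∉ centralizer (ws V b : Set G) := by
  have ht := h.toTyN
  have hm := h.cr _ _ _ hj
  obtain ⟨g, hga, hgb, hgy⟩ := h.dih hj
  have hga' : ∀ x ∈ ws V a, g * x * g⁻¹ ∈ ws V b := fun x hx => by
    have := conj_mem_ws g hx; rwa [hga] at this
  have hgb' : ∀ x ∈ ws V b, g⁻¹ * x * g ∈ ws V a := fun x hx => by
    have h1 := conj_mem_ws g⁻¹ hx
    have e : g⁻¹ * b * g⁻¹⁻¹ = a := by rw [← hga]; group
    rwa [e, inv_inv] at h1
  have hgb'' : ∀ x ∈ ws V a, g⁻¹ * x * g ∈ ws V b := fun x hx => by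
    have h1 := conj_mem_ws g⁻¹ hx
    have e : g⁻¹ * a * g⁻¹⁻¹ = b := by
      calc g⁻¹ * a * g⁻¹⁻¹ = g⁻¹ * (g * b * g⁻¹) * g⁻¹⁻¹ := by rw [hgb]
        _ = b := by group
    rwa [e, inv_inv] at h1
  -- some `y ∈ W_a⁰` does not centralise `W_b`
  obtain ⟨y, hy, hyn⟩ : ∃ y ∈ ws V a, y ∉ centralizer (ws V b : Set G) := by
    by_contra hcon
    push Not at hcon
    exact hm.ne fun x hx w hw => (mem_centralizer_iff.mp (hcon x hx) w hw).symm
  have step : ∃ x ∈ ws V a, x ∉ centralizer (ws V b : Set G) ∧ y * x ∉ centralizer (ws V b : Set G) := by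
    by_contra hcon
    push Not at hcon
    apply hyn
    rw [mem_centralizer_iff]
    intro x' hx'
    have hx := hgb' x' hx'
    set x := g⁻¹ * x' * g with hxd
    have ex : x' = g * x * g⁻¹ := by rw [hxd]; group
    -- `x` in the centraliser: then `g x g⁻¹ ∈ C(W_a)`
    have key : ∀ x ∈ ws V a, x ∈ centralizer (ws V b : Set G) → y * (g * x * g⁻¹) = (g * x * g⁻¹) * y := by
      intro x hx hxc
      have h1 := mem_centralizer_iff.mp hxc _ (hgb'' y hy)
      calc y * (g * x * g⁻¹) = g * ((g⁻¹ * y * g) * x) * g⁻¹ := by group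
        _ = g * (x * (g⁻¹ * y * g)) * g⁻¹ := by rw [h1]
        _ = (g * x * g⁻¹) * y := by group
    by_cases hxc : x ∈ centralizer (ws V b : Set G)
    · rw [ex]; exact (key x hx hxc).symm
    · have h1 := key (y * x) (mul_mem hy hx) (hcon x hx hxc)
      have h2 := hgy y hy
      have e1 : g * x * g⁻¹ = (g * y * g⁻¹)⁻¹ * (g * (y * x) * g⁻¹) := by group
      rw [ex, e1]
      exact (comm_mul_of (comm_inv_of h2) h1).symm
  obtain ⟨x, hx, hxn, hyxn⟩ := step
  -- pass to `W_a⁰`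
  obtain ⟨y1, hy1, s1, hs1, hs1u, rfl⟩ := h.ws_eq hj.1 hy
  obtain ⟨y2, hy2, s2, hs2, hs2u, rfl⟩ := h.ws_eq hj.1 hx
  have hbu : ∀ x ∈ ws V b, x ∈ uu V r := fun x hx => ws_le_uu hj.2.1 hx
  have hc1 : s1 ∈ centralizer (ws V b : Set G) := mem_centralizer_iff.mpr fun x hx => hs1u x (hbu x hx)
  have hc2 : s2 ∈ centralizer (ws V b : Set G) := mem_centralizer_iff.mpr fun x hx => hs2u x (hbu x hx)
  refine ⟨y1, hy1, y2, hy2, fun e => hyn (mul_mem e hc1), fun e => hxn (mul_mem e hc2), fun e => hyxn ?_⟩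
  have e1 : y1 * s1 * (y2 * s2) = y1 * y2 * (s1 * s2) := by
    have := comm_ws ht hj.1.left hs1 (h.w0_le hj.1 hy2)
    calc y1 * s1 * (y2 * s2) = y1 * (s1 * y2) * s2 := by group
      _ = y1 * y2 * (s1 * s2) := by rw [this]; group
  rw [e1]
  exact mul_mem e (mul_mem hc1 hc2)

/-- a point where two functionals differ -/
theorem exists_pt (_ : HyA T V z) (hpr : Col V p r) {w w' : G}
    (hne : ∃ y ∈ ws V r, w * y * w⁻¹ ≠ w' * y * w'⁻¹) : ∃ a, Col V r a ∧ w * a * w⁻¹ ≠ w' * a * w'⁻¹ := by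
  obtain ⟨y, hy, hne⟩ := hne
  by_contra hcon
  push Not at hcon
  let A : Subgroup G :=
    { carrier := {g | w * g * w⁻¹ = w' * g * w'⁻¹}
      mul_mem' := by
        intro g g' hg hg'
        simp only [Set.mem_ofPred_eq] at hg hg' ⊢
        calc w * (g * g') * w⁻¹ = (w * g * w⁻¹) * (w * g' * w⁻¹) := by group
          _ = (w' * g * w'⁻¹) * (w' * g' * w'⁻¹) := by rw [hg, hg']
          _ = w' * (g * g') * w'⁻¹ := by group
      one_mem' := by simp
      inv_mem' := by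
        intro g hg
        simp only [Set.mem_ofPred_eq] at hg ⊢
        calc w * g⁻¹ * w⁻¹ = (w * g * w⁻¹)⁻¹ := by group
          _ = (w' * g * w'⁻¹)⁻¹ := by rw [hg]
          _ = w' * g⁻¹ * w'⁻¹ := by group }
  have hA : ws V r ≤ A := by
    refine ws_le fun L hL => ?_
    obtain ⟨⟨g, rfl⟩, hr⟩ := hL
    intro g' hg'
    by_cases h5 : g' = 1
    · rw [h5]; exact A.one_mem
    · exact hcon g' ⟨g, hr, hg', hpr.symm.ne_one, h5⟩
  exact hne (hA hy)

/-- the configuration `c ~ p ~ r ~ a`, `w, w₀ ∈ W_c⁰` -/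
structure Cfg (T V : Subgroup G) (z c p r a w v x : G) : Prop where
  cr : Jn V p r c
  pa : Jn V r p a
  hw : w ∈ w0 V c p
  hv : v ∈ w0 V c p
  hx : x ∈ ws V r
  wa : w * a * w⁻¹ = p * a
  va : v * a = a * v
  vx : v * x * v⁻¹ = p * x

theorem exists_cfg (h : HyA T V z) (hj : Jn V r a b) : ∃ c p r a w v x, Cfg T V z c p r a w v x := by
  have ht := h.toTyN
  -- rename: the pair `(c, r)` joined at `p`
  have hj' := h.j1 _ _ _ hj
  obtain ⟨y1, hy1, y2, hy2, hn1, hn2, hn3⟩ := h.exists_two hj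
  have hu1 : y1 ∈ uu V r := ws_le_uu hj.1.symm (h.w0_le hj.1 hy1)
  have hu2 : y2 ∈ uu V r := ws_le_uu hj.1.symm (h.w0_le hj.1 hy2)
  have hact : ∀ g ∈ uu V r, ∀ y ∈ ws V b, g * y * g⁻¹ = y ∨ g * y * g⁻¹ = r * y :=
    fun g hg y hy => act ht hj.2.1 hg hy
  have hmv : ∀ g, g ∉ centralizer (ws V b : Set G) → ∃ x ∈ ws V b, g * x * g⁻¹ ≠ x := by
    intro g hg
    by_contra hcon
    push Not at hcon
    exact hg (mem_centralizer_iff.mpr fun x hx => (comm_of_conj_eq (hcon x hx)).symm)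
  have hdiff : ∃ y ∈ ws V b, y1 * y * y1⁻¹ ≠ y2 * y * y2⁻¹ := by
    by_contra hcon
    push Not at hcon
    apply hn3
    rw [mem_centralizer_iff]
    intro x hx
    have hr' : y1 * r * y1⁻¹ = r := conj_eq_of_comm (uu_comm_ws ht hu1 (h.fr.mem_ws_self hj.1.right))
    have hrr : r * r = 1 := sq_pt ht hj.2.1
    have hrb := h.fr.mem_ws_of_col hj.2.1.symm
    have e : y1 * y2 * x * (y1 * y2)⁻¹ = x := by
      calc y1 * y2 * x * (y1 * y2)⁻¹ = y1 * (y2 * x * y2⁻¹) * y1⁻¹ := by group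
        _ = x := by
          rw [← hcon x hx]
          rcases hact y1 hu1 x hx with e1 | e1
          · rw [e1, e1]
          · rw [e1]
            calc y1 * (r * x) * y1⁻¹ = (y1 * r * y1⁻¹) * (y1 * x * y1⁻¹) := by group
              _ = (r * r) * x := by rw [hr', e1, mul_assoc]
              _ = x := by rw [hrr, one_mul]
    exact (comm_of_conj_eq e).symm
  obtain ⟨q, hq, hqne⟩ := h.exists_pt hj.2.1 hdiff
  have hqw := h.fr.mem_ws_of_col hq
  obtain ⟨x1, hx1, hx1n⟩ := hmv y1 hn1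
  obtain ⟨x2, hx2, hx2n⟩ := hmv y2 hn2
  rcases hact y1 hu1 q hqw with e1 | e1 <;> rcases hact y2 hu2 q hqw with e2 | e2
  · exact absurd (e1.trans e2.symm) hqne
  · exact ⟨a, r, b, q, y2, y1, x1, hj', ⟨hj.2.1, hq, y2, hu2, e2⟩, hy2, hy1, hx1, e2, comm_of_conj_eq e1,
      (hact y1 hu1 x1 hx1).resolve_left hx1n⟩
  · exact ⟨a, r, b, q, y1, y2, x2, hj', ⟨hj.2.1, hq, y1, hu1, e1⟩, hy1, hy2, hx2, e1, comm_of_conj_eq e2,
      (hact y2 hu2 x2 hx2).resolve_left hx2n⟩
  · exact absurd (e1.trans e2.symm) hqne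

section cfg

variable {w v : G}

theorem Cfg.w_mem (h : HyA T V z) (k : Cfg T V z c p r a w v x) : w ∈ uu V p :=
  ws_le_uu k.cr.2.1 (h.w0_le k.cr.2.1.symm k.hw)

theorem Cfg.v_mem (h : HyA T V z) (k : Cfg T V z c p r a w v x) : v ∈ uu V p :=
  ws_le_uu k.cr.2.1 (h.w0_le k.cr.2.1.symm k.hv)

/-- (5.1) `W_c⁰ ∩ U_r ≤ ⟨c, p⟩` -/
theorem inf_uu (h : HyA T V z) (hj : Jn V p r c) {x : G} (hx : x ∈ w0 V c p) (hxu : x ∈ uu V r) :
    x = 1 ∨ x = c ∨ x = p ∨ x = p * c := by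
  have ht := h.toTyN
  obtain ⟨hrp, hpc, t, htu, htc⟩ := id hj
  have hrr : r * r = 1 := sq_pt ht hrp
  have hcc : c * c = 1 := sq_pt ht hpc.symm
  have hpp : p * p = 1 := sq_pt ht hpc
  have htp : t * p * t⁻¹ = p := conj_eq_of_comm (uu_comm_ws ht htu (h.fr.mem_ws_of_col hrp))
  have htr : t * r * t⁻¹ = r := conj_eq_of_comm (uu_comm_ws ht htu (h.fr.mem_ws_self hrp.left))
  have hcp : c * p = p * c := comm_ws ht hpc.left (h.fr.mem_ws_of_col hpc) (h.fr.mem_ws_self hpc.left)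
  have hrc : r * c = c * r := comm_ws ht hpc.left (h.fr.mem_ws_of_col hrp.symm) (h.fr.mem_ws_of_col hpc)
  have hne : r ≠ 1 := hrp.ne_one
  -- an element commuting with `t`
  have key : ∀ x ∈ w0 V c p, t * x * t⁻¹ = x → x = 1 ∨ x = p := by
    intro x hx htx
    have hx' : x ∈ w0 V (r * c) p := by
      have := conj_mem_w0 t hx
      rwa [htx, htc, htp] at this
    have hcrc : Jn V p c (r * c) := h.mul_self' hj
    have hcol : Col V (r * c) p := hcrc.2.1.symm
    rcases h.mem_w0 hpc.symm hx with e | e | e | e | e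
    · exact Or.inl e
    · exfalso
      rw [e, htc] at htx
      exact hne (by simpa using htx)
    · exact Or.inr e
    · exfalso
      rw [e] at htx
      have : t * (p * c) * t⁻¹ = p * (r * c) := by
        calc t * (p * c) * t⁻¹ = (t * p * t⁻¹) * (t * c * t⁻¹) := by group
          _ = p * (r * c) := by rw [htp, htc]
      rw [this] at htx
      have := mul_left_cancel htx
      exact hne (by simpa using this)
    · rcases h.mem_w0 hcol hx' with e' | e' | e' | e' | e'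
      · exact Or.inl e'
      · exfalso
        rw [e'] at htx
        have : t * (r * c) * t⁻¹ = c := by
          calc t * (r * c) * t⁻¹ = (t * r * t⁻¹) * (t * c * t⁻¹) := by group
            _ = (r * r) * c := by rw [htr, htc, mul_assoc]
            _ = c := by rw [hrr, one_mul]
        rw [this] at htx
        exact hne (by simpa using htx.symm)
      · exact Or.inr e'
      · exfalso
        rw [e'] at htx
        have : t * (p * (r * c)) * t⁻¹ = p * c := by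
          calc t * (p * (r * c)) * t⁻¹ = (t * p * t⁻¹) * ((t * r * t⁻¹) * (t * c * t⁻¹)) := by group
            _ = p * ((r * r) * c) := by rw [htp, htr, htc]; group
            _ = p * c := by rw [hrr, one_mul]
        rw [this] at htx
        have := mul_left_cancel htx
        exact hne (by simpa using this.symm)
      · -- `x` is a common neighbour of `c` and `r c`
        exfalso
        have hm := h.cr _ _ _ hcrc
        have hm' : Mid T V z c x (r * c) :=
          { h.toTwo with pr := e.2.1, rq := e'.2.1.symm, ne := hm.ne }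
        have := middle ht hm hm'
        exact (e.ne ht) this
  have hxcom : t * x * t⁻¹ * x⁻¹ ∈ zpowers r := h.uu_comm htu hxu
  rcases (mem_zpowers_iff_of_mul_self hrr).mp hxcom with e | e
  · have e1 : t * x * t⁻¹ = x := by
      calc t * x * t⁻¹ = (t * x * t⁻¹ * x⁻¹) * x := by group
        _ = x := by rw [e, one_mul]
    rcases key x hx e1 with e2 | e2
    · exact Or.inl e2
    · exact Or.inr (Or.inr (Or.inl e2))
  · have e1 : t * x * t⁻¹ = r * x := by
      calc t * x * t⁻¹ = (t * x * t⁻¹ * x⁻¹) * x := by group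
        _ = r * x := by rw [e]
    have hrx : r * x = x * r := by
      have := h.uu_le_cr r hxu
      exact (mem_centralizer_singleton_iff.mp this).symm
    have e2 : t * (x * c) * t⁻¹ = x * c := by
      calc t * (x * c) * t⁻¹ = (t * x * t⁻¹) * (t * c * t⁻¹) := by group
        _ = (r * x) * (r * c) := by rw [e1, htc]
        _ = (x * r) * (r * c) := by rw [hrx]
        _ = x * (r * r) * c := by group
        _ = x * c := by rw [hrr, mul_one]
    have e3 : x = (x * c) * c := by rw [mul_assoc, hcc, mul_one]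
    rcases key (x * c) (mul_mem hx a_mem_w0) e2 with e4 | e4
    · right; left
      rw [e3, e4, one_mul]
    · right; right; right
      rw [e3, e4]

/-- (5.2) the kernel: an element of `W_a⁰` centralised by `w` -/
theorem fix_w (h : HyA T V z) (k : Cfg T V z c p r a w v x) {y : G} (hy : y ∈ w0 V a r) (hyw : w * y * w⁻¹ = y) :
    y = 1 ∨ y = r := by
  have ht := h.toTyN
  have hwp := k.w_mem h
  have hcol : Col V a r := k.pa.2.1.symm
  have hj := h.mul_self' k.pa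
  have hwr : w * r * w⁻¹ = r := conj_eq_of_comm (uu_comm_ws ht hwp (h.fr.mem_ws_of_col k.pa.1))
  have hwpp : w * p * w⁻¹ = p := conj_eq_of_comm (uu_comm_ws ht hwp (h.fr.mem_ws_self k.pa.1.left))
  have hp1 : p ≠ 1 := k.pa.1.ne_one
  have hpp : p * p = 1 := sq_pt ht k.pa.1
  have hy' : y ∈ w0 V (p * a) r := by
    have := conj_mem_w0 w hy
    rwa [hyw, k.wa, hwr] at this
  rcases h.mem_w0 hcol hy with e | e | e | e | e
  · exact Or.inl e
  · exfalso
    rw [e, k.wa] at hyw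
    exact hp1 (by simpa using hyw)
  · exact Or.inr e
  · exfalso
    rw [e] at hyw
    have : w * (r * a) * w⁻¹ = r * (p * a) := by
      calc w * (r * a) * w⁻¹ = (w * r * w⁻¹) * (w * a * w⁻¹) := by group
        _ = r * (p * a) := by rw [hwr, k.wa]
    rw [this] at hyw
    have := mul_left_cancel hyw
    exact hp1 (by simpa using this)
  · rcases h.mem_w0 hj.2.1.symm hy' with e' | e' | e' | e' | e'
    · exact Or.inl e'
    · exfalso
      rw [e'] at hyw
      have : w * (p * a) * w⁻¹ = a := by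
        calc w * (p * a) * w⁻¹ = (w * p * w⁻¹) * (w * a * w⁻¹) := by group
          _ = (p * p) * a := by rw [hwpp, k.wa, mul_assoc]
          _ = a := by rw [hpp, one_mul]
      rw [this] at hyw
      exact hp1 (by simpa using hyw.symm)
    · exact Or.inr e'
    · exfalso
      rw [e'] at hyw
      have : w * (r * (p * a)) * w⁻¹ = r * a := by
        calc w * (r * (p * a)) * w⁻¹ = (w * r * w⁻¹) * ((w * p * w⁻¹) * (w * a * w⁻¹)) := by group
          _ = r * ((p * p) * a) := by rw [hwr, hwpp, k.wa]; group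
          _ = r * a := by rw [hpp, one_mul]
      rw [this] at hyw
      have := mul_left_cancel hyw
      exact hp1 (by simpa using this.symm)
    · exfalso
      have hm := h.cr _ _ _ hj
      have hm' : Mid T V z a y (p * a) :=
        { h.toTwo with pr := e.2.1, rq := e'.2.1.symm, ne := hm.ne }
      have := middle ht hm hm'
      exact (e.ne ht) this

/-- `|W_a⁰| ≤ 16` for the configuration -/
theorem Cfg.card_le (h : HyA T V z) (k : Cfg T V z c p r a w v x) : Nat.card (w0 V a r) ≤ 16 := by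
  classical
  have ht := h.toTyN
  have hcolar : Col V a r := k.pa.2.1.symm
  have hcolpc : Col V p c := k.cr.2.1
  have hcolrp : Col V r p := k.cr.1
  have hrr : r * r = 1 := sq_pt ht hcolrp
  have hcc : c * c = 1 := sq_pt ht hcolpc.symm
  have hBu : ∀ y ∈ w0 V a r, y ∈ uu V r := fun y hy => ws_le_uu hcolar.symm (h.w0_le hcolar hy)
  -- first step: `C_{W_a⁰}(c)`
  set Y : Subgroup G := w0 V a r ⊓ centralizer ({c} : Set G) with hY
  have hYle : Y ≤ w0 V a r := inf_le_left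
  have h1 : Nat.card (w0 V a r) ≤ ({c, r * c} : Finset G).card * Nat.card Y := by
    refine card_le_mul hYle (fun y => y⁻¹ * c * y) {c, r * c} ?_ ?_
    · intro y hy
      have := act_crit ht hcolrp hcolpc (inv_mem (hBu y hy))
      rw [inv_inv] at this
      rcases this with e | e <;> simp [e]
    · intro y hy y' hy' e
      refine mem_inf.mpr ⟨mul_mem (inv_mem hy) hy', ?_⟩
      rw [mem_centralizer_singleton_iff]
      have hyy : y⁻¹ = y := inv_eq_self (sq_ws ht hcolar.left (h.w0_le hcolar hy))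
      have hyy' : y'⁻¹ = y' := inv_eq_self (sq_ws ht hcolar.left (h.w0_le hcolar hy'))
      -- `y c y = y' c y'`
      have e0 : y * c * y = y' * c * y' := by
        have : y⁻¹ * c * y = y'⁻¹ * c * y' := e
        rwa [hyy, hyy'] at this
      calc y⁻¹ * y' * c = y⁻¹ * (y' * c * y') * y'⁻¹ := by group
        _ = y⁻¹ * (y * c * y) * y'⁻¹ := by rw [e0]
        _ = c * (y * y'⁻¹) := by group
        _ = c * (y⁻¹ * y') := by rw [hyy, hyy']
  have h2 : ({c, r * c} : Finset G).card ≤ 2 := Finset.card_le_two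
  -- second step: the kernel
  set K : Subgroup G := zpowers r with hK
  have hcK : Nat.card K = 2 := by
    rw [hK, Nat.card_zpowers]
    exact orderOf_eq_prime (by rw [pow_two, hrr]) hcolrp.ne_one
  have hKY : K ≤ Y := by
    rw [hK, zpowers_le, hY]
    refine mem_inf.mpr ⟨r_mem_w0, mem_centralizer_singleton_iff.mpr ?_⟩
    exact comm_ws ht hcolpc.left (h.fr.mem_ws_of_col hcolrp.symm) (h.fr.mem_ws_of_col hcolpc)
  have hYc : ∀ y ∈ Y, y * c = c * y := fun y hy => mem_centralizer_singleton_iff.mp (mem_inf.mp hy).2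
  have hYp : ∀ y ∈ Y, y * p = p * y := fun y hy =>
    uu_comm_ws ht (hBu y (mem_inf.mp hy).1) (h.fr.mem_ws_of_col hcolrp)
  have hd : ∀ y ∈ Y, y * w * y⁻¹ * w⁻¹ ∈ ({1, c, p, p * c} : Finset G) := by
    intro y hy
    have h3 : y * w * y⁻¹ * w⁻¹ ∈ w0 V c p :=
      mul_mem (conj_mem_w0' (hYc y hy) (hYp y hy) k.hw) (inv_mem k.hw)
    have h4 : y * w * y⁻¹ * w⁻¹ ∈ uu V r :=
      comm_mem_uu ht hcolpc.symm hcolrp.symm (hBu y (mem_inf.mp hy).1) (h.w0_le hcolpc.symm k.hw)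
    rcases h.inf_uu k.cr h3 h4 with e | e | e | e <;> simp [e]
  have h5 : Nat.card Y ≤ ({1, c, p, p * c} : Finset G).card * Nat.card K := by
    refine card_le_mul hKY (fun y => y * w * y⁻¹ * w⁻¹) {1, c, p, p * c} hd ?_
    intro y hy y' hy' e
    have e1 : y * w * y⁻¹ = y' * w * y'⁻¹ := mul_right_cancel e
    have e2 : (y⁻¹ * y') * w = w * (y⁻¹ * y') := by
      calc (y⁻¹ * y') * w = y⁻¹ * (y' * w * y'⁻¹) * y' := by group
        _ = y⁻¹ * (y * w * y⁻¹) * y' := by rw [e1]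
        _ = w * (y⁻¹ * y') := by group
    have e3 : y⁻¹ * y' ∈ w0 V a r := mul_mem (inv_mem (mem_inf.mp hy).1) (mem_inf.mp hy').1
    rcases h.fix_w k e3 (conj_eq_of_comm e2.symm) with e4 | e4 <;> rw [e4]
    · exact one_mem _
    · exact mem_zpowers r
  have h6 : ({1, c, p, p * c} : Finset G).card ≤ 4 := Finset.card_le_four
  calc Nat.card (w0 V a r) ≤ ({c, r * c} : Finset G).card * Nat.card Y := h1
    _ ≤ 2 * (4 * 2) := by
      refine Nat.mul_le_mul h2 (h5.trans ?_)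
      rw [hcK]
      exact Nat.mul_le_mul_right _ h6
    _ = 16 := by norm_num

end cfg

/-- `|W_a⁰| ≤ 16` -/
theorem card_le (h : HyA T V z) (hj : Jn V r a b) : Nat.card (w0 V a r) ≤ 16 := by
  obtain ⟨c, p, r', a', w, v, x, k⟩ := h.exists_cfg hj
  obtain ⟨g, h1, h2, -⟩ := h.triple_trans (h.j1 _ _ _ k.pa) hj
  have h3 := k.card_le h
  have e : w0 V a r = cj g (w0 V a' r') := by rw [cj_w0, h1, h2]
  rw [e, card_cj]
  exact h3

end HyA

end Cfsg.Agent.Omega.NO3S.TypeN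

end

section


/-!
# NO-3S, `|V| = 4`, `n = 2`, TYPE N: case (A1), the end (helper60, bb #16001, section 6, with helper864's shortcut)

* `HyA.cent_w0` : `C_{W_a⁰}(W_b) = ⟨a, r⟩`;
* `HyA.exists_elt` : the element `v`, trivial on `Q_a` and `Q_{ar}`, nontrivial on `W_r⁰`;
* `HyA.contra`, `a1`.
-/

set_option autoImplicit false
set_option linter.unusedSectionVars false

namespace Cfsg.Agent.Omega.NO3S.TypeN

open Subgroup Cfsg Cfsg.Agent.ZN Cfsg.Agent.MinSimple.Geo Cfsg.Agent.Omega.CaseL Cfsg.Agent.Omega.NO3S.TwoOne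
  Cfsg.Agent.Omega.NO3S.Pt Cfsg.Agent.Omega.NO3S.TwoMid
open Cfsg.Agent.ZN.Block (conj_mem_of_normalizer conj_mem_of_normalizer' le_normalizer_of_forall
  mem_normalizer_of)

universe u

variable {G : Type u} [Group G] {T V : Subgroup G} {z : G} {a b c e p r x y : G}

theorem card_mul_le' [Finite G] {A H : Subgroup G} (hHA : H ≤ A) {ι : Type} [Fintype ι] (f : ι → G)
    (hf : ∀ i, f i ∈ A) (hinj : ∀ i j, (f i)⁻¹ * f j ∈ H → i = j) : Fintype.card ι * Nat.card H ≤ Nat.card A := by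
  rw [card_sub hHA]
  refine Nat.mul_le_mul_right _ ?_
  rw [← Nat.card_eq_fintype_card]
  refine Nat.card_le_card_of_injective (fun i => ((⟨f i, hf i⟩ : A) : A ⧸ H.subgroupOf A)) ?_
  intro i j e
  have h2 := QuotientGroup.eq.mp e
  exact hinj i j (mem_subgroupOf.mp h2)

/-- four cosets -/
theorem four_mul_le [Finite G] {A H : Subgroup G} (hHA : H ≤ A) {y₁ y₂ : G} (h1 : y₁ ∈ A) (h2 : y₂ ∈ A)
    (s1 : y₁ * y₁ = 1) (hc : y₁ * y₂ = y₂ * y₁) (s2 : y₂ * y₂ = 1) (n1 : y₁ ∉ H) (n2 : y₂ ∉ H) (n3 : y₁ * y₂ ∉ H) :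
    4 * Nat.card H ≤ Nat.card A := by
  have i1 : y₁⁻¹ = y₁ := inv_eq_self s1
  have i2 : y₂⁻¹ = y₂ := inv_eq_self s2
  have a1 : ∀ x : G, y₁ * (y₁ * x) = x := fun x => by rw [← mul_assoc, s1, one_mul]
  have c1 : ∀ x : G, y₂ * (y₁ * x) = y₁ * (y₂ * x) := fun x => by rw [← mul_assoc, ← hc, mul_assoc]
  have := card_mul_le' hHA (ι := Bool × Bool)
    (fun i => (if i.1 then y₁ else 1) * (if i.2 then y₂ else 1)) ?_ ?_
  · simpa using this
  · rintro ⟨i, j⟩
    refine mul_mem ?_ ?_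
    · simp only; split_ifs
      · exact h1
      · exact one_mem _
    · simp only; split_ifs
      · exact h2
      · exact one_mem _
  · rintro ⟨i, j⟩ ⟨k, l⟩ hm
    cases i <;> cases j <;> cases k <;> cases l <;>
      simp [i1, i2, n1, n2, n3, mul_assoc, a1, c1, s1, s2, hc.symm] at hm ⊢

namespace HyA

variable [Finite G]

/-- `C_{W_a⁰}(W_b) = ⟨a, r⟩` for `a`, `b` joined at `r` -/
theorem cent_w0 (h : HyA T V z) (hj : Jn V r a b) {y : G} (hy : y ∈ w0 V a r)
    (hc : ∀ x ∈ ws V b, y * x = x * y) : ∃ g, a ∈ cj g V ∧ r ∈ cj g V ∧ y ∈ cj g V := by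
  have ht := h.toTyN
  obtain ⟨y1, hy1, y2, hy2, n1, n2, n3⟩ := h.exists_two hj
  obtain ⟨g, hga, hgr, ha1, hr1⟩ := id hj.1
  refine ⟨g, hga, hgr, ?_⟩
  set H := w0 V a r ⊓ centralizer (ws V b : Set G) with hH
  have hw := h.w0_le hj.1
  have h1 : 4 * Nat.card H ≤ Nat.card (w0 V a r) := by
    refine four_mul_le inf_le_left hy1 hy2 (sq_ws ht hj.1.left (hw hy1)) (comm_ws ht hj.1.left (hw hy1) (hw hy2))
      (sq_ws ht hj.1.left (hw hy2)) ?_ ?_ ?_
    · exact fun e => n1 (mem_inf.mp e).2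
    · exact fun e => n2 (mem_inf.mp e).2
    · exact fun e => n3 (mem_inf.mp e).2
  have h2 := h.card_le hj
  obtain ⟨k, hk, -, hf⟩ := h.fr.flag hga ha1
  have h3 : Nat.card (cj g V) = 4 := hf.ln.card_V
  have hL : cj g V ≤ H := by
    have hbu : ∀ x ∈ ws V b, x ∈ uu V r := fun x hx => ws_le_uu hj.2.1 hx
    have ha : a ∈ H := by
      refine mem_inf.mpr ⟨a_mem_w0, mem_centralizer_iff.mpr fun x hx => ?_⟩
      exact uu_comm_ws ht (hbu x hx) (h.fr.mem_ws_of_col hj.1.symm)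
    have hr : r ∈ H := by
      refine mem_inf.mpr ⟨r_mem_w0, mem_centralizer_iff.mpr fun x hx => ?_⟩
      exact uu_comm_ws ht (hbu x hx) (h.fr.mem_ws_self hj.1.right)
    intro x hx
    rcases hf.ln.four hga hgr ha1 hr1 (hj.ne_left ht) hx with e | e | e | e <;> rw [e]
    · exact one_mem _
    · exact ha
    · exact hr
    · exact mul_mem ha hr
  have h4 : cj g V = H := by
    refine Subgroup.eq_of_le_of_card_ge hL ?_
    rw [h3]
    omega
  rw [h4]
  exact mem_inf.mpr ⟨hy, mem_centralizer_iff.mpr fun x hx => (hc x hx).symm⟩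

/-- `Tr0 V a r v`: `v` is trivial on `W_a⁰ / C(U_r)` -/
def Tr0 (V : Subgroup G) (a r v : G) : Prop := ∀ y ∈ w0 V a r, ∀ u ∈ uu V r, (v * y * v⁻¹ * y⁻¹) * u = u * (v * y * v⁻¹ * y⁻¹)

theorem Tr0.conj {v : G} (h : Tr0 V a r v) (g : G) : Tr0 V (g * a * g⁻¹) (g * r * g⁻¹) (g * v * g⁻¹) := by
  intro y hy u hu
  rw [← cj_w0] at hy
  rw [← cj_uu] at hu
  have := h _ (mem_of_cj hy) _ (mem_of_cj hu)
  calc (g * v * g⁻¹ * y * (g * v * g⁻¹)⁻¹ * y⁻¹) * u
      = g * ((v * (g⁻¹ * y * g) * v⁻¹ * (g⁻¹ * y * g)⁻¹) * (g⁻¹ * u * g)) * g⁻¹ := by group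
    _ = g * ((g⁻¹ * u * g) * (v * (g⁻¹ * y * g) * v⁻¹ * (g⁻¹ * y * g)⁻¹)) * g⁻¹ := by rw [this]
    _ = u * (g * v * g⁻¹ * y * (g * v * g⁻¹)⁻¹ * y⁻¹) := by group

/-- the element `v` of the configuration is trivial on `Q_a` -/
theorem cfg_tr {w v : G} (h : HyA T V z) (k : Cfg T V z c p r a w v x) : Tr0 V a r v := by
  have ht := h.toTyN
  intro y hy u hu
  have hwp := k.w_mem h
  have hvp := k.v_mem h
  have hcol : Col V a r := k.pa.2.1.symm
  have hj : Jn V r a (p * a) := h.mul_self' k.pa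
  have hvr : v * r = r * v := uu_comm_ws ht hvp (h.fr.mem_ws_of_col k.pa.1)
  have hyU : y ∈ uu V r := ws_le_uu hcol.symm (h.w0_le hcol hy)
  have hyp : y * p = p * y := uu_comm_ws ht hyU (h.fr.mem_ws_of_col k.pa.1.symm)
  set e := v * y * v⁻¹ * y⁻¹ with he
  have he1 : e ∈ w0 V a r := mul_mem (conj_mem_w0' k.va hvr hy) (inv_mem hy)
  have he2 : e ∈ uu V p := by
    have h1 : y * v⁻¹ * y⁻¹ ∈ uu V p :=
      conj_mem_of_normalizer (centralizer_le_normalizer_uu V p) (mem_centralizer_singleton_iff.mpr hyp) (inv_mem hvp)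
    have e1 : e = v * (y * v⁻¹ * y⁻¹) := by rw [he]; group
    rw [e1]
    exact mul_mem hvp h1
  have he3 : w * e * w⁻¹ * e⁻¹ ∈ zpowers p := h.uu_comm hwp he2
  -- `e` commutes with `W_{pa}`
  have hcp : Col V r (p * a) := hj.2.1
  have he4 : ∀ x ∈ ws V (p * a), e * x = x * e := by
    intro x hx
    have h1 : w * e * w⁻¹ ∈ ws V (p * a) := by
      have := conj_mem_ws w (h.w0_le hcol he1)
      rwa [k.wa] at this
    have h2 := comm_ws ht hcp.right h1 hx
    have h3 : (w * e * w⁻¹ * e⁻¹) * x = x * (w * e * w⁻¹ * e⁻¹) := by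
      have hxU : x ∈ uu V r := ws_le_uu hcp hx
      have hpx : p * x = x * p := (uu_comm_ws ht hxU (h.fr.mem_ws_of_col k.pa.1.symm)).symm
      rcases (mem_zpowers_iff_of_mul_self (sq_pt ht k.pa.1)).mp he3 with e1 | e1 <;> rw [e1]
      · simp
      · exact hpx
    have e1 : e = (w * e * w⁻¹ * e⁻¹)⁻¹ * (w * e * w⁻¹) := by group
    rw [e1]
    exact mul_comm_of (inv_comm_of h3) h2
  obtain ⟨g, hga, hgr, hge⟩ := h.cent_w0 hj he1 he4
  have h5 : e ∈ ws V r := h.fr.line_le_ws hgr hge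
  exact (uu_comm_ws ht hu h5).symm

/-- the element `v` -/
theorem exists_elt (h : HyA T V z) (hj : Jn V r a p) : ∃ v, v * a = a * v ∧ v * r = r * v ∧ Tr0 V a r v ∧
    Tr0 V (a * r) r v ∧ (∀ x ∈ w0 V r a, v * x * v⁻¹ = x ∨ v * x * v⁻¹ = p * x) ∧
      ∃ x ∈ w0 V r a, v * x * v⁻¹ ≠ x := by
  have ht := h.toTyN
  obtain ⟨c', p', r', a', w, v, x, k⟩ := h.exists_cfg hj
  have hvp := k.v_mem h
  have hcol : Col V r' a' := k.pa.2.1
  have hvr : v * r' = r' * v := uu_comm_ws ht hvp (h.fr.mem_ws_of_col k.pa.1)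
  have hwr : w * r' * w⁻¹ = r' := conj_eq_of_comm (uu_comm_ws ht (k.w_mem h) (h.fr.mem_ws_of_col k.pa.1))
  have k2 : Cfg T V z c' p' r' (a' * r') w v x :=
    { cr := k.cr
      pa := k.pa.shift_right ht
      hw := k.hw
      hv := k.hv
      hx := k.hx
      wa := by
        calc w * (a' * r') * w⁻¹ = (w * a' * w⁻¹) * (w * r' * w⁻¹) := by group
          _ = p' * (a' * r') := by rw [k.wa, hwr, mul_assoc]
      va := comm_mul_of k.va hvr
      vx := k.vx }
  have t1 := h.cfg_tr k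
  have t2 := h.cfg_tr k2
  -- `v` moves an element of `W_{r'}⁰`
  have hact : ∀ y ∈ ws V r', v * y * v⁻¹ = y ∨ v * y * v⁻¹ = p' * y := fun y hy => act ht k.pa.1 hvp hy
  obtain ⟨x', hx', s, hs, hsu, rfl⟩ := h.ws_eq k.pa.1.symm k.hx
  have hmv : v * x' * v⁻¹ ≠ x' := by
    intro e
    have e1 : v * s * v⁻¹ = s := conj_eq_of_comm (hsu v hvp)
    have e2 : v * (x' * s) * v⁻¹ = x' * s := by
      calc v * (x' * s) * v⁻¹ = (v * x' * v⁻¹) * (v * s * v⁻¹) := by group
        _ = x' * s := by rw [e, e1]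
    rw [k.vx] at e2
    exact k.pa.1.ne_one (by simpa using e2)
  have heq : w0 V r' p' = w0 V r' a' := h.w0_eq (by
    -- `p'`, `a'` joined at `r'` : `Jn V r' p' a'`
    exact k.pa)
  rw [heq] at hx'
  obtain ⟨g, h1, h2, h3⟩ := h.triple_trans (h.j1 _ _ _ k.pa) hj
  refine ⟨g * v * g⁻¹, ?_, ?_, ?_, ?_, ?_, g * x' * g⁻¹, ?_, ?_⟩
  · rw [← h2]
    calc g * v * g⁻¹ * (g * a' * g⁻¹) = g * (v * a') * g⁻¹ := by group
      _ = g * (a' * v) * g⁻¹ := by rw [k.va]
      _ = g * a' * g⁻¹ * (g * v * g⁻¹) := by group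
  · rw [← h1]
    calc g * v * g⁻¹ * (g * r' * g⁻¹) = g * (v * r') * g⁻¹ := by group
      _ = g * (r' * v) * g⁻¹ := by rw [hvr]
      _ = g * r' * g⁻¹ * (g * v * g⁻¹) := by group
  · have := t1.conj g
    rwa [h1, h2] at this
  · have := t2.conj g
    have e : g * (a' * r') * g⁻¹ = a * r := by
      calc g * (a' * r') * g⁻¹ = (g * a' * g⁻¹) * (g * r' * g⁻¹) := by group
        _ = a * r := by rw [h1, h2]
    rwa [h1, e] at this
  · intro y hy
    rw [← h1, ← h2, ← cj_w0] at hy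
    have hy' := mem_of_cj hy
    have e : g * v * g⁻¹ * y * (g * v * g⁻¹)⁻¹ = g * (v * (g⁻¹ * y * g) * v⁻¹) * g⁻¹ := by group
    rcases hact _ (h.w0_le hcol hy') with e1 | e1
    · left
      rw [e, e1]; group
    · right
      rw [e, e1]
      calc g * (p' * (g⁻¹ * y * g)) * g⁻¹ = (g * p' * g⁻¹) * y := by group
        _ = p * y := by rw [h3]
  · have := conj_mem_w0 g hx'
    rwa [h1, h2] at this
  · intro e
    apply hmv
    have e1 : g * v * g⁻¹ * (g * x' * g⁻¹) * (g * v * g⁻¹)⁻¹ = g * (v * x' * v⁻¹) * g⁻¹ := by group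
    rw [e1] at e
    calc v * x' * v⁻¹ = g⁻¹ * (g * (v * x' * v⁻¹) * g⁻¹) * g := by group
      _ = g⁻¹ * (g * x' * g⁻¹) * g := by rw [e]
      _ = x' := by group

/-- the pairing argument: `d` fixes `a`, `r`, `b`, `W_{ar}⁰` and is trivial on `Q_r` -/
theorem pairing (h : HyA T V z) {s t b d : G} (hs : Jn V a s b) (ht' : Jn V a t b) (hda : d * a = a * d)
    (hdb : d * b = b * d) (hds : d * s = s * d) (hsf : ∀ y ∈ w0 V t a, d * y = y * d) {y : G} (hy : y ∈ w0 V s a) :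
    ∃ g, s ∈ cj g V ∧ a ∈ cj g V ∧ d * y * d⁻¹ * y⁻¹ ∈ cj g V := by
  have ht := h.toTyN
  have hab : Col V a b := hs.2.1
  -- commutators are in `⟨a⟩`
  have hcomm : ∀ q, Col V a q → ∀ y ∈ ws V q, ∀ y' ∈ ws V b, y * y' * y⁻¹ * y'⁻¹ ∈ zpowers a :=
    fun q hq y hy y' hy' => h.n q a b hq.symm hab y hy y' hy'
  have hdz : ∀ x ∈ zpowers a, d * x * d⁻¹ = x := fun x hx =>
    TyN.zc (mem_centralizer_singleton_iff.mpr hda) hx
  have hza : ∀ x ∈ zpowers a, ∀ u ∈ uu V a, x * u = u * x := by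
    intro x hx u hu
    have := TyN.zc (h.uu_le_cr a hu) hx
    exact (comm_of_conj_eq this).symm
  -- `W_b⁰`
  have step1 : ∀ y' ∈ w0 V b a, d * y' * d⁻¹ * y'⁻¹ ∈ ws V a := by
    intro y' hy'
    have hm : d * y' * d⁻¹ * y'⁻¹ ∈ w0 V b a := mul_mem (conj_mem_w0' hdb hda hy') (inv_mem hy')
    have hc : ∀ x ∈ ws V t, (d * y' * d⁻¹ * y'⁻¹) * x = x * (d * y' * d⁻¹ * y'⁻¹) := by
      intro x hx
      obtain ⟨x0, hx0, q, hq, hqu, rfl⟩ := h.ws_eq ht'.1 hx
      have hbU : ∀ w ∈ ws V b, w ∈ uu V a := fun w hw => ws_le_uu hab hw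
      have c2 : (d * y' * d⁻¹ * y'⁻¹) * q = q * (d * y' * d⁻¹ * y'⁻¹) :=
        hqu _ (hbU _ (h.w0_le hab.symm hm))
      have c1 : (d * y' * d⁻¹ * y'⁻¹) * x0 = x0 * (d * y' * d⁻¹ * y'⁻¹) := by
        have k1 := hcomm t ht'.1.symm x0 (h.w0_le ht'.1 hx0) y' (h.w0_le hab.symm hy')
        have k2 := hdz _ k1
        have k3 : d * x0 * d⁻¹ = x0 := conj_eq_of_comm (hsf x0 hx0)
        have k4 : d * (x0 * y' * x0⁻¹ * y'⁻¹) * d⁻¹ =
            (d * x0 * d⁻¹) * (d * y' * d⁻¹) * (d * x0 * d⁻¹)⁻¹ * (d * y' * d⁻¹)⁻¹ := by group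
        rw [k4, k3] at k2
        -- `[x0, y''] = [x0, y'] =: ρ`
        set y'' := d * y' * d⁻¹ with hy''
        set ρ := x0 * y' * x0⁻¹ * y'⁻¹ with hρ
        have l1 : x0 * y' * x0⁻¹ = ρ * y' := by rw [hρ]; group
        have l2 : x0 * y'' * x0⁻¹ = ρ * y'' := by rw [← k2]; group
        have l3 : ρ * (y'' * y'⁻¹) = (y'' * y'⁻¹) * ρ := hza ρ k1 _ (hbU _ (h.w0_le hab.symm hm))
        have l4 : x0 * (y'' * y'⁻¹) * x0⁻¹ = y'' * y'⁻¹ := by
          calc x0 * (y'' * y'⁻¹) * x0⁻¹ = (x0 * y'' * x0⁻¹) * (x0 * y' * x0⁻¹)⁻¹ := by group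
            _ = (ρ * y'') * (ρ * y')⁻¹ := by rw [l1, l2]
            _ = ρ * (y'' * y'⁻¹) * ρ⁻¹ := by group
            _ = y'' * y'⁻¹ := by rw [l3]; group
        exact (comm_of_conj_eq l4).symm
      exact comm_mul_of c1 c2
    obtain ⟨g, -, hga, hge⟩ := h.cent_w0 (h.j1 _ _ _ ht') hm hc
    exact h.fr.line_le_ws hga hge
  have hm : d * y * d⁻¹ * y⁻¹ ∈ w0 V s a := mul_mem (conj_mem_w0' hds hda hy) (inv_mem hy)
  refine h.cent_w0 hs hm ?_
  intro x hx
  obtain ⟨x0, hx0, q, hq, hqu, rfl⟩ := h.ws_eq hab.symm hx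
  have hsU : ∀ w ∈ ws V s, w ∈ uu V a := fun w hw => ws_le_uu hs.1.symm hw
  have c2 : (d * y * d⁻¹ * y⁻¹) * q = q * (d * y * d⁻¹ * y⁻¹) := hqu _ (hsU _ (h.w0_le hs.1 hm))
  have c1 : (d * y * d⁻¹ * y⁻¹) * x0 = x0 * (d * y * d⁻¹ * y⁻¹) := by
    have k1 := hcomm s hs.1.symm y (h.w0_le hs.1 hy) x0 (h.w0_le hab.symm hx0)
    have k2 := hdz _ k1
    have k4 : d * (y * x0 * y⁻¹ * x0⁻¹) * d⁻¹ =
        (d * y * d⁻¹) * (d * x0 * d⁻¹) * (d * y * d⁻¹)⁻¹ * (d * x0 * d⁻¹)⁻¹ := by group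
    rw [k4] at k2
    have k5 := step1 x0 hx0
    set e' := d * x0 * d⁻¹ * x0⁻¹ with he'
    have k6 : d * x0 * d⁻¹ = e' * x0 := by rw [he']; group
    set Y := d * y * d⁻¹ with hY
    have hYU : Y ∈ uu V a := hsU _ (h.w0_le hs.1 (conj_mem_w0' hds hda hy))
    have k7 : Y * e' = e' * Y := uu_comm_ws ht hYU k5
    rw [k6] at k2
    -- `[Y, e' x0] = [Y, x0]` up to conjugation by `e'`
    have k8 : Y * (e' * x0) * Y⁻¹ * (e' * x0)⁻¹ = e' * (Y * x0 * Y⁻¹ * x0⁻¹) * e'⁻¹ := by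
      calc Y * (e' * x0) * Y⁻¹ * (e' * x0)⁻¹ = (Y * e') * x0 * Y⁻¹ * x0⁻¹ * e'⁻¹ := by group
        _ = (e' * Y) * x0 * Y⁻¹ * x0⁻¹ * e'⁻¹ := by rw [k7]
        _ = e' * (Y * x0 * Y⁻¹ * x0⁻¹) * e'⁻¹ := by group
    rw [k8] at k2
    have k9 : Y * x0 * Y⁻¹ * x0⁻¹ ∈ zpowers a :=
      hcomm s hs.1.symm Y (h.w0_le hs.1 (conj_mem_w0' hds hda hy)) x0 (h.w0_le hab.symm hx0)
    have k10 : e' * (Y * x0 * Y⁻¹ * x0⁻¹) * e'⁻¹ = Y * x0 * Y⁻¹ * x0⁻¹ := by
      have := hza _ k9 e' (ws_le_uu hs.1.right k5)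
      rw [← this]; group
    rw [k10] at k2
    set ρ := y * x0 * y⁻¹ * x0⁻¹ with hρ
    have l1 : x0 * y * x0⁻¹ = ρ⁻¹ * y := by rw [hρ]; group
    have l2 : x0 * Y * x0⁻¹ = ρ⁻¹ * Y := by rw [← k2]; group
    have l3 : ρ * (Y * y⁻¹) = (Y * y⁻¹) * ρ := hza ρ k1 _ (hsU _ (h.w0_le hs.1 hm))
    have l4 : x0 * (Y * y⁻¹) * x0⁻¹ = Y * y⁻¹ := by
      calc x0 * (Y * y⁻¹) * x0⁻¹ = (x0 * Y * x0⁻¹) * (x0 * y * x0⁻¹)⁻¹ := by group
        _ = (ρ⁻¹ * Y) * (ρ⁻¹ * y)⁻¹ := by rw [l1, l2]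
        _ = ρ⁻¹ * ((Y * y⁻¹) * ρ) := by group
        _ = Y * y⁻¹ := by rw [← l3]; group
    exact (comm_of_conj_eq l4).symm
  exact comm_mul_of c1 c2

/-- `d = (τ σ)⁻¹ (σ τ)` centralises `W_q⁰` if `σ`, `τ` are trivial on `Q_q` -/
theorem comm_d (h : HyA T V z) {q σ τ : G} (hj : Jn V r q b) (hσq : σ * q = q * σ) (hσr : σ * r = r * σ)
    (hτq : τ * q = q * τ) (hτr : τ * r = r * τ) (hσ : Tr0 V q r σ) (hτ : Tr0 V q r τ) {y : G}
    (hy : y ∈ w0 V q r) : (τ * σ)⁻¹ * (σ * τ) * y = y * ((τ * σ)⁻¹ * (σ * τ)) := by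
  have ht := h.toTyN
  -- elements of the line commute with `x ∈ C(q) ∩ C(r)`
  have hline : ∀ e ∈ w0 V q r, (∀ u ∈ uu V r, e * u = u * e) → ∀ x, x * q = q * x → x * r = r * x → x * e = e * x := by
    intro e he hc x hxq hxr
    obtain ⟨g, hgq, hgr, hge⟩ := h.cent_w0 hj he fun x hx => hc x (ws_le_uu hj.2.1 hx)
    obtain ⟨k, -, -, hf⟩ := h.fr.flag hgq hj.1.ne_one
    rcases hf.ln.four hgq hgr hj.1.ne_one hj.1.symm.ne_one (hj.ne_left ht) hge with e' | e' | e' | e' <;> rw [e']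
    · simp
    · exact hxq
    · exact hxr
    · exact comm_mul_of hxq hxr
  have eσ : σ * y * σ⁻¹ * y⁻¹ ∈ w0 V q r := mul_mem (conj_mem_w0' hσq hσr hy) (inv_mem hy)
  have eτ : τ * y * τ⁻¹ * y⁻¹ ∈ w0 V q r := mul_mem (conj_mem_w0' hτq hτr hy) (inv_mem hy)
  set s := σ * y * σ⁻¹ * y⁻¹ with hs
  set t := τ * y * τ⁻¹ * y⁻¹ with htd
  have hsτ : τ * s = s * τ := hline s eσ (fun u hu => hσ y hy u hu) τ hτq hτr
  have htσ : σ * t = t * σ := hline t eτ (fun u hu => hτ y hy u hu) σ hσq hσr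
  have hst : s * t = t * s := comm_ws ht hj.1.left (h.w0_le hj.1 eσ) (h.w0_le hj.1 eτ)
  have e1 : σ * y * σ⁻¹ = s * y := by rw [hs]; group
  have e2 : τ * y * τ⁻¹ = t * y := by rw [htd]; group
  have f1 : (σ * τ) * y * (σ * τ)⁻¹ = t * s * y := by
    calc (σ * τ) * y * (σ * τ)⁻¹ = σ * (τ * y * τ⁻¹) * σ⁻¹ := by group
      _ = (σ * t) * y * σ⁻¹ := by rw [e2]; group
      _ = t * (σ * y * σ⁻¹) := by rw [htσ]; group
      _ = t * (s * y) := by rw [e1]
      _ = t * s * y := (mul_assoc t s y).symm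
  have f2 : (τ * σ) * y * (τ * σ)⁻¹ = t * s * y := by
    calc (τ * σ) * y * (τ * σ)⁻¹ = τ * (σ * y * σ⁻¹) * τ⁻¹ := by group
      _ = (τ * s) * y * τ⁻¹ := by rw [e1]; group
      _ = s * (τ * y * τ⁻¹) := by rw [hsτ]; group
      _ = s * (t * y) := by rw [e2]
      _ = (s * t) * y := (mul_assoc s t y).symm
      _ = t * s * y := by rw [hst]
  have f3 : (σ * τ) * y * (σ * τ)⁻¹ = (τ * σ) * y * (τ * σ)⁻¹ := f1.trans f2.symm
  calc (τ * σ)⁻¹ * (σ * τ) * y = (τ * σ)⁻¹ * ((σ * τ) * y * (σ * τ)⁻¹) * (σ * τ) := by group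
    _ = (τ * σ)⁻¹ * ((τ * σ) * y * (τ * σ)⁻¹) * (σ * τ) := by rw [f3]
    _ = y * ((τ * σ)⁻¹ * (σ * τ)) := by group

/-- the final contradiction -/
theorem contra (h : HyA T V z) (hj : Jn V a r b) : False := by
  have ht := h.toTyN
  have hra : Col V r a := hj.1
  have har : Col V a r := hra.symm
  have hne : r ≠ a := hj.ne_left ht
  obtain ⟨p1, hp1, p2, hp2, n1, n2, n3⟩ := h.exists_two hj
  have hw := h.w0_le hra
  have s1 := sq_ws ht hra.left (hw hp1)
  have s2 := sq_ws ht hra.left (hw hp2)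
  have hc12 := comm_ws ht hra.left (hw hp1) (hw hp2)
  -- the line through `a`, `r`
  obtain ⟨g, hgr, hga, hr1, ha1⟩ := id hra
  obtain ⟨k, hk, -, hf⟩ := h.fr.flag hgr hr1
  have h4 : Nat.card (cj g V) = 4 := hf.ln.card_V
  have hbu : ∀ x ∈ ws V b, x ∈ uu V a := fun x hx => ws_le_uu hj.2.1 hx
  have hLc : cj g V ≤ centralizer (ws V b : Set G) := by
    intro x hx
    rw [mem_centralizer_iff]
    intro y hy
    exact uu_comm_ws ht (hbu y hy) (h.fr.line_le_ws hga hx)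
  have hLw : cj g V ≤ w0 V r a := by
    intro x hx
    rcases hf.ln.four hgr hga hr1 ha1 hne hx with e | e | e | e <;> rw [e]
    · exact one_mem _
    · exact a_mem_w0
    · exact r_mem_w0
    · exact mul_mem a_mem_w0 r_mem_w0
  have nL1 : p1 ∉ cj g V := fun e => n1 (hLc e)
  have nL2 : p2 ∉ cj g V := fun e => n2 (hLc e)
  have nL3 : p1 * p2 ∉ cj g V := fun e => n3 (hLc e)
  have hjp : ∀ x ∈ w0 V r a, x ∉ cj g V → Jn V r a x := by
    intro x hx hn
    rcases h.mem_w0 hra hx with e | e | e | e | e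
    · exact absurd (e ▸ one_mem _) hn
    · exact absurd (e ▸ hgr) hn
    · exact absurd (e ▸ hga) hn
    · exact absurd (e ▸ mul_mem hga hgr) hn
    · exact e
  obtain ⟨σ, hσa, hσr, hσt, hσt', hσx, x1, hx1, hx1m⟩ := h.exists_elt (hjp p1 hp1 nL1)
  obtain ⟨τ, hτa, hτr, hτt, hτt', hτx, x2, hx2, hx2m⟩ := h.exists_elt (hjp p2 hp2 nL2)
  have hp1n : p1 ≠ 1 := fun e => nL1 (e ▸ one_mem _)
  have hp2n : p2 ≠ 1 := fun e => nL2 (e ▸ one_mem _)
  have hcard : Nat.card (w0 V r a) ≤ 16 := h.card_le hj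
  -- an element fixing `a`, `r`, `p1`, `p2` fixes `W_r⁰`
  have hfix : ∀ ρ : G, ρ * a = a * ρ → ρ * r = r * ρ → ρ * p1 = p1 * ρ → ρ * p2 = p2 * ρ →
      ∀ x ∈ w0 V r a, ρ * x = x * ρ := by
    intro ρ ra rr r1 r2
    set K : Subgroup G := w0 V r a ⊓ centralizer ({ρ} : Set G) with hK
    have hLK : cj g V ≤ K := by
      intro x hx
      refine mem_inf.mpr ⟨hLw hx, mem_centralizer_singleton_iff.mpr ?_⟩
      rcases hf.ln.four hgr hga hr1 ha1 hne hx with e | e | e | e <;> rw [e]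
      · simp
      · exact rr.symm
      · exact ra.symm
      · exact mul_comm_of rr.symm ra.symm
    have k1 : p1 ∈ K := mem_inf.mpr ⟨hp1, mem_centralizer_singleton_iff.mpr r1.symm⟩
    have k2 : p2 ∈ K := mem_inf.mpr ⟨hp2, mem_centralizer_singleton_iff.mpr r2.symm⟩
    have h1 := four_mul_le hLK k1 k2 s1 hc12 s2 nL1 nL2 nL3
    have h2 : K = w0 V r a := by
      refine Subgroup.eq_of_le_of_card_ge inf_le_left ?_
      rw [h4] at h1
      omega
    intro x hx
    rw [← h2] at hx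
    exact (mem_centralizer_singleton_iff.mp (mem_inf.mp hx).2).symm
  have hσ1 : σ * p1 * σ⁻¹ = p1 := by
    rcases hσx p1 hp1 with e | e
    · exact e
    · exact absurd (conj_eq_one_iff.mp (e.trans s1)) hp1n
  have hτ2 : τ * p2 * τ⁻¹ = p2 := by
    rcases hτx p2 hp2 with e | e
    · exact e
    · exact absurd (conj_eq_one_iff.mp (e.trans s2)) hp2n
  have hσ2 : σ * p2 * σ⁻¹ = p1 * p2 := by
    rcases hσx p2 hp2 with e | e
    · exact absurd (conj_eq_of_comm (hfix σ hσa hσr (comm_of_conj_eq hσ1) (comm_of_conj_eq e) x1 hx1)) hx1m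
    · exact e
  have hτ1 : τ * p1 * τ⁻¹ = p2 * p1 := by
    rcases hτx p1 hp1 with e | e
    · exact absurd (conj_eq_of_comm (hfix τ hτa hτr (comm_of_conj_eq e) (comm_of_conj_eq hτ2) x2 hx2)) hx2m
    · exact e
  set d := (τ * σ)⁻¹ * (σ * τ) with hd
  -- `d` on `p1`
  have hd1 : d * p1 * d⁻¹ = p1 * p2 := by
    have e1 : (σ * τ) * p1 * (σ * τ)⁻¹ = p2 := by
      calc (σ * τ) * p1 * (σ * τ)⁻¹ = σ * (τ * p1 * τ⁻¹) * σ⁻¹ := by group
        _ = (σ * p2 * σ⁻¹) * (σ * p1 * σ⁻¹) := by rw [hτ1]; group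
        _ = p2 * (p1 * p1) := by rw [hσ2, hσ1, hc12, mul_assoc]
        _ = p2 := by rw [s1, mul_one]
    have e0 : p1 * (p1 * p2) = p2 := by rw [← mul_assoc, s1, one_mul]
    have e2 : (τ * σ) * (p1 * p2) * (τ * σ)⁻¹ = p2 := by
      calc (τ * σ) * (p1 * p2) * (τ * σ)⁻¹ = τ * ((σ * p1 * σ⁻¹) * (σ * p2 * σ⁻¹)) * τ⁻¹ := by group
        _ = τ * (p1 * (p1 * p2)) * τ⁻¹ := by rw [hσ1, hσ2]
        _ = p2 := by rw [e0, hτ2]
    calc d * p1 * d⁻¹ = (τ * σ)⁻¹ * ((σ * τ) * p1 * (σ * τ)⁻¹) * (τ * σ) := by rw [hd]; group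
      _ = (τ * σ)⁻¹ * ((τ * σ) * (p1 * p2) * (τ * σ)⁻¹) * (τ * σ) := by rw [e1, e2]
      _ = p1 * p2 := by group
  -- `d` centralises `W_a⁰`, `W_{ar}⁰`
  have hjn : ∃ q, Jn V r a q := ⟨p1, hjp p1 hp1 nL1⟩
  obtain ⟨q, hq⟩ := hjn
  have hσar : σ * (a * r) = (a * r) * σ := comm_mul_of hσa hσr
  have hτar : τ * (a * r) = (a * r) * τ := comm_mul_of hτa hτr
  have hda : ∀ y ∈ w0 V a r, d * y = y * d := fun y hy => h.comm_d hq hσa hσr hτa hτr hσt hτt hy
  have hdar : ∀ y ∈ w0 V (a * r) r, d * y = y * d := fun y hy =>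
    h.comm_d (hq.shift_left ht) hσar hσr hτar hτr hσt' hτt' hy
  -- the pairing at `a`
  have hjar : Jn V a (a * r) b := by
    have := hj.shift_left ht
    rwa [h.fr.col_comm hra] at this
  have hcar : Col V (a * r) r := (hq.shift_left ht).1
  have hrne : r ≠ a * r := fun e => ha1 (by simpa using e)
  have hshift : w0 V (a * r) a = w0 V (a * r) r := by
    have := h.w0_shift hcar hrne
    have e : r * (a * r) = a := by rw [h.fr.col_comm hcar.symm, mul_mul_cancel_pt ht hra]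
    rwa [e] at this
  obtain ⟨m, hmr, hma, hmd⟩ := h.pairing (s := r) (t := a * r) (b := b) (d := d) hj hjar
    (hda a a_mem_w0) (hda b (jn_mem_w0 hj)) (hda r r_mem_w0)
    (fun y hy => hdar y (by rwa [← hshift])) hp1
  have e3 : d * p1 * d⁻¹ * p1⁻¹ = p2 := by
    rw [hd1, hc12]; group
  rw [e3] at hmd
  apply n2
  rw [mem_centralizer_iff]
  intro y hy
  exact uu_comm_ws ht (hbu y hy) (h.fr.line_le_ws hma hmd)

end HyA

/-- **(A1) is impossible.** -/
theorem a1 [Finite G] (h : Hy T V z) (hm : Mid T V z c p r) (hj : Jn V p r c) : False := by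
  have hA : HyA T V z := { h with cr := fun s a b hab => h.crit_of_jn hm hj hab }
  exact hA.contra hj

end Cfsg.Agent.Omega.NO3S.TypeN

end

section


/-!
# NO-3S, `|V| = 4`, `n = 2`, TYPE N, `κ = 1` is impossible (helper60, bb #16001, section 2): (2.4), (2.5)

* `KO.three`: some point `r` has three pairwise unconnected points;
* `KO.card_ge`: `2 be³ ≤ |W_r|`; `KO.relIndex_le` (2.4); `KO.card_ii_le` (2.5);
* `false_of_kap_one`.
-/

set_option autoImplicit false
set_option linter.unusedSectionVars false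

namespace Cfsg.Agent.Omega.NO3S.TypeN

open Subgroup Cfsg Cfsg.Agent.ZN Cfsg.Agent.MinSimple.Geo Cfsg.Agent.Omega.CaseL Cfsg.Agent.Omega.NO3S.TwoOne
  Cfsg.Agent.Omega.NO3S.Pt Cfsg.Agent.Omega.NO3S.TwoMid
open Cfsg.Agent.ZN.Block (conj_mem_of_normalizer conj_mem_of_normalizer' le_normalizer_of_forall
  mem_normalizer_of)

universe u

variable {G : Type u} [Group G]

/-! ### counting -/

/-- a map `f` of `A` to `P / D` with fibres in the cosets of `B` -/
theorem relIndex_le_of_map [Finite G] {A B P D : Subgroup G} (f : G → G) (hf : ∀ y ∈ A, f y ∈ P)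
    (h : ∀ y ∈ A, ∀ y' ∈ A, (f y)⁻¹ * f y' ∈ D → y⁻¹ * y' ∈ B) : B.relIndex A ≤ D.relIndex P := by
  let F : (A ⧸ B.subgroupOf A) → (P ⧸ D.subgroupOf P) := fun q =>
    QuotientGroup.mk (⟨f (q.out : A), hf _ (q.out : A).2⟩ : P)
  have hF : Function.Injective F := by
    intro q q' e
    have h1 := QuotientGroup.eq.mp e
    rw [mem_subgroupOf] at h1
    have h2 := h _ (q.out : A).2 _ (q'.out : A).2 h1
    rw [← QuotientGroup.out_eq' q, ← QuotientGroup.out_eq' q']
    refine QuotientGroup.eq.mpr ?_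
    rw [mem_subgroupOf]
    exact h2
  exact Nat.card_le_card_of_injective F hF

/-- `|W : B| = |A : A ∩ B|` if `W = A B`, `W` abelian -/
theorem relIndex_eq_of_sup [Finite G] {A B W : Subgroup G} (hA : A ≤ W) (hab : ∀ x ∈ W, ∀ y ∈ W, x * y = y * x)
    (hB : B ≤ W) (hW : W ≤ A ⊔ B) : B.relIndex W ≤ B.relIndex A := by
  let S : Subgroup G :=
    { carrier := {x | ∃ a ∈ A, ∃ b ∈ B, x = a * b}
      mul_mem' := by
        rintro _ _ ⟨a, ha, b, hb, rfl⟩ ⟨a', ha', b', hb', rfl⟩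
        refine ⟨a * a', mul_mem ha ha', b * b', mul_mem hb hb', ?_⟩
        calc a * b * (a' * b') = a * (b * a') * b' := by group
          _ = a * (a' * b) * b' := by rw [hab b (hB hb) a' (hA ha')]
          _ = a * a' * (b * b') := by group
      one_mem' := ⟨1, one_mem _, 1, one_mem _, by simp⟩
      inv_mem' := by
        rintro _ ⟨a, ha, b, hb, rfl⟩
        refine ⟨a⁻¹, inv_mem ha, b⁻¹, inv_mem hb, ?_⟩
        rw [mul_inv_rev, hab _ (hB (inv_mem hb)) _ (hA (inv_mem ha))] }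
  have hS : W ≤ S := hW.trans (sup_le (fun a ha => ⟨a, ha, 1, one_mem _, by simp⟩)
    fun b hb => ⟨1, one_mem _, b, hb, by simp⟩)
  have hch : ∀ x : G, ∃ a : G, x ∈ W → a ∈ A ∧ ∃ b ∈ B, x = a * b := by
    intro x
    by_cases hx : x ∈ W
    · obtain ⟨a, ha, b, hb, e⟩ := hS hx
      exact ⟨a, fun _ => ⟨ha, b, hb, e⟩⟩
    · exact ⟨1, fun h => absurd h hx⟩
  choose f hf using hch
  refine relIndex_le_of_map f (fun y hy => (hf y hy).1) fun y hy y' hy' hd => ?_
  obtain ⟨ha, b, hb, e⟩ := hf y hy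
  obtain ⟨ha', b', hb', e'⟩ := hf y' hy'
  have e1 : y⁻¹ * y' = (f y)⁻¹ * f y' * (b⁻¹ * b') := by
    calc y⁻¹ * y' = (f y * b)⁻¹ * (f y' * b') := by rw [← e, ← e']
      _ = b⁻¹ * ((f y)⁻¹ * f y') * b' := by group
      _ = ((f y)⁻¹ * f y') * b⁻¹ * b' := by
        rw [hab _ (hB (inv_mem hb)) _ (hA (mul_mem (inv_mem ha) ha'))]
      _ = (f y)⁻¹ * f y' * (b⁻¹ * b') := by group
  rw [e1]
  exact mul_mem hd (mul_mem (inv_mem hb) hb')

theorem two_mul_relIndex_le [Finite G] {D P W : Subgroup G} (hDP : D ≤ P) (hPW : P ≤ W) {x : G} (hx : x ∈ W)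
    (hxP : x ∉ P) : 2 * D.relIndex P ≤ D.relIndex W := by
  have h1 := relIndex_mul_relIndex D P W hDP hPW
  have h2 : P.relIndex W ≠ 1 := fun e => hxP (relIndex_eq_one.mp e hx)
  have h3 : P.relIndex W ≠ 0 := Nat.pos_iff_ne_zero.mp (Nat.pos_of_ne_zero (index_ne_zero_of_finite))
  rw [← h1, mul_comm]
  exact Nat.mul_le_mul_left _ (by omega)

theorem relIndex_pos' [Finite G] (A B : Subgroup G) : 0 < A.relIndex B :=
  Nat.pos_of_ne_zero index_ne_zero_of_finite

theorem card_eq_relIndex_mul [Finite G] (A B : Subgroup G) :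
    Nat.card B = A.relIndex B * Nat.card (A ⊓ B : Subgroup G) := by
  have h1 := relIndex_mul_relIndex ⊥ (A ⊓ B) B bot_le inf_le_right
  rw [relIndex_bot_left, relIndex_bot_left, inf_relIndex_right] at h1
  rw [← h1, mul_comm]

theorem card_zpowers_two {r : G} (hr : r * r = 1) (hr1 : r ≠ 1) : Nat.card (zpowers r) = 2 := by
  rw [Nat.card_zpowers]
  refine orderOf_eq_prime ?_ hr1
  rw [pow_two, hr]

namespace KO

variable {T V : Subgroup G} {z : G} {a b c p r : G} [Finite G]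

theorem relIndex_cx_eq (h : KO T V z) {r' a' : G} (hra : Col V r a) (hne : a ≠ r) (hra' : Col V r' a')
    (hne' : a' ≠ r') : (cx V r a).relIndex (ws V r) = (cx V r' a').relIndex (ws V r') := by
  obtain ⟨g, e1, e2⟩ := exists_flag_conj h.fr hra hne hra' hne'
  rw [← e1, ← e2, ← cj_cx, ← cj_ws, relIndex_cj]

/-- `2 be³ ≤ |W_r|` -/
theorem card_ge (h : KO T V z) {a₁ a₂ a₃ : G} (h1 : Col V r a₁) (h2 : Col V r a₂) (h3 : Col V r a₃)
    (n1 : a₁ ≠ r) (n2 : a₂ ≠ r) (n3 : a₃ ≠ r) (h12 : ¬ Cc V r a₁ a₂) (h13 : ¬ Cc V r a₁ a₃) (h23 : ¬ Cc V r a₂ a₃) :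
    2 * (cx V r a₁).relIndex (ws V r) ^ 3 ≤ Nat.card (ws V r) := by
  have e2 := h.relIndex_cx_eq h2 n2 h1 n1
  have e3 := h.relIndex_cx_eq h3 n3 h1 n1
  set be := (cx V r a₁).relIndex (ws V r) with hbe
  have hab := h.fr.ws_comm h1.left
  have s12 : ws V r ≤ cx V r a₁ ⊔ cx V r a₂ := by
    refine ws_le_of_pts h1.ne_one fun b hb => ?_
    by_cases hc : Cc V r a₁ b
    · refine le_sup_right (a := cx V r a₁) (h.mem_cx_of_not hb h2 fun e => h12 ?_)
      exact hc.trans (h.cc_symm e)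
    · exact le_sup_left (b := cx V r a₂) (h.mem_cx_of_not hb h1 hc)
  have s3 : ws V r ≤ (cx V r a₁ ⊓ cx V r a₂) ⊔ cx V r a₃ := by
    refine ws_le_of_pts h1.ne_one fun b hb => ?_
    by_cases hc : Cc V r a₃ b
    · refine le_sup_left (b := cx V r a₃) (mem_inf.mpr ⟨?_, ?_⟩)
      · exact h.mem_cx_of_not hb h1 fun e => h13 (e.trans (h.cc_symm hc))
      · exact h.mem_cx_of_not hb h2 fun e => h23 (e.trans (h.cc_symm hc))
    · exact le_sup_right (a := cx V r a₁ ⊓ cx V r a₂) (h.mem_cx_of_not hb h3 hc)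
  have i2 := relIndex_eq_of_sup (cx_le V r a₁) hab (cx_le V r a₂) s12
  have i3 := relIndex_eq_of_sup (A := cx V r a₁ ⊓ cx V r a₂) (inf_le_left.trans (cx_le V r a₁)) hab
    (cx_le V r a₃) s3
  rw [e2] at i2
  rw [e3] at i3
  have c1 := card_eq_relIndex_mul (cx V r a₁) (ws V r)
  have c2 := card_eq_relIndex_mul (cx V r a₂) (cx V r a₁)
  have c3 := card_eq_relIndex_mul (cx V r a₃) (cx V r a₁ ⊓ cx V r a₂)
  rw [inf_eq_left.mpr (cx_le V r a₁)] at c1
  rw [inf_comm] at c2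
  have hz : zpowers r ≤ cx V r a₃ ⊓ (cx V r a₁ ⊓ cx V r a₂) := by
    rw [zpowers_le]
    exact ⟨h.r_mem_cx h3, h.r_mem_cx h1, h.r_mem_cx h2⟩
  have c4 : 2 ≤ Nat.card (cx V r a₃ ⊓ (cx V r a₁ ⊓ cx V r a₂) : Subgroup G) := by
    rw [← card_zpowers_two (h.fr.pt_sq h1.left) h1.ne_one]
    exact card_le_of_le hz
  rw [c1, c2, c3, ← hbe]
  calc 2 * be ^ 3 = be * (be * (be * 2)) := by ring
    _ ≤ _ := Nat.mul_le_mul_left _ (Nat.mul_le_mul i2 (Nat.mul_le_mul i3 c4))

/-- three components -/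
theorem three (h : KO T V z) : ∃ a₁ a₂ a₃, Col V z a₁ ∧ Col V z a₂ ∧ Col V z a₃ ∧ a₁ ≠ z ∧ a₂ ≠ z ∧ a₃ ≠ z ∧
    ¬ Cc V z a₁ a₂ ∧ ¬ Cc V z a₁ a₃ ∧ ¬ Cc V z a₂ a₃ := by
  obtain ⟨a₀, r₀, b₀, hm⟩ := h.crit
  obtain ⟨y, hy, hy1, hyz⟩ := h.fr.ln.exists_y
  have hzy : Col V z y :=
    ⟨1, by rw [cj_one]; exact h.fr.ln.z_mem, by rw [cj_one]; exact hy, h.fr.ln.z_ne, hy1⟩
  obtain ⟨g, e1, e2⟩ := exists_flag_conj h.fr hm.pr.symm hm.ne_pr hzy hyz
  have hn0 : ¬ Cc V r₀ a₀ b₀ := fun e => hm.ne (h.com hm.pr.symm e)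
  set b := g * b₀ * g⁻¹ with hb
  have hzb : Col V z b := by
    have := hm.rq.conj g
    rwa [e1] at this
  have hbz : b ≠ z := by
    intro e
    apply hm.ne_rq
    rw [← e1, hb] at e
    simpa using e.symm
  have hyb : ¬ Cc V z y b := by
    intro e
    apply hn0
    refine Cc.of_conj g ?_
    rwa [e1, e2]
  obtain ⟨c₀, e3, e4⟩ := exists_flag_conj h.fr hzy hyz hzb hbz
  have hc₀ : c₀ ∈ centralizer ({z} : Set G) := by
    rw [mem_centralizer_singleton_iff]; exact comm_of_conj_eq e3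
  -- the stabiliser of the component of `y`
  have hcz : ∀ g ∈ centralizer ({z} : Set G), g * z * g⁻¹ = z := fun g hg =>
    conj_eq_of_comm (mem_centralizer_singleton_iff.mp hg)
  let N : Subgroup G :=
    { carrier := {g | g ∈ centralizer ({z} : Set G) ∧ Cc V z y (g * y * g⁻¹)}
      mul_mem' := by
        rintro g k ⟨hg, hg1⟩ ⟨hk, hk1⟩
        refine ⟨mul_mem hg hk, hg1.trans ?_⟩
        have := hk1.conj g
        rw [hcz g hg] at this
        have e : g * (k * y * k⁻¹) * g⁻¹ = g * k * y * (g * k)⁻¹ := by group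
        rwa [e] at this
      one_mem' := ⟨one_mem _, by simpa using Cc.refl V z y⟩
      inv_mem' := by
        rintro g ⟨hg, hg1⟩
        refine ⟨inv_mem hg, h.cc_symm ?_⟩
        refine Cc.of_conj g ?_
        have e : g * (g⁻¹ * y * g⁻¹⁻¹) * g⁻¹ = y := by group
        rwa [hcz g hg, e] }
  have hTN : T ≤ N := by
    intro t ht
    have ht1 := h.fr.ln.T_le ht
    refine ⟨ht1, ?_⟩
    rcases h.fr.ln.conj_cases h.fr.ln.z_mem hy h.fr.ln.z_ne (mem_centralizer_singleton_iff.mp ht1)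
      (h.fr.ln.T_norm ht) with e | e
    · rw [e]; exact .refl _ _ _
    · rw [e]; exact h.cc_mul hzy hyz
  have hodd : ¬ 2 ∣ N.relIndex (centralizer ({z} : Set G)) := fun hd =>
    h.fr.ln.T_syl (hd.trans (relIndex_dvd_of_le_left _ hTN))
  have hc₀N : c₀ ∉ N := fun e => hyb (by have := e.2; rwa [e4] at this)
  have hex : ∃ c₁ ∈ centralizer ({z} : Set G), c₁ ∉ N ∧ c₀⁻¹ * c₁ ∉ N := by
    by_contra hcon
    push Not at hcon
    apply hodd
    have h2 : N.relIndex (centralizer ({z} : Set G)) = 2 := by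
      refine index_eq_two_iff.mpr ⟨⟨c₀, hc₀⟩, fun x => ?_⟩
      simp only [mem_subgroupOf, Subgroup.coe_mul]
      by_cases hx : (x : G) ∈ N
      · exact Or.inr ⟨hx, fun e => hc₀N ((N.mul_mem_cancel_left hx).mp e)⟩
      · refine Or.inl ⟨?_, hx⟩
        have := hcon (x : G)⁻¹ (inv_mem x.2) (fun e => hx (by simpa using inv_mem e))
        have := inv_mem this
        simpa using this
    rw [h2]
  obtain ⟨c₁, hc₁, hc₁N, hc₁N'⟩ := hex
  have hcol : ∀ g ∈ centralizer ({z} : Set G), Col V z (g * y * g⁻¹) ∧ g * y * g⁻¹ ≠ z := by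
    intro g hg
    refine ⟨?_, ?_⟩
    · have := hzy.conj g
      rwa [hcz g hg] at this
    · intro e
      apply hyz
      have : y = g⁻¹ * z * g := by rw [← e]; group
      rw [this]
      have := hcz g⁻¹ (inv_mem hg)
      rwa [inv_inv] at this
  refine ⟨y, c₀ * y * c₀⁻¹, c₁ * y * c₁⁻¹, hzy, (hcol c₀ hc₀).1, (hcol c₁ hc₁).1, hyz, (hcol c₀ hc₀).2,
    (hcol c₁ hc₁).2, fun e => hc₀N ⟨hc₀, e⟩, fun e => hc₁N ⟨hc₁, e⟩, fun e => ?_⟩
  apply hc₁N'
  refine ⟨mul_mem (inv_mem hc₀) hc₁, ?_⟩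
  refine Cc.of_conj c₀ ?_
  have e5 : c₀ * (c₀⁻¹ * c₁ * y * (c₀⁻¹ * c₁)⁻¹) * c₀⁻¹ = c₁ * y * c₁⁻¹ := by group
  rwa [hcz c₀ hc₀, e5]

/-- (2.4) -/
theorem relIndex_le (h : KO T V z) (hj : Jn V r a b) :
    (ws V b).relIndex (ws V a) ≤ (cx V r a).relIndex (ws V r) := by
  have hra := hj.1.symm
  have hrb := hj.2.1
  have haW := h.fr.mem_ws_of_col hra
  have hbW := h.fr.mem_ws_of_col hrb
  have hcomab : Com V a b := h.com hra (.single hj)
  have haa := h.fr.pt_sq hra.right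
  -- `c ~ b`, `W_c` moves `a`
  obtain ⟨c, hbc, w₀, hw₀, hne₀⟩ := exists_ws V (h.j1 _ _ _ hj).exists_ne
  have haU : a ∈ uu V b := ws_le_uu hrb.symm haW
  -- a point `w ~ c` moved by `a`
  have h2 : ∃ w, Col V c w ∧ a * w * a⁻¹ ≠ w := by
    by_contra hcon
    push Not at hcon
    have h3 : ws V c ≤ centralizer ({a} : Set G) := by
      refine ws_le_of_pts hbc.symm.ne_one fun w hw => ?_
      rw [mem_centralizer_singleton_iff]
      exact (comm_of_conj_eq (hcon w hw)).symm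
    exact hne₀ (conj_eq_of_comm (mem_centralizer_singleton_iff.mp (h3 hw₀)))
  obtain ⟨w, hcw, hwa⟩ := h2
  have hwW := h.fr.mem_ws_of_col hcw
  have hjw : Jn V c b w := Jn.of_ne h.toTyN hbc hcw haU hwa
  have eaw : a * w * a⁻¹ = b * w := (act h.toTyN hbc haU hwW).resolve_left hwa
  have hww := h.fr.pt_sq hcw.right
  have hcb := hbc.symm
  have hbne : b ≠ c := hjw.ne_left h.toTyN
  have hbinv : b⁻¹ = b := inv_eq_self (h.fr.pt_sq hrb.right)
  have hab : a * b = b * a := h.fr.ws_comm hra.left a haW b hbW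
  have ewa : w * a * w⁻¹ = a * b := by
    have e1 : w * a⁻¹ * w⁻¹ = a⁻¹ * b := by
      calc w * a⁻¹ * w⁻¹ = a⁻¹ * (a * w * a⁻¹) * w⁻¹ := by group
        _ = a⁻¹ * b := by rw [eaw]; group
    calc w * a * w⁻¹ = (w * a⁻¹ * w⁻¹)⁻¹ := by group
      _ = b⁻¹ * a := by rw [e1]; group
      _ = a * b := by rw [hbinv, hab]
  -- elements of `W_a` fix `c` and `b`
  have hyc : ∀ y ∈ ws V a, y * c * y⁻¹ = c := fun y hy =>
    conj_eq_of_comm (hcomab y hy c (h.fr.mem_ws_of_col hbc))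
  have hyb : ∀ y ∈ ws V a, y * b * y⁻¹ = b := fun y hy =>
    conj_eq_of_comm (h.toTwo.com hra.symm y hy b hbW)
  have hya : ∀ y ∈ ws V a, y * a = a * y := fun y hy =>
    h.fr.ws_comm hra.right y hy a (h.fr.mem_ws_self hra.right)
  have hpt : ∀ y ∈ ws V a, Jn V c b (y * w * y⁻¹) := by
    intro y hy
    have := hjw.conj y
    rwa [hyc y hy, hyb y hy] at this
  -- `P`
  let P : Subgroup G := ws V c ⊓ centralizer ({a} : Set G)
  have hDP : cx V c b ≤ P := by
    intro x hx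
    refine mem_inf.mpr ⟨hx.1, ?_⟩
    rw [mem_centralizer_singleton_iff]
    exact (hx.2 b (.refl _ _ _) a haU).symm
  have hwP : w ∉ P := fun e => hwa (conj_eq_of_comm (mem_centralizer_singleton_iff.mp e.2).symm)
  have c1 := two_mul_relIndex_le hDP inf_le_left hwW hwP
  -- `B₂`
  let B₂ : Subgroup G :=
    { carrier := {y | y ∈ ws V a ∧ (y * w * y⁻¹ = w ∨ y * w * y⁻¹ = c * w)}
      mul_mem' := by
        rintro x y ⟨hx, hx1⟩ ⟨hy, hy1⟩
        refine ⟨mul_mem hx hy, ?_⟩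
        have e : x * y * w * (x * y)⁻¹ = x * (y * w * y⁻¹) * x⁻¹ := by group
        have e2 : x * (c * w) * x⁻¹ = c * (x * w * x⁻¹) := by
          calc x * (c * w) * x⁻¹ = (x * c * x⁻¹) * (x * w * x⁻¹) := by group
            _ = c * (x * w * x⁻¹) := by rw [hyc x hx]
        have hcc := h.fr.pt_sq hcb.left
        rw [e]
        rcases hy1 with e1 | e1
        · rw [e1]; exact hx1
        · rw [e1, e2]
          rcases hx1 with e3 | e3
          · exact Or.inr (by rw [e3])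
          · exact Or.inl (by rw [e3, ← mul_assoc, hcc, one_mul])
      one_mem' := ⟨one_mem _, Or.inl (by simp)⟩
      inv_mem' := by
        rintro x ⟨hx, hx1⟩
        refine ⟨inv_mem hx, ?_⟩
        have hxi : x⁻¹ = x := inv_eq_self (h.fr.ws_sq hra.right x hx)
        rw [hxi]; exact hx1 }
  have hB₂ : B₂ ≤ ws V a := fun y hy => hy.1
  let B : Subgroup G := ws V a ⊓ centralizer ({w} : Set G)
  have hBB : B ≤ B₂ := fun y hy => ⟨hy.1, Or.inl (conj_eq_of_comm (mem_centralizer_singleton_iff.mp hy.2))⟩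
  have hBb : B ≤ ws V b := fun x hx =>
    hj.mem_of_fix h.toTyN ewa hx.1 (mem_centralizer_singleton_iff.mp hx.2).symm
  have c2 : B₂.relIndex (ws V a) ≤ (cx V c b).relIndex P := by
    refine relIndex_le_of_map (fun y => w⁻¹ * (y * w * y⁻¹)) (fun y hy => ?_) fun y hy y' hy' hd => ?_
    · have h1 : y * w * y⁻¹ ∈ ws V c := by
        have := conj_mem_ws y hwW
        rwa [hyc y hy] at this
      refine mem_inf.mpr ⟨mul_mem (inv_mem hwW) h1, ?_⟩
      rw [mem_centralizer_singleton_iff]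
      refine (comm_of_conj_eq ?_).symm
      have hay : a * y = y * a := (hya y hy).symm
      have hyi : a * y⁻¹ = y⁻¹ * a := comm_inv_of hay
      calc a * (w⁻¹ * (y * w * y⁻¹)) * a⁻¹
          = (a * w * a⁻¹)⁻¹ * (a * y * w * (a * y)⁻¹) := by group
        _ = (b * w)⁻¹ * (y * (a * w * a⁻¹) * y⁻¹) := by rw [eaw, hay, ← eaw]; group
        _ = w⁻¹ * b⁻¹ * ((y * b * y⁻¹) * (y * w * y⁻¹)) := by rw [eaw]; group
        _ = w⁻¹ * (y * w * y⁻¹) := by rw [hyb y hy]; group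
    · have e1 : (w⁻¹ * (y * w * y⁻¹))⁻¹ * (w⁻¹ * (y' * w * y'⁻¹)) = (y * w * y⁻¹)⁻¹ * (y' * w * y'⁻¹) := by
        group
      rw [e1] at hd
      have hp1 := hpt y hy
      have hp2 := hpt y' hy'
      have hcp1 := hp1.2.1
      have hinv : (y * w * y⁻¹)⁻¹ = y * w * y⁻¹ := inv_eq_self (h.fr.pt_sq hcp1.right)
      rw [hinv] at hd
      have hcc1 : Cc V c b (y * w * y⁻¹) := .single hp1
      have hcc2 : Cc V c b (y' * w * y'⁻¹) := .single hp2
      rw [h.cx_eq hcc1] at hd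
      have hne1 := h.cc_ne hcc1 hbne
      refine ⟨mul_mem (inv_mem hy) hy', ?_⟩
      have e2 : y⁻¹ * y' * w * (y⁻¹ * y')⁻¹ = y⁻¹ * (y' * w * y'⁻¹) * y := by group
      rw [e2]
      rcases h.eq_of_cx hcp1 hne1 ((h.cc_symm hcc1).trans hcc2) hd with e | e
      · left
        rw [e]; group
      · right
        rw [e]
        have e3 := hyc y⁻¹ (inv_mem hy)
        rw [inv_inv] at e3
        calc y⁻¹ * (c * (y * w * y⁻¹)) * y = (y⁻¹ * c * y) * w := by group
          _ = c * w := by rw [e3]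
  have c3 : B.relIndex B₂ ≤ 2 := by
    have h1 : B.relIndex B₂ ≤ (⊥ : Subgroup G).relIndex (zpowers c) := by
      refine relIndex_le_of_map (fun y => y * w * y⁻¹ * w⁻¹) (fun y hy => ?_) fun y hy y' hy' hd => ?_
      · rcases hy.2 with e | e
        · rw [e, mul_inv_cancel]; exact one_mem _
        · rw [e, mul_inv_cancel_right]; exact mem_zpowers c
      · have h2 : y * w * y⁻¹ = y' * w * y'⁻¹ := by
          have h3 := inv_mul_eq_one.mp (mem_bot.mp hd)
          exact mul_right_cancel h3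
        refine mem_inf.mpr ⟨mul_mem (inv_mem hy.1) hy'.1, ?_⟩
        rw [mem_centralizer_singleton_iff]
        refine comm_of_conj_eq ?_
        calc y⁻¹ * y' * w * (y⁻¹ * y')⁻¹ = y⁻¹ * (y' * w * y'⁻¹) * y := by group
          _ = w := by rw [← h2]; group
    rwa [relIndex_bot_left, card_zpowers_two (h.fr.pt_sq hcb.left) hcb.ne_one] at h1
  have c4 := relIndex_mul_relIndex B B₂ (ws V a) hBB hB₂
  have c5 : (ws V b).relIndex (ws V a) ≤ B.relIndex (ws V a) :=
    relIndex_le_of_le_left hBb index_ne_zero_of_finite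
  have c6 := h.relIndex_cx_eq hcb hbne hra (hj.ne_left h.toTyN)
  calc (ws V b).relIndex (ws V a) ≤ B.relIndex (ws V a) := c5
    _ = B.relIndex B₂ * B₂.relIndex (ws V a) := c4.symm
    _ ≤ 2 * (cx V c b).relIndex P := Nat.mul_le_mul c3 c2
    _ ≤ (cx V c b).relIndex (ws V c) := c1
    _ = _ := c6

/-- (2.5) -/
theorem card_ii_le (h : KO T V z) {g : G} (hr : r ∈ cj g V) (hb : b ∈ cj g V) (hr1 : r ≠ 1) (hb1 : b ≠ 1)
    (hne : b ≠ r) : Nat.card (ii (cj g V)) ≤ (cx V r b).relIndex (ws V r) := by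
  have hrb : Col V r b := ⟨g, hr, hb, hr1, hb1⟩
  obtain ⟨a, hj⟩ := h.exists_jn hrb hne
  obtain ⟨u, hu, hua⟩ := hj.exists_ne
  have haW := h.fr.mem_ws_of_col hj.2.1
  have hnb := h.not_mem_cx hrb hne
  let P : Subgroup G := ws V r ⊓ centralizer (uu V b : Set G)
  have hDP : cx V r b ≤ P := by
    intro x hx
    refine mem_inf.mpr ⟨hx.1, ?_⟩
    rw [mem_centralizer_iff]
    exact fun u hu => hx.2 b (.refl _ _ _) u hu
  have haP : a ∉ P := fun e => hua (conj_eq_of_comm (mem_centralizer_iff.mp e.2 u hu))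
  have c1 := two_mul_relIndex_le hDP inf_le_left haW haP
  have hiP : ii (cj g V) ≤ P := by
    intro x hx
    refine mem_inf.mpr ⟨h.fr.ii_cj_le hr hr1 hx, ?_⟩
    rw [mem_centralizer_iff]
    exact fun u hu => uu_comm_ws h.toTyN hu (h.fr.ii_cj_le hb hb1 hx)
  have key : ∀ x ∈ ii (cj g V), x ∈ cx V r b → x ∈ zpowers r := by
    intro x hx hxD
    have hxV : x ∈ cj g V := by
      by_contra hxV
      obtain ⟨k, hk, hkV, hkx⟩ := h.fr.fu_cj hx hxV hb hb1
      apply hnb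
      have hkr : k * r * k⁻¹ = r := conj_eq_of_comm (mem_centralizer_iff.mp hkV r hr).symm
      have hkb : k * b * k⁻¹ = b := conj_eq_of_comm (mem_centralizer_iff.mp hkV b hb).symm
      have h1 := conj_mem_cx k hxD
      rw [hkr, hkb, hkx] at h1
      have := mul_mem h1 (inv_mem hxD)
      rwa [mul_inv_cancel_right] at this
    obtain ⟨k, -, -, hf⟩ := h.fr.flag hr hr1
    rcases hf.ln.four hr hb hr1 hb1 hne.symm hxV with e | e | e | e
    · rw [e]; exact one_mem _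
    · rw [e]; exact mem_zpowers r
    · exact absurd (e ▸ hxD) hnb
    · exfalso
      apply hnb
      rw [e] at hxD
      have := mul_mem (inv_mem (h.r_mem_cx hrb)) hxD
      rwa [inv_mul_cancel_left] at this
  have c2 : (zpowers r).relIndex (ii (cj g V)) ≤ (cx V r b).relIndex P := by
    refine relIndex_le_of_map id (fun y hy => hiP hy) fun y hy y' hy' hd => ?_
    exact key _ (mul_mem (inv_mem hy) hy') hd
  have hrI : zpowers r ≤ ii (cj g V) := by
    rw [zpowers_le]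
    obtain ⟨k, -, -, hf⟩ := h.fr.flag hr hr1
    exact hf.V_le_ii hr
  have c3 := card_eq_relIndex_mul (zpowers r) (ii (cj g V))
  rw [inf_eq_left.mpr hrI, card_zpowers_two (h.fr.pt_sq hrb.left) hr1] at c3
  rw [c3]
  calc (zpowers r).relIndex (ii (cj g V)) * 2 ≤ (cx V r b).relIndex P * 2 := Nat.mul_le_mul_right _ c2
    _ = 2 * (cx V r b).relIndex P := mul_comm _ _
    _ ≤ _ := c1

/-- `κ = 1` is impossible -/
theorem false (h : KO T V z) : False := by
  obtain ⟨a₁, a₂, a₃, h1, h2, h3, n1, n2, n3, h12, h13, h23⟩ := h.three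
  have hcard := h.card_ge h1 h2 h3 n1 n2 n3 h12 h13 h23
  set be := (cx V z a₁).relIndex (ws V z) with hbe
  have hpos : 0 < be := relIndex_pos' _ _
  obtain ⟨b, hj'⟩ := h.exists_jn h1 n1
  have hne1 := n1
  obtain ⟨g, hr, hb, hr1, hb1⟩ := id hj'.2.1
  have hbz : b ≠ z := hj'.ne_right h.toTyN
  have hzb : Col V z b := hj'.2.1
  -- `b`, `z b` are joined to `a₁`
  have hj2 : Jn V z a₁ (z * b) := h.j1 _ _ _ (h.jn_mul (h.j1 _ _ _ hj'))
  have i1 := h.relIndex_le hj'
  have i2 := h.relIndex_le hj2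
  rw [← hbe] at i1 i2
  have hzb1 : z * b ≠ 1 := hj2.2.1.symm.ne_one
  have hzbm : z * b ∈ cj g V := mul_mem hr hb
  have hne : z * b ≠ b := fun e => hr1 (by simpa using e)
  have i3 := h.card_ii_le hr hb hr1 hb1 hbz
  rw [h.relIndex_cx_eq hzb hbz h1 n1, ← hbe] at i3
  -- `|W_a ∩ I| ≤ |I| / 2`
  have hbI : b ∈ ii (cj g V) := by
    obtain ⟨k, -, -, hf⟩ := h.fr.flag hr hr1
    exact hf.V_le_ii hb
  have hbn : b ∉ ws V a₁ := hj'.not_mem h.toTyN
  have i4 : 2 * Nat.card (ws V a₁ ⊓ ii (cj g V) : Subgroup G) ≤ Nat.card (ii (cj g V)) := by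
    have e1 := card_eq_relIndex_mul (ws V a₁) (ii (cj g V))
    have e2 : (ws V a₁).relIndex (ii (cj g V)) ≠ 1 := fun e => hbn (relIndex_eq_one.mp e hbI)
    have e3 := relIndex_pos' (ws V a₁) (ii (cj g V))
    rw [e1]
    exact Nat.mul_le_mul_right _ (by omega)
  have i5 : (ws V (z * b) ⊓ (ws V b ⊓ ws V a₁) : Subgroup G) ≤ ws V a₁ ⊓ ii (cj g V) := by
    rintro x ⟨hx1, hx2, hx3⟩
    exact ⟨hx3, h.fr.mem_ii_cj hb hb1 hzbm hzb1 hne hx2 hx1⟩
  have i6 := card_le_of_le i5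
  have c1 := card_eq_relIndex_mul (ws V b) (ws V a₁)
  have c2 := card_eq_relIndex_mul (ws V (z * b)) (ws V b ⊓ ws V a₁)
  have i7 : (ws V (z * b)).relIndex (ws V b ⊓ ws V a₁) ≤ be :=
    (relIndex_le_of_le_right inf_le_right index_ne_zero_of_finite).trans i2
  -- `|W_a| = |W_z|`
  have hcd : Nat.card (ws V a₁) = Nat.card (ws V z) := by
    obtain ⟨g', e⟩ := h.fr.exists_conj h1.left h1.right
    rw [← e, ← cj_ws, card_cj]
  rw [← hcd] at hcard
  have c3 : 2 * Nat.card (ws V a₁) ≤ be ^ 3 := by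
    calc 2 * Nat.card (ws V a₁) = (ws V b).relIndex (ws V a₁) * ((ws V (z * b)).relIndex (ws V b ⊓ ws V a₁) *
          (2 * Nat.card (ws V (z * b) ⊓ (ws V b ⊓ ws V a₁) : Subgroup G))) := by rw [c1, c2]; ring
      _ ≤ be * (be * be) := Nat.mul_le_mul i1 (Nat.mul_le_mul i7 (by omega))
      _ = be ^ 3 := by ring
  have : 0 < be ^ 3 := pow_pos hpos 3
  omega

end KO

/-- **section 2: `κ = 1` is impossible** -/
theorem false_of_kap_one [Finite G] {T V : Subgroup G} {z : G} (h : TyN T V z)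
    (hc : ∃ a r b, Mid T V z a r b) (hk : ¬ K2 V) (hj : ∀ r a b, Jn V r a b → Jn V r b a) : False :=
  KO.false { h with crit := hc, k1 := hk, j1 := hj }

end Cfsg.Agent.Omega.NO3S.TypeN

end

section


/-!
# NO-3S, `|V| = 4`, `n = 2`: TYPE N is impossible (helper60, bb #16001)

`TyN.false` : no critical pair in TYPE N.
-/

set_option autoImplicit false

namespace Cfsg.Agent.Omega.NO3S.TypeN

open Subgroup Cfsg.Agent.Omega.NO3S.TwoMid Cfsg.Agent.Omega.NO3S.Pt

universe u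

variable {G : Type u} [Group G] [Finite G] {T V : Subgroup G} {z : G}

/-- **TYPE N is impossible** (K-free). -/
theorem false_of_tyN (h : TyN T V z) {a r b : G} (hm : Mid T V z a r b) : False := by
  have j1 : ∀ r a b, Jn V r a b → Jn V r b a := fun r a b hj => jn_symm h hj
  by_cases hK : K2 V
  · by_cases hA : ∃ c p r, Mid T V z c p r ∧ Jn V p r c
    · obtain ⟨c, p, r, hm, hj⟩ := hA
      exact a1 { h with j1 := j1, j2 := fun r a b c h1 h2 h3 h4 => jn_trans h hK h1 h2 h3 h4 } hm hj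
    · push Not at hA
      exact a2 h hK j1 hA
  · exact false_of_kap_one h ⟨a, r, b, hm⟩ hK j1

/-- in the form of a conclusion about critical pairs: with TYPE N all pairs at distance 2 commute -/
theorem com_of_tyN (h : TyN T V z) {a r b : G} (h1 : Col V a r) (h2 : Col V r b) : Com V a b := by
  by_contra hne
  exact false_of_tyN h { h.toTwo with pr := h1, rq := h2, ne := hne }

end Cfsg.Agent.Omega.NO3S.TypeN

end
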